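import Cfsg.Agent.Lib.Steiner.M11.Three

/-!
# A simple group of order 7920: `|N(S)| = 144`, one class of involutions, `|C(u)| = 48`
-/

set_option autoImplicit false

namespace Cfsg.Agent.Steiner.M11

open Subgroup Cfsg.Agent.SmallGroups

variable {G : Type*} [Group G] [Fintype G]

theorem exists_sylow3_mem [Fact (Nat.Prime 3)] {y : G} (hy : orderOf y = 3) :
    ∃ P : Sylow 3 G, y ∈ (P : Subgroup G) := exists_mem_sylow hy

/-- Elements of order 3: centralisers lie in the normaliser of a Sylow subgroup, order 9 or 18. -/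
theorem centralizer_three (hG : Cfsg.IsM11 G) [Fact (Nat.Prime 3)] (P : Sylow 3 G) {y : G}
    (hy : y ∈ (P : Subgroup G)) (hy1 : y ≠ 1) :
    centralizer ({y} : Set G) ≤ normalizer ((P : Subgroup G) : Set G) ∧
      (Nat.card (centralizer ({y} : Set G)) = 9 ∨ Nat.card (centralizer ({y} : Set G)) = 18) := by
  classical
  have hP := card_sylow3 hG P
  have hyo : orderOf y = 3 := orderOf_eq_prime (exponent_three hG P hy) hy1
  obtain ⟨g, -, hg⟩ := exists_inverter hG P
  have hlt := (caseC hG).elim fun γ h => h.2.2 y hyo (isConj_iff.mpr ⟨g, hg y hy⟩)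
  set C := centralizer ({y} : Set G) with hC
  have hle : (P : Subgroup G) ≤ C := fun a ha =>
    mem_centralizer_singleton_iff.mpr (comm_of_card_nine hP ha hy).eq
  have h9 : 9 ∣ Nat.card C := hP ▸ card_dvd_of_le hle
  have hdvd : Nat.card C ∣ 7920 := card_eq hG ▸ card_subgroup_dvd_card C
  have hno : ∀ q, q = 5 ∨ q = 11 → ¬ q ∣ Nat.card C := by
    intro q hq h
    have : Fact q.Prime := ⟨by rcases hq with rfl | rfl <;> norm_num⟩
    obtain ⟨⟨g, hg⟩, hgo⟩ := exists_prime_orderOf_dvd_card' (G := C) q h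
    rw [orderOf_mk] at hgo
    exact not_commute_three hG hq hgo hyo (mem_centralizer_singleton_iff.mp hg)
  have hcard : Nat.card C = 9 ∨ Nat.card C = 18 := by
    obtain ⟨k, hk⟩ := h9
    rw [hk] at hdvd hlt hno ⊢
    have hk2 : k ≤ 2 := by omega
    interval_cases k <;> simp_all
  refine ⟨?_, hcard⟩
  have hidx : ((P : Subgroup G).subgroupOf C).index = 1 ∨
      ((P : Subgroup G).subgroupOf C).index = 2 := by
    have h := ((P : Subgroup G).subgroupOf C).card_mul_index
    rw [Nat.card_congr (subgroupOfEquivOfLe hle).toEquiv, hP] at h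
    omega
  have hnorm : ((P : Subgroup G).subgroupOf C).Normal := by
    rcases hidx with h | h
    · rw [index_eq_one.mp h]; infer_instance
    · exact normal_of_index_eq_two h
  exact (normal_subgroupOf_iff_le_normalizer hle).mp hnorm

theorem card_sylow3_eq (hG : Cfsg.IsM11 G) [Fact (Nat.Prime 3)] : Nat.card (Sylow 3 G) = 55 := by
  obtain ⟨P⟩ := (inferInstance : Nonempty (Sylow 3 G))
  rcases card_normalizer_cases hG P with ⟨-, h⟩ | ⟨-, h⟩
  · exact h
  exfalso
  obtain ⟨P, R, hne, hidx⟩ := exists_small_index_inter (p := 3) (G := G) 2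
    (by rw [h]; decide)
  have hP := card_sylow3 hG P
  have hR := card_sylow3 hG R
  set H := (R : Subgroup G).subgroupOf (P : Subgroup G) with hH
  have hbot : H ≠ ⊥ := by
    intro hb
    rw [hb, index_bot, hP] at hidx
    norm_num at hidx
  obtain ⟨⟨y, hyP⟩, hy, hy1⟩ := H.bot_or_exists_ne_one.resolve_left hbot
  have hyR : y ∈ (R : Subgroup G) := hy
  have hy1' : y ≠ 1 := fun h => hy1 (Subtype.ext h)
  have hle : (R : Subgroup G) ≤ normalizer ((P : Subgroup G) : Set G) := fun a ha =>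
    (centralizer_three hG P hyP hy1').1
      (mem_centralizer_singleton_iff.mpr (comm_of_card_nine hR ha hyR).eq)
  apply hne
  refine (Sylow.ext (eq_of_le_of_card_ge ?_ (by rw [hP, hR]))).symm
  exact (le_inf le_rfl hle).trans ((R.2.inf_normalizer_sylow P).le.trans inf_le_right)

/-- The normaliser of a Sylow 3-subgroup has order 144. -/
theorem card_normalizer3 (hG : Cfsg.IsM11 G) [Fact (Nat.Prime 3)] (P : Sylow 3 G) :
    Nat.card ↥(normalizer ((P : Subgroup G) : Set G)) = 144 := by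
  rcases card_normalizer_cases hG P with ⟨h, -⟩ | ⟨-, h⟩
  · exact h
  · rw [card_sylow3_eq hG] at h
    norm_num at h

/-- The normaliser is transitive on the nontrivial elements, with point centralisers of order
18. -/
theorem transitive_three (hG : Cfsg.IsM11 G) [Fact (Nat.Prime 3)] (P : Sylow 3 G) {y : G}
    (hy : y ∈ (P : Subgroup G)) (hy1 : y ≠ 1) :
    Nat.card (centralizer ({y} : Set G)) = 18 ∧
      ∀ w ∈ (P : Subgroup G), w ≠ 1 →
        ∃ g ∈ normalizer ((P : Subgroup G) : Set G), g * y * g⁻¹ = w := by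
  classical
  have hN := card_normalizer3 hG P
  have hP := card_sylow3 hG P
  set N := normalizer ((P : Subgroup G) : Set G)
  have := Fintype.ofFinite N
  obtain ⟨hle, hC⟩ := centralizer_three hG P hy hy1
  set T : Finset G := Finset.univ.filter fun w => w ∈ (P : Subgroup G) ∧ w ≠ 1 with hT
  have hTcard : T.card = 8 := by
    have h1 : (Finset.univ.filter fun w => w ∈ (P : Subgroup G)).card = 9 := by
      rw [← hP, Nat.card_eq_fintype_card, Fintype.card_subtype]
    have h2 : T = (Finset.univ.filter fun w => w ∈ (P : Subgroup G)).erase 1 := by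
      ext w; simp [hT, and_comm]
    rw [h2, Finset.card_erase_of_mem (by simp), h1]
  set I := (Finset.univ : Finset N).image fun g : N => (g : G) * y * (g : G)⁻¹ with hI
  have hsub : I ⊆ T := by
    intro w hw
    obtain ⟨g, -, rfl⟩ := Finset.mem_image.mp hw
    refine Finset.mem_filter.mpr ⟨Finset.mem_univ _, (mem_normalizer_iff.mp g.2 y).mp hy, ?_⟩
    simpa [conj_eq_one_iff] using hy1
  have hfib : ∀ w ∈ I, ((Finset.univ : Finset N).filter fun g : N =>
      (g : G) * y * (g : G)⁻¹ = w).card ≤ Nat.card (centralizer ({y} : Set G)) := by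
    intro w hw
    obtain ⟨g₀, -, rfl⟩ := Finset.mem_image.mp hw
    rw [← Nat.card_eq_finsetCard]
    refine Nat.card_le_card_of_injective (fun g => ⟨(g₀ : G)⁻¹ * (g.1 : G), ?_⟩) ?_
    · rw [mem_centralizer_singleton_iff]
      have h := (Finset.mem_filter.mp g.2).2
      calc (g₀ : G)⁻¹ * (g.1 : G) * y = (g₀ : G)⁻¹ * ((g.1 : G) * y * (g.1 : G)⁻¹) * (g.1 : G) := by
            group
        _ = (g₀ : G)⁻¹ * ((g₀ : G) * y * (g₀ : G)⁻¹) * (g.1 : G) := by rw [h]
        _ = y * ((g₀ : G)⁻¹ * (g.1 : G)) := by group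
    · intro a b hab
      exact Subtype.ext (Subtype.ext (mul_left_cancel (congrArg Subtype.val hab)))
  have hbound : 144 ≤ Nat.card (centralizer ({y} : Set G)) * I.card := by
    have h := Finset.card_le_mul_card_image (Finset.univ : Finset N) _ hfib
    rwa [Finset.card_univ, ← Nat.card_eq_fintype_card, hN] at h
  have hI8 : I.card ≤ 8 := hTcard ▸ Finset.card_le_card hsub
  have h18 : Nat.card (centralizer ({y} : Set G)) = 18 := by
    rcases hC with h | h
    · rw [h] at hbound; omega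
    · exact h
  refine ⟨h18, fun w hw hw1 => ?_⟩
  have hIT : I = T := Finset.eq_of_subset_of_card_le hsub (by rw [h18] at hbound; omega)
  have hw' : w ∈ I := hIT.symm ▸ Finset.mem_filter.mpr ⟨Finset.mem_univ _, hw, hw1⟩
  obtain ⟨g, -, hg⟩ := Finset.mem_image.mp hw'
  exact ⟨g, g.2, hg⟩

/-- All elements of order 3 are conjugate. -/
theorem isConj_three (hG : Cfsg.IsM11 G) {a b : G} (ha : orderOf a = 3) (hb : orderOf b = 3) :
    IsConj a b := by
  have : Fact (Nat.Prime 3) := ⟨by norm_num⟩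
  obtain ⟨P, hP⟩ := exists_sylow3_mem ha
  obtain ⟨R, hR⟩ := exists_sylow3_mem hb
  obtain ⟨g, hg⟩ := MulAction.exists_smul_eq G R P
  have hgb : g * b * g⁻¹ ∈ (P : Subgroup G) := by
    rw [← hg, Sylow.coe_subgroup_smul, Subgroup.pointwise_smul_def]
    exact ⟨b, hR, rfl⟩
  have hb1 : g * b * g⁻¹ ≠ 1 := fun h => by
    rw [conj_eq_one_iff] at h; rw [h, orderOf_one] at hb; norm_num at hb
  obtain ⟨c, -, hc⟩ := (transitive_three hG P hP
    (fun h => by rw [h, orderOf_one] at ha; norm_num at ha)).2 _ hgb hb1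
  exact (isConj_iff.mpr ⟨c, hc⟩).trans (isConj_iff.mpr ⟨g, rfl⟩).symm

/-- A Sylow 2-subgroup has a subgroup `Q` of index 2 with at most one involution. -/
theorem exists_Q (hG : Cfsg.IsM11 G) [Fact (Nat.Prime 2)] :
    ∃ (T : Sylow 2 G) (Q : Subgroup G), Q ≤ (T : Subgroup G) ∧
      Q.relIndex (T : Subgroup G) = 2 ∧ Nat.card (T : Subgroup G) = 16 ∧
      (∀ t ∈ (T : Subgroup G), ∀ q ∈ Q, t * q * t⁻¹ ∈ Q) ∧
      ∀ a ∈ Q, ∀ b ∈ Q, orderOf a = 2 → orderOf b = 2 → a = b := by
  classical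
  have : Fact (Nat.Prime 3) := ⟨by norm_num⟩
  obtain ⟨P⟩ := (inferInstance : Nonempty (Sylow 3 G))
  have hP := card_sylow3 hG P
  have hCS := centralizer_eq hG P
  have hN := card_normalizer3 hG P
  set S := (P : Subgroup G) with hS
  set N := normalizer (S : Set G) with hNdef
  obtain ⟨⟨y, hy⟩, hyo⟩ := exists_prime_orderOf_dvd_card' (G := S) 3 (by rw [hP]; norm_num)
  rw [orderOf_mk] at hyo
  have hy1 : y ≠ 1 := fun h => by rw [h, orderOf_one] at hyo; norm_num at hyo
  obtain ⟨⟨u, hu⟩, huo⟩ := exists_prime_orderOf_dvd_card'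
    (G := ↥(centralizer ({y} : Set G))) 2 (by rw [(transitive_three hG P hy hy1).1]; norm_num)
  rw [orderOf_mk] at huo
  have huN : u ∈ N := (centralizer_three hG P hy hy1).1 hu
  obtain ⟨T₀, hT₀⟩ := exists_mem_sylow (p := 2) (y := (⟨u, huN⟩ : N)) (by rw [orderOf_mk, huo])
  have hT16 : Nat.card ↥((T₀ : Subgroup N).map N.subtype) = 16 := by
    rw [← Nat.card_congr ((T₀ : Subgroup N).equivMapOfInjective N.subtype
      N.subtype_injective).toEquiv]
    simpa using card_sylow_eq (p := 2) (a := 4) (m := 9) (by rw [hN]; norm_num) (by norm_num) T₀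
  have hfac : (Nat.card G).factorization 2 = 4 := by
    rw [card_eq hG, show (7920 : ℕ) = 2 ^ 4 * 495 by norm_num,
      Nat.factorization_mul (by norm_num) (by norm_num), Finsupp.add_apply,
      Nat.prime_two.factorization_pow, Nat.factorization_eq_zero_of_not_dvd (by norm_num)]
    simp
  let T : Sylow 2 G := Sylow.ofCard ((T₀ : Subgroup N).map N.subtype) (by rw [hT16, hfac]; norm_num)
  have hT : ((T : Sylow 2 G) : Subgroup G) = (T₀ : Subgroup N).map N.subtype := rfl
  let σ : N →* Equiv.Perm S := (MulAut.toPerm _).comp S.normalizerMonoidHom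
  let sg : N →* ℤˣ := Equiv.Perm.sign.comp σ
  set Q := ((T₀ : Subgroup N) ⊓ sg.ker).map N.subtype with hQ
  have hσ : ∀ (t : N) (b : S), ((σ t b : S) : G) = (t : G) * b * (t : G)⁻¹ := fun t b => rfl
  have hQT : Q ≤ (T : Subgroup G) := hT ▸ map_mono inf_le_left
  -- involutions in `N`
  have hinv : ∀ t : N, orderOf (t : G) = 2 →
      sg t = -1 ∨ ∀ b ∈ S, (t : G) * b * (t : G)⁻¹ = b⁻¹ := by
    intro t ht
    set F := S ⊓ centralizer ({(t : G)} : Set G) with hF
    have hfix : Fintype.card (Function.fixedPoints (σ t)) = Nat.card F := by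
      rw [← Nat.card_eq_fintype_card]
      exact Nat.card_congr
        { toFun := fun b => ⟨b.1.1, b.1.2, by
            show b.1.1 ∈ centralizer ({(t : G)} : Set G)
            rw [mem_centralizer_singleton_iff]
            have h : (t : G) * b.1.1 * (t : G)⁻¹ = b.1.1 := by rw [← hσ]; exact congrArg Subtype.val b.2
            exact (mul_inv_eq_iff_eq_mul.mp h).symm⟩
          invFun := fun b => ⟨⟨b.1, b.2.1⟩, Subtype.ext ((hσ t ⟨b.1, b.2.1⟩).trans
            (mul_inv_eq_iff_eq_mul.mpr (mem_centralizer_singleton_iff.mp b.2.2).symm))⟩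
          left_inv := fun b => rfl
          right_inv := fun b => rfl }
    have hd : Nat.card F ∣ 3 ^ 2 := by
      rw [show (3 : ℕ) ^ 2 = 9 by norm_num]; exact hP ▸ card_dvd_of_le inf_le_left
    obtain ⟨j, hj, hFc⟩ := (Nat.dvd_prime_pow (by norm_num)).mp hd
    have ht2 : (t : G) * (t : G) = 1 := by rw [← sq, ← ht, pow_orderOf_eq_one]
    interval_cases j
    · refine Or.inr fun b hb => eq_inv_of_mul_eq_one_right ?_
      have hF1 : F = ⊥ := eq_bot_of_card_eq F (by rw [hFc, pow_zero])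
      have htb : (t : G) * b * (t : G)⁻¹ ∈ S := (mem_normalizer_iff.mp t.2 b).mp hb
      have hmem : b * ((t : G) * b * (t : G)⁻¹) ∈ F := by
        refine ⟨mul_mem hb htb, mem_centralizer_singleton_iff.mpr ?_⟩
        have hti : (t : G)⁻¹ = (t : G) := inv_eq_of_mul_eq_one_right ht2
        calc b * ((t : G) * b * (t : G)⁻¹) * t = (t : G) * b * (t : G)⁻¹ * b * t := by
              rw [(comm_of_card_nine hP hb htb).eq]
          _ = (t : G) * (b * ((t : G) * b * (t : G)⁻¹)) := by rw [hti]; group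
      exact mem_bot.mp (hF1 ▸ hmem)
    · refine Or.inl ?_
      show Equiv.Perm.sign (σ t) = -1
      have hσ2 : σ t ^ 2 = 1 := by
        rw [← map_pow, show t ^ 2 = 1 from Subtype.ext (by rw [sq]; exact ht2), map_one]
      rw [Equiv.Perm.sign_of_pow_two_eq_one hσ2, hfix, hFc, ← Nat.card_eq_fintype_card, hP]
      norm_num
    · exfalso
      have hFS : F = S := eq_of_le_of_card_ge inf_le_left (by rw [hP, hFc]; norm_num)
      exact not_centralizes_nine hG hP ht fun b hb =>
        (mem_centralizer_singleton_iff.mp (hFS.symm ▸ hb : b ∈ F).2).symm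
  have hu_odd : sg ⟨u, huN⟩ = -1 := by
    refine (hinv _ huo).resolve_right fun h => ?_
    have h1 := h y hy
    simp only at h1
    rw [mul_inv_eq_iff_eq_mul.mpr (mem_centralizer_singleton_iff.mp hu)] at h1
    have := orderOf_dvd_of_pow_eq_one (show y ^ 2 = 1 by
      rw [sq]; nth_rewrite 2 [h1]; exact mul_inv_cancel y)
    rw [hyo] at this
    norm_num at this
  refine ⟨T, Q, hQT, ?_, hT ▸ hT16, ?_, ?_⟩
  · rw [hT, hQ, relIndex_map_map_of_injective _ _ N.subtype_injective, inf_relIndex_left]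
    rw [relIndex_ker]
    have hrange : (T₀ : Subgroup N).map sg = ⊤ := by
      rw [eq_top_iff]
      intro v _
      rcases Int.units_eq_one_or v with rfl | rfl
      · exact one_mem _
      · exact ⟨⟨u, huN⟩, hT₀, hu_odd⟩
    rw [hrange, card_top, Nat.card_eq_fintype_card, Fintype.card_units_int]
  · intro t ht q hq
    rw [hT] at ht
    obtain ⟨t', ht', rfl⟩ := ht
    obtain ⟨q', ⟨hq1, hq2⟩, rfl⟩ := hq
    have h2 : sg q' = 1 := hq2
    refine ⟨t' * q' * t'⁻¹, ⟨(T₀ : Subgroup N).mul_mem ((T₀ : Subgroup N).mul_mem ht' hq1)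
      ((T₀ : Subgroup N).inv_mem ht'), ?_⟩, by simp⟩
    show sg (t' * q' * t'⁻¹) = 1
    rw [map_mul, map_mul, h2, mul_one, map_inv, mul_inv_cancel]
  · intro a ha b hb hao hbo
    obtain ⟨a', ⟨ha1, ha2⟩, rfl⟩ := ha
    obtain ⟨b', ⟨hb1, hb2⟩, rfl⟩ := hb
    have hia := (hinv a' hao).resolve_left (by rw [(ha2 : sg a' = 1)]; decide)
    have hib := (hinv b' hbo).resolve_left (by rw [(hb2 : sg b' = 1)]; decide)
    have hw : ((b' : G)⁻¹ * (a' : G)) ∈ S := by
      rw [← hCS, mem_centralizer_iff]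
      intro c hc
      have h1 : (a' : G) * c * (a' : G)⁻¹ = (b' : G) * c * (b' : G)⁻¹ := by rw [hia c hc, hib c hc]
      calc c * ((b' : G)⁻¹ * a') = (b' : G)⁻¹ * ((b' : G) * c * (b' : G)⁻¹) * a' := by group
        _ = (b' : G)⁻¹ * ((a' : G) * c * (a' : G)⁻¹) * a' := by rw [h1]
        _ = (b' : G)⁻¹ * (a' : G) * c := by group
    have h16 : orderOf ((b' : G)⁻¹ * (a' : G)) ∣ 16 := hT16 ▸ Subgroup.orderOf_dvd_natCard _
      ⟨b'⁻¹ * a', (T₀ : Subgroup N).mul_mem ((T₀ : Subgroup N).inv_mem hb1) ha1, by simp⟩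
    have h1 : (b' : G)⁻¹ * (a' : G) = 1 := orderOf_eq_one_iff.mp (Nat.eq_one_of_dvd_coprimes
      (by norm_num : Nat.Coprime 16 9) h16 (hP ▸ Subgroup.orderOf_dvd_natCard S hw))
    exact (inv_mul_eq_one.mp h1).symm

/-- All involutions are conjugate. -/
theorem isConj_two (hG : Cfsg.IsM11 G) {a b : G} (ha : orderOf a = 2) (hb : orderOf b = 2) :
    IsConj a b := by
  classical
  have : Fact (Nat.Prime 2) := ⟨Nat.prime_two⟩
  have := hG.1
  obtain ⟨T, Q, hQT, hQi, -, -, huniq⟩ := exists_Q hG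
  have hmeet : ∀ w : G, orderOf w = 2 → ∃ g : G, g * w * g⁻¹ ∈ Q := by
    intro w hw
    by_contra h
    push_neg at h
    obtain ⟨M, hMn, hMi, -⟩ := Involution.thompson_transfer T Q hQT hQi
      (by rw [← sq, ← hw, pow_orderOf_eq_one]) h
    rcases hMn.eq_bot_or_eq_top with hM | hM
    · rw [hM, index_bot, card_eq hG] at hMi; norm_num at hMi
    · rw [hM, index_top] at hMi; norm_num at hMi
  obtain ⟨g, hg⟩ := hmeet a ha
  obtain ⟨h, hh⟩ := hmeet b hb
  have hgo : orderOf (g * a * g⁻¹) = 2 := by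
    rw [← MulAut.conj_apply, MulEquiv.orderOf_eq, ha]
  have hho : orderOf (h * b * h⁻¹) = 2 := by
    rw [← MulAut.conj_apply, MulEquiv.orderOf_eq, hb]
  exact (isConj_iff.mpr ⟨g, huniq _ hg _ hh hgo hho⟩).trans (isConj_iff.mpr ⟨h, rfl⟩).symm

theorem card_centralizer_conj {a b : G} (h : IsConj a b) :
    Nat.card (centralizer ({a} : Set G)) = Nat.card (centralizer ({b} : Set G)) := by
  have h1 := card_conj_mul_centralizer a
  have h2 := card_conj_mul_centralizer b
  have hc : Nat.card {g : G // IsConj a g} = Nat.card {g : G // IsConj b g} :=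
    Nat.card_congr (Equiv.subtypeEquivRight fun z =>
      ⟨fun h' => h.symm.trans h', fun h' => h.trans h'⟩)
  rw [hc] at h1
  have : Nonempty {g : G // IsConj b g} := ⟨⟨b, IsConj.refl b⟩⟩
  exact Nat.eq_of_mul_eq_mul_left Nat.card_pos (h1.trans h2.symm)

/-- Involution centralisers have order 48. -/
theorem card_centralizer_two (hG : Cfsg.IsM11 G) {u : G} (hu : orderOf u = 2) :
    Nat.card (centralizer ({u} : Set G)) = 48 := by
  classical
  have : Fact (Nat.Prime 2) := ⟨Nat.prime_two⟩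
  have : Fact (Nat.Prime 3) := ⟨by norm_num⟩
  obtain ⟨T, Q, hQT, hQi, hT16, hQn, huniq⟩ := exists_Q hG
  -- a multiple of 16
  obtain ⟨⟨z, hz⟩, hzo⟩ : ∃ z : Q, orderOf (z : G) = 2 := by
    have h8 : 2 ∣ Nat.card Q := by
      have h := (Q.subgroupOf (T : Subgroup G)).card_mul_index
      rw [Nat.card_congr (subgroupOfEquivOfLe hQT).toEquiv, hT16,
        show (Q.subgroupOf (T : Subgroup G)).index = 2 from hQi] at h
      omega
    obtain ⟨⟨z, hz⟩, hzo⟩ := exists_prime_orderOf_dvd_card' (G := Q) 2 h8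
    exact ⟨⟨z, hz⟩, by rw [orderOf_mk] at hzo; exact hzo⟩
  simp only at hzo
  have h16 : 16 ∣ Nat.card (centralizer ({u} : Set G)) := by
    rw [card_centralizer_conj (isConj_two hG hu hzo), ← hT16]
    refine card_dvd_of_le fun t ht => mem_centralizer_singleton_iff.mpr ?_
    have h := huniq _ (hQn t ht z hz) z hz
      (by rw [← MulAut.conj_apply, MulEquiv.orderOf_eq, hzo]) hzo
    exact mul_inv_eq_iff_eq_mul.mp h
  -- a multiple of 3
  obtain ⟨P⟩ := (inferInstance : Nonempty (Sylow 3 G))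
  obtain ⟨⟨y, hy⟩, hyo⟩ := exists_prime_orderOf_dvd_card' (G := ↥(P : Subgroup G)) 3
    (by rw [card_sylow3 hG P]; norm_num)
  rw [orderOf_mk] at hyo
  have hy1 : y ≠ 1 := fun h => by rw [h, orderOf_one] at hyo; norm_num at hyo
  obtain ⟨⟨w, hw⟩, hwo⟩ := exists_prime_orderOf_dvd_card'
    (G := ↥(centralizer ({y} : Set G))) 2 (by rw [(transitive_three hG P hy hy1).1]; norm_num)
  rw [orderOf_mk] at hwo
  have h3 : 3 ∣ Nat.card (centralizer ({u} : Set G)) := by
    rw [card_centralizer_conj (isConj_two hG hu hwo), ← hyo]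
    exact Subgroup.orderOf_dvd_natCard _
      (mem_centralizer_singleton_iff.mpr (mem_centralizer_singleton_iff.mp hw).symm)
  -- and no more
  set C := centralizer ({u} : Set G) with hC
  obtain ⟨k, hk⟩ : 48 ∣ Nat.card C := Nat.Coprime.mul_dvd_of_dvd_of_dvd
    (by norm_num : Nat.Coprime 16 3) h16 h3
  have hdvd : k ∣ 165 := by
    have h := card_subgroup_dvd_card C
    rw [hk, card_eq hG, show (7920 : ℕ) = 48 * 165 by norm_num] at h
    exact Nat.dvd_of_mul_dvd_mul_left (by norm_num) h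
  by_contra hne
  have hk1 : k ≠ 1 := fun h => hne (by rw [hk, h])
  obtain ⟨q, hqp, hqk⟩ : ∃ q, q.Prime ∧ q ∣ k := ⟨_, Nat.minFac_prime hk1, Nat.minFac_dvd k⟩
  have key : ∀ d ∈ (165 : ℕ).divisors, d.Prime → d = 3 ∨ d = 5 ∨ d = 11 := by decide +kernel
  rcases key q (Nat.mem_divisors.mpr ⟨hqk.trans hdvd, by norm_num⟩) hqp with rfl | rfl | rfl
  · obtain ⟨H, hH⟩ := Sylow.exists_subgroup_card_pow_prime (G := C) 3 (n := 2) (by
      rw [hk]
      obtain ⟨m, rfl⟩ := hqk
      exact ⟨16 * m, by ring⟩)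
    refine not_centralizes_nine hG (S := H.map C.subtype) ?_ hu fun b hb => ?_
    · rw [← Nat.card_congr (H.equivMapOfInjective C.subtype C.subtype_injective).toEquiv, hH]
      norm_num
    · obtain ⟨⟨b', hb'⟩, -, rfl⟩ := hb
      exact (mem_centralizer_singleton_iff.mp hb').symm
  · obtain ⟨⟨g, hg⟩, hgo⟩ := exists_prime_orderOf_dvd_card' (G := C) 5
      (hk ▸ hqk.mul_left 48) (hp := ⟨hqp⟩)
    rw [orderOf_mk] at hgo
    exact not_commute_five_two hG hgo hu (mem_centralizer_singleton_iff.mp hg)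
  · obtain ⟨⟨g, hg⟩, hgo⟩ := exists_prime_orderOf_dvd_card' (G := C) 11
      (hk ▸ hqk.mul_left 48) (hp := ⟨hqp⟩)
    rw [orderOf_mk] at hgo
    have := orderOf_dvd_of_pow_eq_one
      (pow_eleven_of_commute hG hgo (mem_centralizer_singleton_iff.mp hg))
    rw [hu] at this
    norm_num at this

end Cfsg.Agent.Steiner.M11
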