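import Cfsg.Agent.Lib.Steiner.M11.Index11
import Cfsg.Agent.Lib.Steiner.Sharp11Unique

/-!
# Simple groups of order 7920 are isomorphic
-/

set_option autoImplicit false

namespace Cfsg.Agent.Steiner.M11

universe u v

/-- A simple group of order 7920 is the automorphism group of an `S(4, 5, 11)` on `Fin 11`. -/
theorem exists_mulEquiv_model {G : Type u} [Group G] [Finite G] (hG : Cfsg.IsM11 G) :
    Nonempty (G ≃* Cfsg.setSystemAut (decSet 11 model11)) := by
  classical
  have := Fintype.ofFinite G
  obtain ⟨L, hL, htrans, hfree⟩ := exists_sharp4 hG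
  have := Fintype.ofFinite (G ⧸ L)
  have hcard : Fintype.card (G ⧸ L) = 11 := by rw [← Nat.card_eq_fintype_card, hL]
  obtain ⟨B, hB, ⟨φ⟩⟩ := exists_mulEquiv_of_sharp (G := G) (α := G ⧸ L) hfree hG hcard
  let a := Fintype.equivFinOfCardEq hcard
  obtain ⟨e, he⟩ := normalForm11 _ (steiner_image hB a)
  rw [Set.image_image] at he
  simp only [Finset.image_image] at he
  obtain ⟨f, -⟩ := exists_mulEquiv_setSystemAut (B := B) (B' := decSet 11 model11) (a.trans e) he
  exact ⟨φ.trans f⟩

/-- Any two simple groups of order 7920 are isomorphic. -/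
theorem nonempty_mulEquiv {G : Type u} [Group G] [Finite G] {H : Type v} [Group H] [Finite H]
    (hG : Cfsg.IsM11 G) (hH : Cfsg.IsM11 H) : Nonempty (G ≃* H) := by
  obtain ⟨f⟩ := exists_mulEquiv_model hG
  obtain ⟨g⟩ := exists_mulEquiv_model hH
  exact ⟨f.trans g.symm⟩

end Cfsg.Agent.Steiner.M11
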