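import Cfsg.Agent.Lib.Steiner.M11.Data

/-!
# The degrees and values of a few characters of a simple group of order 7920
-/

set_option autoImplicit false

open scoped ComplexConjugate

namespace Cfsg.Agent.Steiner.M11

open Subgroup
open Cfsg.Agent.SmallGroups.SelfCent (Setup deg_eq_one_iff exists_setup_of_prime)
open Cfsg.Agent.SmallGroups.SelfCent.Setup (deg deg_spec triv deg_triv)

variable {G : Type*} [Group G] [Fintype G] [Fact (Nat.Prime 11)]
variable {s : Setup G 11} [Fintype s.Orb] [DecidableEq (Cfsg.IrrCharacter G)]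

private theorem divisors_small : ∀ d ∈ (7920 : ℕ).divisors, d * d ≤ 7920 →
    (d ∣ 1440 → d % 11 = 2 → d = 2 ∨ d = 24) ∧ (d ∣ 1440 → d % 11 = 9 → d = 9 ∨ d = 20) ∧
    (d ∣ 720 → d % 11 = 1 → d = 1 ∨ d = 12 ∨ d = 45) ∧ (d ∣ 720 → d % 11 = 10 → d = 10) := by
  decide +kernel

private theorem divisors_b : ∀ d ∈ (720 : ℕ).divisors,
    d ≠ 17 ∧ d ≠ 27 ∧ d ≠ 38 ∧ d ≠ 39 ∧ d ≠ 49 ∧ d ≠ 71 ∧ d ≠ 82 ∧ d ≠ 93 ∧ d ≠ 115 ∧ d ≠ 126 ∧
      d ≠ 137 ∧ d ≠ 148 ∧ d ≠ 181 := by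
  decide +kernel

theorem b_dvd (hG : Cfsg.IsM11 G) (hK : s.K = ⊥) (he : Nat.card s.auto = 5) (D : s.Data)
    (hd : D.d = 0) : D.b ∣ 720 ∧ (11 : ℤ) ∣ (D.b : ℤ) - 5 * D.eps := by
  classical
  obtain ⟨o₀⟩ : Nonempty s.Orb := inferInstance
  obtain ⟨n, -, hn, hmod⟩ := D.fix_congr (D.f o₀)
  rw [hn hK, if_pos ⟨o₀, rfl⟩, D.c_f, hd, D.deg_f, he, neg_zero, zero_add] at hmod
  have hmodb : (11 : ℤ) ∣ (D.b : ℤ) - 5 * D.eps := by exact_mod_cast hmod.symm.dvd
  refine ⟨?_, hmodb⟩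
  have := D.deg_dvd_exceptional o₀ (by rcases D.eps_eq with h | h <;> rw [h] at hmodb <;> omega)
  rwa [show Nat.card G / 11 = 720 by rw [card_eq hG]] at this

/-- The non-exceptional, nontrivial characters with nonzero coefficient: four of degree 10, 12
or 45. -/
theorem exists_four (hG : Cfsg.IsM11 G) (hK : s.K = ⊥) (he : Nat.card s.auto = 5) (D : s.Data)
    (hd : D.d = 0) : ∃ R : Finset (Cfsg.IrrCharacter G), R.card = 4 ∧ triv ∉ R ∧
      (∀ o, D.f o ∉ R) ∧ (∀ χ, χ ≠ triv → χ ∉ R → D.c χ = 0) ∧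
      ∀ χ ∈ R, (D.c χ = 1 ∧ deg χ = 10) ∨ (D.c χ = -1 ∧ (deg χ = 12 ∨ deg χ = 45)) := by
  classical
  have := hG.1
  have hnc := not_comm hG
  set R := (Finset.univ.erase (triv : Cfsg.IrrCharacter G)).filter fun χ => D.c χ ≠ 0 with hR
  have hn := D.norm_eq
  rw [he, hd, mul_zero, add_zero, ← Finset.add_sum_erase _ _ (Finset.mem_univ triv), D.c_triv,
    ← Finset.sum_filter_of_ne (p := fun χ => D.c χ ≠ 0)
      (fun χ _ h h0 => h (by rw [h0, mul_zero]))] at hn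
  have hsum : ∑ χ ∈ R, D.c χ * D.c χ = 4 := by push_cast at hn; linarith
  have hsq : ∀ χ ∈ R, 1 ≤ D.c χ * D.c χ := fun χ hχ => mul_self_pos.mpr (Finset.mem_filter.mp hχ).2
  have hf : ∀ o, D.f o ∉ R := fun o h => (Finset.mem_filter.mp h).2 (by rw [D.c_f, hd])
  have ht : (triv : Cfsg.IrrCharacter G) ∉ R := fun h =>
    Finset.notMem_erase _ _ (Finset.mem_filter.mp h).1
  have hzero : ∀ χ, χ ≠ triv → χ ∉ R → D.c χ = 0 := fun χ h1 h2 => by
    by_contra h
    exact h2 (Finset.mem_filter.mpr ⟨Finset.mem_erase.mpr ⟨h1, Finset.mem_univ _⟩, h⟩)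
  have hcases : ∀ χ ∈ R, D.c χ = 1 ∨ D.c χ = -1 ∨ D.c χ = 2 ∨ D.c χ = -2 := by
    intro χ hχ
    have h := Finset.single_le_sum (f := fun y => D.c y * D.c y)
      (fun y _ => mul_self_nonneg (D.c y)) hχ
    rw [hsum] at h
    have h1 := hsq χ hχ
    have hlo : -2 ≤ D.c χ := by nlinarith
    have hhi : D.c χ ≤ 2 := by nlinarith
    interval_cases hc : D.c χ <;> simp_all
  have hdeg : ∀ χ ∈ R, (D.c χ = 2 ∧ (deg χ = 9 ∨ deg χ = 20)) ∨
      (D.c χ = -2 ∧ (deg χ = 2 ∨ deg χ = 24)) ∨ (D.c χ = 1 ∧ deg χ = 10) ∨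
      (D.c χ = -1 ∧ (deg χ = 12 ∨ deg χ = 45)) := by
    intro χ hχ
    have hex : ∀ o, χ ≠ D.f o := fun o h => hf o (h ▸ hχ)
    obtain ⟨n, -, hn, hmod⟩ := D.fix_congr χ
    rw [hn hK, if_neg (fun ⟨o, ho⟩ => hex o ho), add_zero] at hmod
    have hmod' : ((deg χ : ℤ) % 11) = (-D.c χ) % 11 := hmod
    have hdvd := D.deg_dvd χ hex
    rw [show Nat.card G / 11 = 720 by rw [card_eq hG]] at hdvd
    have hdG := (deg_spec χ).2.1
    rw [card_eq hG] at hdG
    have hle : deg χ * deg χ ≤ 7920 := by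
      have h := D.sum_sq_le {χ} (fun o h => hex o (Finset.mem_singleton.mp h).symm)
      rw [Finset.sum_singleton, card_eq hG, sq] at h
      omega
    obtain ⟨h2, h9, h1, h10⟩ :=
      divisors_small _ (Nat.mem_divisors.mpr ⟨hdG, by norm_num⟩) hle
    rcases hcases χ hχ with h | h | h | h <;> rw [h] at hdvd hmod'
    · exact Or.inr (Or.inr (Or.inl ⟨h, h10 (Int.natCast_dvd_natCast.mp (by simpa using hdvd))
        (by omega)⟩))
    · have hd1 : deg χ ≠ 1 := fun e => Finset.ne_of_mem_erase (Finset.mem_filter.mp hχ).1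
        ((deg_eq_one_iff hnc χ).mp e)
      rcases h1 (Int.natCast_dvd_natCast.mp (by simpa using hdvd)) (by omega) with e | e
      · exact absurd e hd1
      · exact Or.inr (Or.inr (Or.inr ⟨h, e⟩))
    · exact Or.inl ⟨h, h9 (Int.natCast_dvd_natCast.mp (by simpa using hdvd)) (by omega)⟩
    · exact Or.inr (Or.inl ⟨h, h2 (Int.natCast_dvd_natCast.mp (by simpa using hdvd)) (by omega)⟩)
  have hone : ∀ χ ∈ R, D.c χ * D.c χ = 1 := by
    intro χ hχ
    by_contra hne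
    -- a single character with coefficient `±2`
    have h4 : D.c χ * D.c χ = 4 := by
      rcases hcases χ hχ with h | h | h | h <;> rw [h] at hne ⊢ <;> simp_all
    have honly : ∀ y ∈ R, y = χ := by
      intro y hy
      by_contra hyx
      have h := Finset.sum_le_sum_of_subset_of_nonneg
        (show ({χ, y} : Finset _) ⊆ R by simp [Finset.insert_subset_iff, hχ, hy])
        (f := fun y => D.c y * D.c y) (fun y _ _ => mul_self_nonneg (D.c y))
      rw [Finset.sum_pair (Ne.symm hyx), hsum, h4] at h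
      linarith [hsq y hy]
    have hde := D.degree_eq
    have hχt : χ ≠ triv := fun h => ht (h ▸ hχ)
    rw [← Finset.sum_subset (Finset.subset_univ ({triv, χ} : Finset _)) (fun y _ hy => by
      simp only [Finset.mem_insert, Finset.mem_singleton, not_or] at hy
      rw [hzero y hy.1 (fun h => hy.2 (honly y h)), mul_zero]), Finset.sum_pair hχt.symm,
      D.c_triv, deg_triv] at hde
    push_cast at hde
    obtain ⟨hb, hmodb⟩ := b_dvd hG hK he D hd
    obtain ⟨hb17, -, -, hb39, hb49, -⟩ := divisors_b _ (Nat.mem_divisors.mpr ⟨hb, by norm_num⟩)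
    rcases hdeg χ hχ with ⟨h, e | e⟩ | ⟨h, e | e⟩ | ⟨h, e⟩ | ⟨h, e⟩ <;>
      rw [h] at hde h4 <;> try (norm_num at h4; done)
    all_goals rcases D.eps_eq with hs | hs <;> rw [hs] at hde hmodb <;> rw [e] at hde <;>
      push_cast at hde <;> try omega
    -- a character of degree 2
    obtain ⟨w, hw⟩ := exists_prime_orderOf_dvd_card' (G := G) (p := 2) (hp := ⟨Nat.prime_two⟩)
      (by rw [card_eq hG]; norm_num)
    obtain ⟨n, -, h1, h2, h3⟩ := involution_value hnc hχt hw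
    rw [e] at h1 h2 h3
    omega
  refine ⟨R, ?_, ht, hf, hzero, fun χ hχ => ?_⟩
  · rw [Finset.sum_congr rfl hone, Finset.sum_const, nsmul_one] at hsum
    exact_mod_cast hsum
  · have h1 := hone χ hχ
    rcases hdeg χ hχ with ⟨h, -⟩ | ⟨h, -⟩ | h | h
    · rw [h] at h1; norm_num at h1
    · rw [h] at h1; norm_num at h1
    · exact Or.inl h
    · exact Or.inr h

/-- The two possibilities for the degrees. -/
theorem exists_split (hG : Cfsg.IsM11 G) (hK : s.K = ⊥) (he : Nat.card s.auto = 5) (D : s.Data)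
    (hd : D.d = 0) :
    D.eps = 1 ∧
    ((∃ α α' β β' : Cfsg.IrrCharacter G, D.b = 5 ∧ (α ≠ triv ∧ α' ≠ triv ∧ β ≠ triv ∧ β' ≠ triv) ∧
        (deg α = 10 ∧ deg α' = 10 ∧ deg β = 12 ∧ deg β' = 12) ∧ β ≠ β' ∧
        ∀ A : Cfsg.IrrCharacter G → ℂ,
          ∑ χ, (D.c χ : ℂ) * A χ = -A triv + A α + A α' - A β - A β') ∨
     (∃ α₁ α₂ α₃ γ : Cfsg.IrrCharacter G, D.b = 16 ∧
        (α₁ ≠ triv ∧ α₂ ≠ triv ∧ α₃ ≠ triv ∧ γ ≠ triv) ∧
        (deg α₁ = 10 ∧ deg α₂ = 10 ∧ deg α₃ = 10 ∧ deg γ = 45) ∧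
        (α₁ ≠ α₂ ∧ α₁ ≠ α₃ ∧ α₂ ≠ α₃) ∧
        ∀ A : Cfsg.IrrCharacter G → ℂ,
          ∑ χ, (D.c χ : ℂ) * A χ = -A triv + A α₁ + A α₂ + A α₃ - A γ)) := by
  classical
  obtain ⟨R, hcard, ht, hf, hzero, hR⟩ := exists_four hG hK he D hd
  set R₁ := R.filter fun χ => deg χ = 10 with hR1
  set R₂ := R.filter fun χ => deg χ = 12 with hR2
  set R₃ := R.filter fun χ => deg χ = 45 with hR3
  have hd12 : Disjoint R₁ R₂ := by
    rw [Finset.disjoint_filter]; intro x _ h; rw [h]; norm_num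
  have hd3 : Disjoint (R₁ ∪ R₂) R₃ := by
    rw [Finset.disjoint_union_left, Finset.disjoint_filter, Finset.disjoint_filter]
    exact ⟨fun x _ h => by rw [h]; norm_num, fun x _ h => by rw [h]; norm_num⟩
  have hU : R = (R₁ ∪ R₂) ∪ R₃ := by
    ext x
    simp only [hR1, hR2, hR3, Finset.mem_union, Finset.mem_filter]
    refine ⟨fun hx => ?_, fun h => by rcases h with (h | h) | h <;> exact h.1⟩
    rcases hR x hx with ⟨-, h⟩ | ⟨-, h | h⟩ <;> simp [hx, h]
  have hc : ∀ x ∈ R, (deg x = 10 → D.c x = 1) ∧ (deg x = 12 → D.c x = -1) ∧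
      (deg x = 45 → D.c x = -1) := fun x hx => by
    rcases hR x hx with ⟨h, h'⟩ | ⟨h, h' | h'⟩ <;> refine ⟨?_, ?_, ?_⟩ <;> omega
  have hL : ∀ A : Cfsg.IrrCharacter G → ℂ, ∑ χ, (D.c χ : ℂ) * A χ =
      -A triv + ∑ χ ∈ R₁, A χ - ∑ χ ∈ R₂, A χ - ∑ χ ∈ R₃, A χ := by
    intro A
    rw [← Finset.sum_subset (Finset.subset_univ (insert triv R)) (fun χ _ h => by
      rw [Finset.mem_insert, not_or] at h
      rw [hzero χ h.1 h.2]; simp), Finset.sum_insert ht, D.c_triv, hU,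
      Finset.sum_union hd3, Finset.sum_union hd12,
      Finset.sum_congr (s₁ := R₁) rfl (g := fun χ => A χ) (fun x hx => by
        obtain ⟨h1, h2⟩ := Finset.mem_filter.mp hx
        rw [(hc x h1).1 h2]; simp),
      Finset.sum_congr (s₁ := R₂) rfl (g := fun χ => -A χ) (fun x hx => by
        obtain ⟨h1, h2⟩ := Finset.mem_filter.mp hx
        rw [(hc x h1).2.1 h2]; simp),
      Finset.sum_congr (s₁ := R₃) rfl (g := fun χ => -A χ) (fun x hx => by
        obtain ⟨h1, h2⟩ := Finset.mem_filter.mp hx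
        rw [(hc x h1).2.2 h2]; simp), Finset.sum_neg_distrib, Finset.sum_neg_distrib]
    push_cast; ring
  have hn : R₁.card + R₂.card + R₃.card = 4 := by
    rw [← hcard, hU, Finset.card_union_of_disjoint hd3, Finset.card_union_of_disjoint hd12]
  have hlin : -(1 : ℤ) + 10 * R₁.card - 12 * R₂.card - 45 * R₃.card + D.eps * D.b = 0 := by
    apply Int.cast_injective (α := ℂ)
    have h := congrArg (fun n : ℤ => (n : ℂ)) D.degree_eq
    push_cast at h ⊢
    rw [← h, Finset.sum_congr rfl (fun x _ => mul_comm (deg x : ℂ) (D.c x : ℂ)),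
      hL (fun x => (deg x : ℂ)), deg_triv,
      Finset.sum_congr (s₁ := R₁) rfl (g := fun _ => (10 : ℂ)) (fun x hx => by
        rw [(Finset.mem_filter.mp hx).2]; norm_num),
      Finset.sum_congr (s₁ := R₂) rfl (g := fun _ => (12 : ℂ)) (fun x hx => by
        rw [(Finset.mem_filter.mp hx).2]; norm_num),
      Finset.sum_congr (s₁ := R₃) rfl (g := fun _ => (45 : ℂ)) (fun x hx => by
        rw [(Finset.mem_filter.mp hx).2]; norm_num)]
    simp only [Finset.sum_const, nsmul_eq_mul]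
    push_cast; ring
  have hsq : 1 + 100 * R₁.card + 144 * R₂.card + 2025 * R₃.card + 2 * D.b ^ 2 ≤ 7920 := by
    have hO : Nat.card s.Orb = 2 := by
      have := s.card_orb_mul
      rw [he] at this
      omega
    have h := D.sum_sq_le (insert triv R) (fun o ho => by
      rcases Finset.mem_insert.mp ho with h | h
      · exact D.triv_ne o h
      · exact hf o h)
    rw [Finset.sum_insert ht, hU, Finset.sum_union hd3, Finset.sum_union hd12, deg_triv, hO,
      card_eq hG,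
      Finset.sum_congr (s₁ := R₁) rfl (g := fun _ => 100) (fun x hx => by
        rw [(Finset.mem_filter.mp hx).2]; norm_num),
      Finset.sum_congr (s₁ := R₂) rfl (g := fun _ => 144) (fun x hx => by
        rw [(Finset.mem_filter.mp hx).2]; norm_num),
      Finset.sum_congr (s₁ := R₃) rfl (g := fun _ => 2025) (fun x hx => by
        rw [(Finset.mem_filter.mp hx).2]; norm_num)] at h
    simp only [Finset.sum_const, smul_eq_mul, one_pow] at h
    linarith
  obtain ⟨hb, hmodb⟩ := b_dvd hG hK he D hd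
  have hbb := divisors_b _ (Nat.mem_divisors.mpr ⟨hb, by norm_num⟩)
  have hb0 : 0 < D.b := Nat.pos_of_dvd_of_pos hb (by norm_num)
  have hb88 : D.b ≤ 88 := by nlinarith
  have h3 : R₃.card ≤ 3 := by omega
  have hkey : D.eps = 1 ∧
      ((D.b = 5 ∧ R₁.card = 2 ∧ R₂.card = 2 ∧ R₃.card = 0) ∨
        (D.b = 16 ∧ R₁.card = 3 ∧ R₂.card = 0 ∧ R₃.card = 1)) := by
    generalize R₁.card = n₁ at hn hlin hsq ⊢
    generalize R₂.card = n₂ at hn hlin hsq ⊢
    generalize R₃.card = n₃ at hn hlin hsq h3 ⊢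
    have h1 : n₁ ≤ 4 := by omega
    rcases D.eps_eq with hs | hs <;> rw [hs] at hlin hmodb ⊢ <;> interval_cases n₁ <;>
      interval_cases n₃ <;> (have : n₂ ≤ 4 := by omega) <;> interval_cases n₂ <;>
      (try push_cast at hlin) <;> (try omega) <;>
      (have hbv : D.b = 60 := by omega) <;> rw [hbv] at hsq <;> norm_num at hsq
  obtain ⟨heps, h | h⟩ := hkey
  · refine ⟨heps, Or.inl ?_⟩
    obtain ⟨α, α', hαα, e1⟩ := Finset.card_eq_two.mp h.2.1
    obtain ⟨β, β', hββ, e2⟩ := Finset.card_eq_two.mp h.2.2.1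
    have e3 := Finset.card_eq_zero.mp h.2.2.2
    have m1 : ∀ x ∈ R₁, x ≠ triv ∧ deg x = 10 := fun x hx =>
      ⟨fun hx' => ht (hx' ▸ (Finset.mem_filter.mp hx).1), (Finset.mem_filter.mp hx).2⟩
    have m2 : ∀ x ∈ R₂, x ≠ triv ∧ deg x = 12 := fun x hx =>
      ⟨fun hx' => ht (hx' ▸ (Finset.mem_filter.mp hx).1), (Finset.mem_filter.mp hx).2⟩
    rw [e1] at m1; rw [e2] at m2
    simp only [Finset.mem_insert, Finset.mem_singleton, forall_eq_or_imp, forall_eq] at m1 m2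
    refine ⟨α, α', β, β', h.1, ⟨m1.1.1, m1.2.1, m2.1.1, m2.2.1⟩,
      ⟨m1.1.2, m1.2.2, m2.1.2, m2.2.2⟩, hββ, fun A => ?_⟩
    rw [hL A, e1, e2, e3, Finset.sum_pair hαα, Finset.sum_pair hββ, Finset.sum_empty]
    ring
  · refine ⟨heps, Or.inr ?_⟩
    obtain ⟨α, α', α'', n1, n2, n3, e1⟩ := Finset.card_eq_three.mp h.2.1
    obtain ⟨γ, e3⟩ := Finset.card_eq_one.mp h.2.2.2
    have e2 := Finset.card_eq_zero.mp h.2.2.1
    have m1 : ∀ x ∈ R₁, x ≠ triv ∧ deg x = 10 := fun x hx =>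
      ⟨fun hx' => ht (hx' ▸ (Finset.mem_filter.mp hx).1), (Finset.mem_filter.mp hx).2⟩
    have m3 : ∀ x ∈ R₃, x ≠ triv ∧ deg x = 45 := fun x hx =>
      ⟨fun hx' => ht (hx' ▸ (Finset.mem_filter.mp hx).1), (Finset.mem_filter.mp hx).2⟩
    rw [e1] at m1; rw [e3] at m3
    simp only [Finset.mem_insert, Finset.mem_singleton, forall_eq_or_imp, forall_eq] at m1 m3
    refine ⟨α, α', α'', γ, h.1, ⟨m1.1.1, m1.2.1.1, m1.2.2.1, m3.1⟩,
      ⟨m1.1.2, m1.2.1.2, m1.2.2.2, m3.2⟩, ⟨n1, n2, n3⟩, fun A => ?_⟩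
    rw [hL A, e1, e2, e3, Finset.sum_empty, Finset.sum_singleton,
      Finset.sum_insert (by simp [n1, n2]), Finset.sum_pair n3]
    ring

end Cfsg.Agent.Steiner.M11
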