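import Cfsg.Agent.Lib.SmallGroups.SelfCent.TwoDeg
import Cfsg.Agent.Lib.SmallGroups.Action
import Cfsg.Agent.CharDeep.Ext.DetChar
import Cfsg.Agent.Lib.CharInd.DefectZero

/-!
# Character lemmas for the local analysis of a simple group of order 7920
-/

set_option autoImplicit false

open scoped ComplexConjugate

namespace Cfsg.Agent.Steiner.M11

open Subgroup
open Cfsg.Agent.SmallGroups.SelfCent (Setup deg_eq_one_iff)
open Cfsg.Agent.SmallGroups.SelfCent.Setup (deg deg_spec triv)

variable {G : Type*} [Group G] [Fintype G]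

/-- A nontrivial irreducible character of a nonabelian simple group at an involution. -/
theorem involution_value [IsSimpleGroup G] (hnc : ¬ IsMulCommutative G)
    {χ : Cfsg.IrrCharacter G} (hχ1 : χ ≠ triv) {w : G} (hw2 : orderOf w = 2) :
    ∃ n : ℤ, (χ : G → ℂ) w = n ∧ -(deg χ : ℤ) < n ∧ n < (deg χ : ℤ) ∧
      (4 : ℤ) ∣ (deg χ : ℤ) - n := by
  classical
  have hwsq : w ^ 2 = 1 := by rw [← hw2, pow_orderOf_eq_one]
  have hw1 : w ≠ 1 := fun h => by rw [h, orderOf_one] at hw2; norm_num at hw2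
  obtain ⟨m, ρ, hρ, hχρ⟩ := χ.2
  obtain ⟨b, ω, hω, -, hb, hk⟩ := CharCore.exists_eigenvalues ρ w
  have ha2 : ∀ i, ω i = 1 ∨ ω i = -1 := fun i => by
    apply sq_eq_one_iff.mp
    obtain ⟨c, hc⟩ := orderOf_dvd_of_pow_eq_one hwsq
    rw [hc, pow_mul, hω i, one_pow]
  set S := Finset.univ.filter fun i => ω i = -1 with hS
  have hval : (χ : G → ℂ) w = ((Module.finrank ℂ (Fin m → ℂ) : ℤ) - 2 * (S.card : ℤ) : ℤ) := by
    rw [← hχρ, show ρ.character w = ∑ i, ω i by simpa using hk 1]
    have : ∀ i, ω i = 1 - 2 * (if ω i = -1 then (1 : ℂ) else 0) := fun i => by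
      rcases ha2 i with h | h <;> rw [h] <;> norm_num
    rw [Finset.sum_congr rfl fun i _ => this i, Finset.sum_sub_distrib, ← Finset.mul_sum,
      Finset.sum_boole, ← hS]
    simp
  have hdeg : (deg χ : ℤ) = (Module.finrank ℂ (Fin m → ℂ) : ℤ) := by
    have h := (deg_spec χ).2.2
    rw [← hχρ, Representation.char_one] at h
    exact_mod_cast h.symm
  -- the determinant is trivial
  have hS2 : Even S.card := by
    let f : G →* ℂˣ := (LinearMap.det.comp ρ).toHomUnits
    have hf : f w = 1 := by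
      rcases f.normal_ker.eq_bot_or_eq_top with h | h
      · exact absurd (isMulCommutative_iff.mpr fun x y =>
          (MonoidHom.ker_eq_bot_iff f).mp h (by rw [map_mul, map_mul, mul_comm])) hnc
      · exact MonoidHom.mem_ker.mp (h ▸ Subgroup.mem_top w)
    have h1 : LinearMap.det (ρ w) = 1 := congrArg Units.val hf
    rw [CharDeep.Ext.det_eq_prod_eigen b ω _ hb] at h1
    have h2 : ∏ i, ω i = (-1) ^ S.card := by
      have h3 : ∀ i, ω i = if ω i = -1 then -1 else 1 := fun i => by
        rcases ha2 i with h | h <;> rw [h] <;> norm_num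
      rw [Finset.prod_congr rfl fun i _ => h3 i, Finset.prod_ite, Finset.prod_const_one, mul_one,
        Finset.prod_const, ← hS]
    rw [h2] at h1
    exact (neg_one_pow_eq_one_iff_even (by norm_num)).mp h1
  have hle : S.card ≤ Module.finrank ℂ (Fin m → ℂ) := by
    have := Finset.card_le_univ S
    simpa using this
  let φ : G →* Module.End ℂ (Fin m → ℂ) := ρ
  -- `ρ` is faithful
  have hφ : Function.Injective φ := by
    rw [← MonoidHom.ker_eq_bot_iff]
    refine φ.normal_ker.eq_bot_or_eq_top.resolve_right fun hker => ?_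
    have hconst : ∀ g, (χ : G → ℂ) g = (deg χ : ℂ) := fun g => by
      have h1 : φ g = 1 := MonoidHom.mem_ker.mp (hker ▸ Subgroup.mem_top g)
      rw [← hχρ, (CharCore.character_eq_finrank_iff ρ g).mpr h1]
      exact_mod_cast hdeg.symm
    have h2 := CharCore.classInner_irr_of_ne hχ1
    simp only [Cfsg.classInner, hconst, triv, Pi.one_apply, map_one, mul_one,
      Finset.sum_const, Finset.card_univ, nsmul_eq_mul,
      ← Nat.card_eq_fintype_card] at h2
    have hd0 : (deg χ : ℂ) ≠ 0 := Nat.cast_ne_zero.mpr (deg_spec χ).1.ne'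
    simp [hd0] at h2
  have hne : S.card ≠ 0 := by
    intro h0
    rw [h0, Nat.cast_zero, mul_zero, sub_zero, Int.cast_natCast, ← hχρ] at hval
    have hid := (CharCore.character_eq_finrank_iff ρ w).mp hval
    exact hw1 (hφ (hid.trans φ.map_one.symm))
  have hne' : S.card ≠ Module.finrank ℂ (Fin m → ℂ) := by
    intro h0
    have hall : ∀ i, ω i = -1 := fun i => by
      have : S = Finset.univ := Finset.eq_univ_of_card _ (by rw [h0, Fintype.card_fin])
      exact (Finset.mem_filter.mp (this ▸ Finset.mem_univ i : i ∈ S)).2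
    have hneg : φ w = -1 := b.ext fun i => by
      rw [show φ w (b i) = ω i • b i from hb i, hall i]
      simp
    have hcen : w ∈ center G := mem_center_iff.mpr fun g => hφ (by
      rw [map_mul, map_mul, hneg]
      exact LinearMap.ext fun v => by simp)
    rw [SmallGroups.center_eq_bot_of_not_comm hnc, mem_bot] at hcen
    exact hw1 hcen
  obtain ⟨c, hc⟩ := hS2
  exact ⟨_, hval, by omega, by omega, ⟨(c : ℤ), by omega⟩⟩

/-- The mean of a character over a subgroup is a natural number. -/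
theorem exists_sum_eq (χ : Cfsg.IrrCharacter G) (H : Subgroup G) [Fintype H] :
    ∃ k : ℕ, ∑ h : H, (χ : G → ℂ) h = (Nat.card H : ℂ) * k := by
  obtain ⟨k, hk⟩ := CharCore.IsCharacter.exists_classInner_eq_natCast
    (CharCore.isCharacter_restrict (CharCore.irr_isCharacter χ) H)
    (CharCore.isCharacter_one (G := H))
  refine ⟨k, ?_⟩
  rw [CharCore.classInner_def] at hk
  simp only [Pi.one_apply, map_one, mul_one] at hk
  exact (inv_mul_eq_iff_eq_mul₀ (by exact_mod_cast Nat.card_pos.ne')).mp hk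

/-- If `χ` vanishes on `H` outside `1` and `u`, then `|H|` divides `χ 1 + χ u`. -/
theorem card_dvd_of_vanish (χ : Cfsg.IrrCharacter G) (H : Subgroup G) {u : G} (hu : u ∈ H)
    (hu1 : u ≠ 1) (h0 : ∀ h ∈ H, h ≠ 1 → h ≠ u → (χ : G → ℂ) h = 0) {n : ℤ}
    (hn : (χ : G → ℂ) u = n) : (Nat.card H : ℤ) ∣ (deg χ : ℤ) + n := by
  classical
  have := Fintype.ofFinite H
  obtain ⟨k, hk⟩ := exists_sum_eq χ H
  rw [← Finset.sum_subset (Finset.subset_univ ({1, ⟨u, hu⟩} : Finset H)) (fun h _ hh => by
    simp only [Finset.mem_insert, Finset.mem_singleton, not_or] at hh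
    exact h0 h h.2 (fun e => hh.1 (Subtype.ext e)) (fun e => hh.2 (Subtype.ext e))),
    Finset.sum_pair (fun e => hu1 (congrArg Subtype.val e).symm)] at hk
  rw [OneMemClass.coe_one, (deg_spec χ).2.2, hn] at hk
  refine ⟨k, ?_⟩
  exact_mod_cast hk

/-- A character constant on the nontrivial powers of an element of prime order has an integral
value there, congruent to the degree. -/
theorem exists_int_value (χ : Cfsg.IrrCharacter G) {q : ℕ} [hq : Fact q.Prime] {x : G}
    (hx : orderOf x = q) (hconst : ∀ h ∈ zpowers x, h ≠ 1 → (χ : G → ℂ) h = (χ : G → ℂ) x) :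
    ∃ v : ℤ, (χ : G → ℂ) x = v ∧ (q : ℤ) ∣ (deg χ : ℤ) - v := by
  classical
  have := Fintype.ofFinite (zpowers x)
  obtain ⟨k, hk⟩ := exists_sum_eq χ (zpowers x)
  rw [← Finset.add_sum_erase _ _ (Finset.mem_univ (1 : zpowers x)),
    Finset.sum_congr rfl (g := fun _ => (χ : G → ℂ) x) (fun (h : zpowers x) hh => hconst h.1 h.2 (fun e =>
      Finset.ne_of_mem_erase hh (Subtype.ext e))), Finset.sum_const,
    Finset.card_erase_of_mem (Finset.mem_univ _), Finset.card_univ,
    ← Nat.card_eq_fintype_card, Nat.card_zpowers, hx, OneMemClass.coe_one, (deg_spec χ).2.2,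
    nsmul_eq_mul, Nat.cast_sub hq.out.one_le, Nat.cast_one] at hk
  set v := (χ : G → ℂ) x with hv
  have hint : IsIntegral ℤ v := BlocksCore.isIntegral_irr χ x
  have hq1 : ((q : ℚ) - 1) ≠ 0 := by
    have : (2 : ℚ) ≤ q := by exact_mod_cast hq.out.two_le
    linarith
  have hq1C : ((q : ℂ) - 1) ≠ 0 := by exact_mod_cast hq1
  have hvQ : v = algebraMap ℚ ℂ (((q : ℚ) * k - deg χ) / ((q : ℚ) - 1)) := by
    simp only [map_div₀, map_sub, map_mul, map_natCast, map_one]
    rw [eq_div_iff hq1C]
    linear_combination hk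
  rw [hvQ, isIntegral_algebraMap_iff (RingHom.injective _)] at hint
  obtain ⟨w, hw⟩ := IsIntegrallyClosed.isIntegral_iff.mp hint
  have hvw : v = (w : ℂ) := by
    rw [hvQ, ← hw]
    simp
  refine ⟨w, hvw, (k : ℤ) - w, ?_⟩
  rw [hvw] at hk
  have hk' : (deg χ : ℤ) + ((q : ℤ) - 1) * w = (q : ℤ) * k := by exact_mod_cast hk
  linear_combination hk'

/-- The centraliser order bounds the sum of squares of some integral values. -/
theorem sum_sq_le (S : Finset (Cfsg.IrrCharacter G)) (v : Cfsg.IrrCharacter G → ℤ) {w : G}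
    (hv : ∀ χ ∈ S, (χ : G → ℂ) w = v χ) :
    ∑ χ ∈ S, v χ ^ 2 ≤ (Nat.card (centralizer ({w} : Set G)) : ℤ) := by
  classical
  have h := CharCore.sum_apply_mul_conj w w
  rw [if_pos (IsConj.refl w)] at h
  have h1 : ∑ χ : Cfsg.IrrCharacter G, Complex.normSq ((χ : G → ℂ) w) =
      (Nat.card (centralizer ({w} : Set G)) : ℝ) := by
    apply Complex.ofReal_injective
    push_cast
    rw [← h]
    exact Finset.sum_congr rfl fun χ _ => (Complex.mul_conj _).symm
  have h2 : ∑ χ ∈ S, Complex.normSq ((χ : G → ℂ) w) ≤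
      ∑ χ : Cfsg.IrrCharacter G, Complex.normSq ((χ : G → ℂ) w) :=
    Finset.sum_le_univ_sum_of_nonneg fun χ => Complex.normSq_nonneg _
  rw [h1, Finset.sum_congr rfl (g := fun χ => ((v χ ^ 2 : ℤ) : ℝ)) (fun χ hχ => by
    rw [hv χ hχ, Complex.normSq_intCast]; push_cast; ring), ← Int.cast_sum] at h2
  exact_mod_cast h2

end Cfsg.Agent.Steiner.M11
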