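import Cfsg.Agent.Lib.Steiner.M11.Cases

/-!
# Values at involutions and elements of order 3
-/

set_option autoImplicit false

namespace Cfsg.Agent.Steiner.M11

open Subgroup
open Cfsg.Agent.SmallGroups.SelfCent (Setup deg_eq_one_iff exists_setup_of_prime)
open Cfsg.Agent.SmallGroups.SelfCent.Setup (deg deg_spec triv deg_triv)

private theorem neg_one_pow_five : ((-1 : (ZMod 11)ˣ)) ^ 5 ≠ 1 := by decide

variable {G : Type*} [Group G] [Fintype G] [Fact (Nat.Prime 11)]

/-- The degree pattern with characters of degrees 12, 12 and 5. -/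
def CaseA (G : Type*) [Group G] [Fintype G] : Prop :=
  ∃ φ β β' : Cfsg.IrrCharacter G, deg φ = 5 ∧ deg β = 12 ∧ deg β' = 12 ∧ β ≠ β' ∧ β ≠ triv ∧
    β' ≠ triv ∧ ∀ u : G, orderOf u = 2 → (φ : G → ℂ) u = ((1 : ℤ) : ℂ)

/-- The degree pattern with a character of degree 45. -/
def CaseC (G : Type*) [Group G] [Fintype G] : Prop :=
  ∃ γ : Cfsg.IrrCharacter G, deg γ = 45 ∧
    (∀ u : G, orderOf u = 2 → (γ : G → ℂ) u = ((-3 : ℤ) : ℂ)) ∧
    ∀ y : G, orderOf y = 3 → IsConj y y⁻¹ → Nat.card (centralizer ({y} : Set G)) < 27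

private theorem checkA : ∀ i j : Fin 4, ∀ k l : Fin 5,
    let a : ℤ := 10 - 4 * ((i : ℕ) + 1); let a' : ℤ := 10 - 4 * ((j : ℕ) + 1)
    let t : ℤ := 12 - 4 * ((k : ℕ) + 1); let t' : ℤ := 12 - 4 * ((l : ℕ) + 1)
    let e : ℤ := 1 - a - a' + t + t'
    60 - 6 * (a * a + a' * a') + 5 * (t * t + t' * t') - 12 * (e * e) = 0 → e ≠ -3 := by
  decide +kernel

private theorem checkC : ∀ i j k : Fin 4, ∀ l : Fin 22,
    let a : ℤ := 10 - 4 * ((i : ℕ) + 1); let a' : ℤ := 10 - 4 * ((j : ℕ) + 1)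
    let a'' : ℤ := 10 - 4 * ((k : ℕ) + 1); let f : ℤ := 45 - 4 * ((l : ℕ) + 1)
    let e : ℤ := 1 - a - a' - a'' + f
    720 - 72 * (a * a + a' * a' + a'' * a'') + 16 * (f * f) - 45 * (e * e) = 0 →
      -16 < e → e < 16 → f = -3 := by
  decide +kernel

private theorem exists_index {d n : ℤ} (N : ℕ) (hN : 2 * d ≤ 4 * ((N : ℤ) + 1)) (h1 : -d < n)
    (h2 : n < d) (h3 : (4 : ℤ) ∣ d - n) : ∃ i : Fin N, n = d - 4 * ((i : ℕ) + 1) := by
  obtain ⟨k, hk⟩ := h3
  refine ⟨⟨(k - 1).toNat, by omega⟩, ?_⟩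
  simp only
  omega

/-- An involution does not invert an element of order 11. -/
theorem pairs_involution (s : Setup G 11) (he : Nat.card s.auto = 5) {a : G} (ha : a ^ 2 = 1) :
    Nat.card {q : G × G // IsConj a q.1 ∧ IsConj a q.2 ∧ q.1 * q.2 = s.z} = 0 := by
  rw [Nat.card_eq_zero]
  refine Or.inl ⟨fun ⟨⟨u, w⟩, hu, hw, huw⟩ => ?_⟩
  have hinvol : ∀ {g : G}, IsConj a g → g * g = 1 := by
    intro g hg
    obtain ⟨c, rfl⟩ := isConj_iff.mp hg
    rw [sq] at ha
    calc c * a * c⁻¹ * (c * a * c⁻¹) = c * (a * a) * c⁻¹ := by group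
      _ = 1 := by rw [ha, mul_one, mul_inv_cancel]
  have huu := hinvol hu
  have hww := hinvol hw
  simp only at huw huu hww
  have hz : u * s.z * u⁻¹ = s.z⁻¹ := by
    rw [inv_eq_of_mul_eq_one_right huu, ← huw, mul_inv_rev, inv_eq_of_mul_eq_one_right huu,
      inv_eq_of_mul_eq_one_right hww, ← mul_assoc u, huu, one_mul]
  have hmem : (-1 : (ZMod 11)ˣ) ∈ s.auto := by
    rw [s.mem_auto_iff, Units.val_neg, Units.val_one, s.zp_neg, s.zp_one]
    exact isConj_iff.mpr ⟨u, hz⟩
  have h5 := congrArg Subtype.val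
    (pow_card_eq_one' (x := (⟨(-1 : (ZMod 11)ˣ), hmem⟩ : s.auto)))
  rw [he] at h5
  simp only [SubgroupClass.coe_pow, OneMemClass.coe_one] at h5
  exact neg_one_pow_five h5

/-- The value at an element of order 3 which is conjugate to its inverse. -/
theorem three_value (χ : Cfsg.IrrCharacter G) {y : G} (hy : orderOf y = 3)
    (hinv : IsConj y y⁻¹) : ∃ v : ℤ, (χ : G → ℂ) y = v ∧ (3 : ℤ) ∣ (deg χ : ℤ) - v := by
  have : Fact (Nat.Prime 3) := ⟨by norm_num⟩
  refine exists_int_value χ hy fun h hh h1 => ?_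
  obtain ⟨n, rfl⟩ := mem_zpowers_iff.mp hh
  rw [← zpow_mod_orderOf, hy] at h1 ⊢
  have h3 : n % (3 : ℕ) = 0 ∨ n % (3 : ℕ) = 1 ∨ n % (3 : ℕ) = 2 := by omega
  rcases h3 with h | h | h <;> rw [h] at h1 ⊢
  · exact absurd (zpow_zero y) h1
  · rw [zpow_one]
  · have e : y ^ (2 : ℤ) = y⁻¹ := by
      apply eq_inv_of_mul_eq_one_left
      have h3 := pow_orderOf_eq_one y
      rw [hy] at h3
      rw [← h3]; group
    obtain ⟨g, hg⟩ := isConj_iff.mp hinv
    rw [e, ← hg, CharCore.irr_isClassFunction χ y g]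

theorem caseA_or_caseC (hG : Cfsg.IsM11 G) : CaseA G ∨ CaseC G := by
  classical
  have := hG.1
  have hnc := not_comm hG
  obtain ⟨s, hK, he⟩ := exists_setup hG
  have := Fintype.ofFinite s.Orb
  obtain ⟨D, hd⟩ := exists_data s he
  obtain ⟨o₀⟩ : Nonempty s.Orb := inferInstance
  obtain ⟨heps, h | h⟩ := exists_split hG hK he D hd
  · obtain ⟨α, α', β, β', hb, ⟨n1, n2, n3, n4⟩, ⟨d1, d2, d3, d4⟩, hββ, hL⟩ := h
    refine Or.inl ⟨D.f o₀, β, β', by rw [D.deg_f, hb], d3, d4, hββ, n3, n4, fun u hu => ?_⟩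
    obtain ⟨e, hex, hrel, hpair⟩ := pair_formula hK D hd (a := u) (by rw [hu]; norm_num)
    rw [pairs_involution s he (by rw [← hu, pow_orderOf_eq_one]), Nat.cast_zero, zero_mul,
      eq_comm, mul_eq_zero] at hpair
    have hpair := hpair.resolve_left (Nat.cast_ne_zero.mpr Nat.card_pos.ne')
    obtain ⟨a₁, v1, l1, u1, c1⟩ := involution_value hnc n1 hu
    obtain ⟨a₂, v2, l2, u2, c2⟩ := involution_value hnc n2 hu
    obtain ⟨t₁, v3, l3, u3, c3⟩ := involution_value hnc n3 hu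
    obtain ⟨t₂, v4, l4, u4, c4⟩ := involution_value hnc n4 hu
    obtain ⟨e', v5, l5, u5, c5⟩ := involution_value hnc (D.triv_ne o₀) hu
    rw [hex o₀] at v5
    simp only [hL, v1, v2, v3, v4, v5, d1, d2, d3, d4, hb, heps, deg_triv] at hrel hpair
    simp only [triv, Pi.one_apply] at hrel hpair
    push_cast at hrel hpair
    have hrel' : e' = 1 - a₁ - a₂ + t₁ + t₂ := by
      apply Int.cast_injective (α := ℂ)
      push_cast; linear_combination hrel
    have heq : 60 - 6 * (a₁ * a₁ + a₂ * a₂) + 5 * (t₁ * t₁ + t₂ * t₂) - 12 * (e' * e') = 0 := by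
      apply Int.cast_injective (α := ℂ)
      push_cast; linear_combination 60 * hpair
    rw [d1] at l1 u1 c1; rw [d2] at l2 u2 c2; rw [d3] at l3 u3 c3; rw [d4] at l4 u4 c4
    rw [D.deg_f, hb] at l5 u5 c5
    obtain ⟨i, hi⟩ := exists_index 4 (by norm_num) l1 u1 c1
    obtain ⟨j, hj⟩ := exists_index 4 (by norm_num) l2 u2 c2
    obtain ⟨k, hk⟩ := exists_index 5 (by norm_num) l3 u3 c3
    obtain ⟨l, hl⟩ := exists_index 5 (by norm_num) l4 u4 c4
    have hchk := checkA i j k l
    simp only at hchk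
    push_cast at hi hj hk hl l5 u5 c5
    rw [← hi, ← hj, ← hk, ← hl, ← hrel'] at hchk
    have he1 : e' = 1 := by
      have := hchk heq
      omega
    rw [hex o₀, v5, he1]
  · obtain ⟨α₁, α₂, α₃, γ, hb, ⟨n1, n2, n3, n4⟩, ⟨d1, d2, d3, d4⟩, -, hL⟩ := h
    refine Or.inr ⟨γ, d4, fun u hu => ?_, fun y hy hinv => ?_⟩
    · obtain ⟨e, hex, hrel, hpair⟩ := pair_formula hK D hd (a := u) (by rw [hu]; norm_num)
      rw [pairs_involution s he (by rw [← hu, pow_orderOf_eq_one]), Nat.cast_zero, zero_mul,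
        eq_comm, mul_eq_zero] at hpair
      have hpair := hpair.resolve_left (Nat.cast_ne_zero.mpr Nat.card_pos.ne')
      obtain ⟨a₁, v1, l1, u1, c1⟩ := involution_value hnc n1 hu
      obtain ⟨a₂, v2, l2, u2, c2⟩ := involution_value hnc n2 hu
      obtain ⟨a₃, v3, l3, u3, c3⟩ := involution_value hnc n3 hu
      obtain ⟨f, v4, l4, u4, c4⟩ := involution_value hnc n4 hu
      obtain ⟨e', v5, l5, u5, c5⟩ := involution_value hnc (D.triv_ne o₀) hu
      rw [hex o₀] at v5
      simp only [hL, v1, v2, v3, v4, v5, d1, d2, d3, d4, hb, heps, deg_triv] at hrel hpair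
      simp only [triv, Pi.one_apply] at hrel hpair
      push_cast at hrel hpair
      have hrel' : e' = 1 - a₁ - a₂ - a₃ + f := by
        apply Int.cast_injective (α := ℂ)
        push_cast; linear_combination hrel
      have heq : 720 - 72 * (a₁ * a₁ + a₂ * a₂ + a₃ * a₃) + 16 * (f * f) - 45 * (e' * e') = 0 := by
        apply Int.cast_injective (α := ℂ)
        push_cast; linear_combination 720 * hpair
      rw [d1] at l1 u1 c1; rw [d2] at l2 u2 c2; rw [d3] at l3 u3 c3; rw [d4] at l4 u4 c4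
      rw [D.deg_f, hb] at l5 u5 c5
      obtain ⟨i, hi⟩ := exists_index 4 (by norm_num) l1 u1 c1
      obtain ⟨j, hj⟩ := exists_index 4 (by norm_num) l2 u2 c2
      obtain ⟨k, hk⟩ := exists_index 4 (by norm_num) l3 u3 c3
      obtain ⟨l, hl⟩ := exists_index 22 (by norm_num) l4 u4 c4
      have hchk := checkC i j k l
      simp only at hchk
      push_cast at hi hj hk hl l5 u5 c5
      rw [← hi, ← hj, ← hk, ← hl, ← hrel'] at hchk
      rw [v4, hchk heq l5 u5]
    · obtain ⟨e, hex, hrel, hpair⟩ := pair_formula hK D hd (a := y) (by rw [hy]; norm_num)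
      obtain ⟨b₁, v1, c1⟩ := three_value α₁ hy hinv
      obtain ⟨b₂, v2, c2⟩ := three_value α₂ hy hinv
      obtain ⟨b₃, v3, c3⟩ := three_value α₃ hy hinv
      obtain ⟨e', v5, c5⟩ := three_value (D.f o₀) hy hinv
      rw [hex o₀] at v5
      have v4 : (γ : G → ℂ) y = 0 := by
        have : Fact (Nat.Prime 3) := ⟨by norm_num⟩
        exact CharInd.char_eq_zero_of_defect_zero γ.2 3 2 5 (r := 880)
          (by rw [card_eq hG]; norm_num) (by norm_num)
          (by rw [(deg_spec γ).2.2, d4]; norm_num) y (by rw [hy])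
      simp only [hL, v1, v2, v3, v4, v5, d1, d2, d3, d4, hb, heps, deg_triv, card_eq hG]
        at hrel hpair
      simp only [triv, Pi.one_apply] at hrel hpair
      push_cast at hrel hpair
      rw [D.deg_f, hb] at c5
      rw [d1] at c1; rw [d2] at c2; rw [d3] at c3
      set N := Nat.card {q : G × G // IsConj y q.1 ∧ IsConj y q.2 ∧ q.1 * q.2 = s.z}
      set C := Nat.card (centralizer ({y} : Set G)) with hC
      have hrel' : e' = 1 - b₁ - b₂ - b₃ := by
        apply Int.cast_injective (α := ℂ)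
        push_cast; linear_combination hrel
      have heq : (N : ℤ) * (C : ℤ) ^ 2 =
          99 * (80 - 8 * (b₁ * b₁ + b₂ * b₂ + b₃ * b₃) - 5 * (e' * e')) := by
        apply Int.cast_injective (α := ℂ)
        push_cast; linear_combination hpair
      by_contra hlt
      have hC27 : (27 : ℤ) ≤ C := by exact_mod_cast not_lt.mp hlt
      have h11C : ¬ (11 : ℤ) ∣ (C : ℤ) := by
        intro h
        obtain ⟨⟨w, hw⟩, hwo⟩ := exists_prime_orderOf_dvd_card'
          (G := ↥(centralizer ({y} : Set G))) 11 (by exact_mod_cast h)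
        rw [orderOf_mk] at hwo
        have hy11 := pow_eleven_of_commute hG hwo (mem_centralizer_singleton_iff.mp hw)
        have := orderOf_dvd_of_pow_eq_one hy11
        rw [hy] at this
        norm_num at this
      push_cast at c1 c2 c3 c5
      have q1 : 1 ≤ b₁ * b₁ :=
        mul_self_pos.mpr (show b₁ ≠ 0 from fun h => by rw [h] at c1; norm_num at c1)
      have q2 : 1 ≤ b₂ * b₂ :=
        mul_self_pos.mpr (show b₂ ≠ 0 from fun h => by rw [h] at c2; norm_num at c2)
      have q3 : 1 ≤ b₃ * b₃ :=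
        mul_self_pos.mpr (show b₃ ≠ 0 from fun h => by rw [h] at c3; norm_num at c3)
      have q5 := mul_self_nonneg e'
      obtain ⟨j, hj⟩ : (11 : ℤ) ∣ (N : ℤ) := by
        have hp : Prime (11 : ℤ) := by
          exact_mod_cast Nat.prime_iff_prime_int.mp (by norm_num : Nat.Prime 11)
        refine (hp.dvd_or_dvd (?_ : (11 : ℤ) ∣ (N : ℤ) * (C : ℤ) ^ 2)).resolve_right
          (fun h => h11C (hp.dvd_of_dvd_pow h))
        rw [heq]; exact Dvd.dvd.mul_right (by norm_num) _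
      have hj0 : j = 0 := by
        rw [hj] at heq
        have hjn : 0 ≤ j := by
          have : (0 : ℤ) ≤ N := Nat.cast_nonneg _
          omega
        by_contra hne
        have hj1 : 1 ≤ j := by omega
        have h729 : (729 : ℤ) ≤ (C : ℤ) ^ 2 := by nlinarith
        nlinarith
      rw [hj, hj0] at heq
      have hW : 8 * (b₁ * b₁ + b₂ * b₂ + b₃ * b₃) + 5 * (e' * e') = 80 := by linarith
      have he4 : -3 ≤ e' ∧ e' ≤ 3 := by constructor <;> nlinarith
      obtain ⟨he4, he4'⟩ := he4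
      interval_cases e' <;> omega

end Cfsg.Agent.Steiner.M11
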