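import Cfsg.Agent.Lib.Steiner.M11.Sylow
import Cfsg.Agent.Lib.Steiner.M11.CharAux

/-!
# The exceptional data of a simple group of order 7920 for the prime 11
-/

set_option autoImplicit false

open scoped ComplexConjugate

namespace Cfsg.Agent.Steiner.M11

open Subgroup
open Cfsg.Agent.SmallGroups.SelfCent (Setup deg_eq_one_iff exists_setup_of_prime)
open Cfsg.Agent.SmallGroups.SelfCent.Setup (deg deg_spec triv deg_triv)
open Cfsg.Agent.BlocksCore Cfsg.Agent.CharDeep

variable {G : Type*} [Group G] [Fintype G] [Fact (Nat.Prime 11)]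

theorem exists_setup (hG : Cfsg.IsM11 G) :
    ∃ s : Setup G 11, s.K = ⊥ ∧ Nat.card s.auto = 5 := by
  obtain ⟨P⟩ := (inferInstance : Nonempty (Sylow 11 G))
  obtain ⟨-, hN, hC⟩ := eleven hG P
  obtain ⟨s, hK, -, h⟩ := exists_setup_of_prime (P : Subgroup G) (card_sylow11 hG P) hC
  exact ⟨s, hK, by omega⟩

variable (s : Setup G 11) [Fintype s.Orb] [DecidableEq (Cfsg.IrrCharacter G)]

/-- Data with `d = 0`. -/
theorem exists_data (he : Nat.card s.auto = 5) : ∃ D : s.Data, D.d = 0 := by
  classical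
  have hcard : Nat.card s.Orb = 2 := by
    have := s.card_orb_mul
    rw [he] at this
    omega
  obtain ⟨D⟩ := s.nonempty_data (le_of_eq hcard.symm)
  by_cases hd : D.d = 0
  · exact ⟨D, hd⟩
  set S := Finset.univ.image D.f with hSdef
  have hS : (triv : Cfsg.IrrCharacter G) ∉ S := by
    intro h
    obtain ⟨o, -, ho⟩ := Finset.mem_image.mp h
    exact D.triv_ne o ho
  have hsum : ∑ χ ∈ S, D.c χ * D.c χ = 2 * (D.d * D.d) := by
    rw [hSdef, Finset.sum_image fun a _ b _ h => D.inj h]
    simp [D.c_f, ← Nat.card_eq_fintype_card, hcard]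
  have hle : 1 + 2 * (D.d * D.d) ≤ ∑ χ, D.c χ * D.c χ := by
    rw [← hsum]
    calc (1 : ℤ) + ∑ χ ∈ S, D.c χ * D.c χ
        = ∑ χ ∈ insert Setup.triv S, D.c χ * D.c χ := by
          rw [Finset.sum_insert hS, D.c_triv]; norm_num
      _ ≤ _ := Finset.sum_le_univ_sum_of_nonneg (fun χ => mul_self_nonneg _)
  have hn := D.norm_eq
  rw [he] at hn
  push_cast at hn
  have heps := D.eps_eq
  have hdeps : D.d = -D.eps := by
    by_contra hne
    -- otherwise only the trivial and exceptional characters occur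
    have hcase : ∑ χ, D.c χ * D.c χ ≤ 1 + 2 * (D.d * D.d) ∧
        (2 * D.d + D.eps = 3 ∨ 2 * D.d + D.eps = -3) := by
      rcases heps with h | h <;> rw [h] at hn hne ⊢
      · have h1 : -2 ≤ D.d := by nlinarith
        have h2 : D.d ≤ 1 := by nlinarith
        interval_cases hd' : D.d <;> omega
      · have h1 : -1 ≤ D.d := by nlinarith
        have h2 : D.d ≤ 2 := by nlinarith
        interval_cases hd' : D.d <;> omega
    have hzero : ∀ χ, χ ∉ insert triv S → D.c χ = 0 := by
      intro χ hχ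
      have : (∑ χ ∈ insert χ (insert triv S), D.c χ * D.c χ) ≤ ∑ χ, D.c χ * D.c χ :=
        Finset.sum_le_univ_sum_of_nonneg (fun χ => mul_self_nonneg _)
      rw [Finset.sum_insert hχ, Finset.sum_insert hS, hsum, D.c_triv] at this
      exact mul_self_eq_zero.mp (le_antisymm (by linarith [hcase.1]) (mul_self_nonneg _))
    have hdeg := D.degree_eq
    rw [← Finset.sum_subset (Finset.subset_univ (insert triv S)) (fun χ _ hχ => by
      rw [hzero χ hχ, mul_zero]), Finset.sum_insert hS, D.c_triv, deg_triv, hSdef,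
      Finset.sum_image fun a _ b _ h => D.inj h] at hdeg
    simp only [D.deg_f, D.c_f, Finset.sum_const, Finset.card_univ, nsmul_eq_mul] at hdeg
    rw [← Nat.card_eq_fintype_card, hcard] at hdeg
    push_cast at hdeg
    have hb : (D.b : ℤ) * (2 * D.d + D.eps) = 1 := by linear_combination hdeg
    rcases hcase.2 with h | h <;> rw [h] at hb <;> omega
  have hother : ∀ o : s.Orb, ∃! o', o' ≠ o := fun o => (Nat.card_eq_two_iff' o).mp hcard
  choose σ hσ using fun o => (hother o).exists
  have huniq : ∀ o o', o' ≠ o → o' = σ o := fun o o' h => (hother o).unique h (hσ o)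
  have hσ2 : ∀ o, σ (σ o) = o := fun o => (huniq _ _ (hσ o).symm).symm
  refine ⟨{ eps := -D.eps
            f := fun o => D.f (σ o)
            c := fun χ => D.c χ + if χ ∈ S then D.eps else 0
            d := 0
            b := D.b
            eps_eq := ?_
            inj := ?_
            vec_eq := ?_
            c_f := ?_
            deg_f := fun o => D.deg_f _
            norm_eq := ?_
            degree_eq := ?_
            triv_ne := fun o => D.triv_ne _
            c_triv := ?_ }, rfl⟩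
  · rcases heps with h | h <;> rw [h] <;> norm_num
  · intro o o' h
    rw [← hσ2 o, ← hσ2 o', D.inj h]
  · intro o χ
    rw [D.vec_eq]
    by_cases h1 : χ = D.f o
    · subst h1
      have hm : D.f o ∈ S := Finset.mem_image_of_mem _ (Finset.mem_univ _)
      rw [if_pos rfl, if_pos hm, if_neg (D.inj.ne (hσ o).symm)]
      ring
    · rw [if_neg h1, add_zero]
      by_cases h2 : χ = D.f (σ o)
      · subst h2
        have hm : D.f (σ o) ∈ S := Finset.mem_image_of_mem _ (Finset.mem_univ _)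
        rw [if_pos rfl, if_pos hm]; ring
      · have hm : χ ∉ S := by
          intro hm
          obtain ⟨o', -, rfl⟩ := Finset.mem_image.mp hm
          by_cases h : o' = o
          · exact h1 (by rw [h])
          · exact h2 (by rw [huniq o o' h])
        rw [if_neg h2, if_neg hm]; ring
  · intro o
    have hm : D.f (σ o) ∈ S := Finset.mem_image_of_mem _ (Finset.mem_univ _)
    rw [if_pos hm, D.c_f, hdeps]; ring
  · have e1 : ∀ χ, (D.c χ + if χ ∈ S then D.eps else 0) * (D.c χ + if χ ∈ S then D.eps else 0)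
        = D.c χ * D.c χ + if χ ∈ S then 2 * D.eps * D.c χ + 1 else 0 := by
      intro χ
      split_ifs
      · linear_combination D.eps_sq
      · ring
    simp only [e1, Finset.sum_add_distrib, Finset.sum_ite_mem, Finset.univ_inter, mul_zero,
      add_zero]
    rw [hSdef, Finset.sum_image fun a _ b _ h => D.inj h, Finset.sum_image fun a _ b _ h => D.inj h]
    simp only [D.c_f, Finset.sum_const, Finset.card_univ, nsmul_eq_mul, mul_one,
      ← Nat.card_eq_fintype_card, hcard]
    rw [he]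
    push_cast
    rw [hdeps] at hn ⊢
    linear_combination hn - 2 * D.eps_sq
  · simp only [mul_add, Finset.sum_add_distrib, mul_ite, mul_zero, Finset.sum_ite_mem,
      Finset.univ_inter]
    rw [hSdef, Finset.sum_image fun a _ b _ h => D.inj h]
    simp only [D.deg_f, Finset.sum_const, Finset.card_univ, nsmul_eq_mul,
      ← Nat.card_eq_fintype_card, hcard]
    push_cast
    linear_combination D.degree_eq
  · rw [if_neg hS, add_zero]; exact D.c_triv

variable {s}

theorem apply_zp (hK : s.K = ⊥) (D : s.Data) {χ : Cfsg.IrrCharacter G} (hχ : ∀ o, χ ≠ D.f o) :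
    (χ : G → ℂ) s.z = -(D.c χ : ℂ) := by
  have h := s.phi_of_const χ (D.c χ) (fun o => by rw [D.vec_eq, if_neg (hχ o), add_zero])
    (one_ne_zero (α := ZMod 11))
  have hk : s.kset = {1} := by ext w; simp [s.mem_kset, hK]
  simpa [Setup.phi, hk, s.zp_one] using h

/-- Sums against the conjugate values at `z`. -/
theorem sum_mul_conj_z (hK : s.K = ⊥) (D : s.Data) (hd : D.d = 0)
    (A : Cfsg.IrrCharacter G → ℂ) :
    ∑ χ, A χ * conj ((χ : G → ℂ) s.z) =
      -(∑ χ, (D.c χ : ℂ) * A χ) + ∑ o, A (D.f o) * conj ((D.f o : G → ℂ) s.z) := by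
  classical
  have h1 : ∀ χ, A χ * conj ((χ : G → ℂ) s.z) = -((D.c χ : ℂ) * A χ) +
      if χ ∈ Finset.univ.image D.f then A χ * conj ((χ : G → ℂ) s.z) else 0 := by
    intro χ
    split_ifs with h
    · obtain ⟨o, -, rfl⟩ := Finset.mem_image.mp h
      rw [D.c_f, hd]; simp
    · rw [apply_zp hK D (fun o ho => h (by
        rw [ho]; exact Finset.mem_image_of_mem D.f (Finset.mem_univ o)))]
      simp [mul_comm]
  rw [Finset.sum_congr rfl fun χ _ => h1 χ, Finset.sum_add_distrib, Finset.sum_neg_distrib,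
    Finset.sum_ite_mem, Finset.univ_inter, Finset.sum_image fun a _ b _ h => D.inj h]

theorem sum_exceptional_z (hK : s.K = ⊥) (D : s.Data) (hd : D.d = 0) :
    ∑ o, conj ((D.f o : G → ℂ) s.z) = -(D.eps : ℂ) := by
  have hzne : ¬ IsConj (1 : G) s.z := fun h => by
    have h1 := isConj_one_right.mp h
    have h2 := s.orderOf_z
    rw [h1, orderOf_one] at h2
    norm_num at h2
  have h := sum_irr_mul_conj (1 : G) s.z
  rw [classInd_apply_of_not_isConj hzne, mul_zero] at h
  have h' := (mul_eq_zero.mp h).resolve_left (class_card_ne_zero 1)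
  rw [sum_mul_conj_z hK D hd] at h'
  simp only [(deg_spec _).2.2, D.deg_f, ← Finset.mul_sum] at h'
  obtain ⟨o₀⟩ : Nonempty s.Orb := inferInstance
  have hb0 : (D.b : ℂ) ≠ 0 := by
    have h : 0 < D.b := D.deg_f o₀ ▸ (deg_spec _).1
    exact_mod_cast h.ne'
  have hdeg : (∑ χ, (D.c χ : ℂ) * (deg χ : ℂ)) + (D.eps : ℂ) * (D.b : ℂ) = 0 := by
    have h1 := congrArg (fun n : ℤ => (n : ℂ)) D.degree_eq
    push_cast at h1
    rw [← h1]
    congr 1
    exact Finset.sum_congr rfl fun χ _ => mul_comm _ _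
  apply mul_left_cancel₀ hb0
  linear_combination h' + hdeg

/-- Pairs of conjugates of `a` with product `z`. -/
theorem pair_formula (hK : s.K = ⊥) (D : s.Data) (hd : D.d = 0) {a : G}
    (ha : ¬ orderOf a = 11) : ∃ e : ℂ, (∀ o, (D.f o : G → ℂ) a = e) ∧
      (∑ χ, (D.c χ : ℂ) * (χ : G → ℂ) a) + (D.eps : ℂ) * e = 0 ∧
      (Nat.card {q : G × G // IsConj a q.1 ∧ IsConj a q.2 ∧ q.1 * q.2 = s.z} : ℂ) *
          (Nat.card (centralizer ({a} : Set G)) : ℂ) ^ 2 =
        (Nat.card G : ℂ) * (-(∑ χ, (D.c χ : ℂ) * ((χ : G → ℂ) a ^ 2 / (deg χ : ℂ))) -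
          (D.eps : ℂ) * (e ^ 2 / (D.b : ℂ))) := by
  have hne : ∀ k : ZMod 11, k ≠ 0 → ∀ w ∈ s.K, ¬ IsConj a (s.zp k * w) := by
    intro k hk w hw hc
    rw [hK, mem_bot] at hw
    rw [hw, mul_one] at hc
    obtain ⟨g, hg⟩ := isConj_iff.mp hc
    apply ha
    rw [← (MulAut.conj g).orderOf_eq a, MulAut.conj_apply, hg]
    refine orderOf_eq_prime (by rw [s.zp_pow, s.zp_eq_one_iff]; exact mul_eq_zero_of_right _ rfl)
      (fun h => hk ((s.zp_eq_one_iff k).mp h))
  obtain ⟨o₀⟩ : Nonempty s.Orb := inferInstance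
  have heC : (D.eps : ℂ) * D.eps = 1 := by exact_mod_cast D.eps_sq
  have hrel : ∀ o, (D.f o : G → ℂ) a =
      -(D.eps : ℂ) * ∑ χ, (D.c χ : ℂ) * (χ : G → ℂ) a := by
    intro o
    have h := D.value_eq hne o
    simp only [mul_comm _ ((D.c _ : ℂ))] at h
    linear_combination (D.eps : ℂ) * h - (D.f o : G → ℂ) a * heC
  refine ⟨_, hrel, ?_, ?_⟩
  · linear_combination -(∑ χ, (D.c χ : ℂ) * (χ : G → ℂ) a) * heC
  set e : ℂ := -(D.eps : ℂ) * ∑ χ, (D.c χ : ℂ) * (χ : G → ℂ) a
  set m : ℕ := Nat.card {y : G // IsConj a y} with hm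
  have h := classFun_eq_sum (isClassFunction_conv (isClassFunction_classInd a)
    (isClassFunction_classInd a)) s.z
  rw [conv_classInd_apply] at h
  simp only [sum_conv_mul, ← hm] at h
  have hGne : (Nat.card G : ℂ) ≠ 0 := Nat.cast_ne_zero.mpr Nat.card_pos.ne'
  have hS : ∑ χ : Cfsg.IrrCharacter G, ((χ : G → ℂ) a ^ 2 / (χ : G → ℂ) 1) *
      conj ((χ : G → ℂ) s.z) = -(∑ χ, (D.c χ : ℂ) * ((χ : G → ℂ) a ^ 2 / (deg χ : ℂ))) -
        (D.eps : ℂ) * (e ^ 2 / (D.b : ℂ)) := by
    rw [sum_mul_conj_z hK D hd]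
    simp only [(deg_spec _).2.2, D.deg_f, hrel, ← Finset.mul_sum, sum_exceptional_z hK D hd]
    ring
  rw [← hS, h]
  have hmc : (m : ℂ) * (Nat.card (centralizer ({a} : Set G)) : ℂ) = (Nat.card G : ℂ) := by
    exact_mod_cast SmallGroups.card_conj_mul_centralizer a
  rw [Finset.sum_mul, Finset.mul_sum]
  refine Finset.sum_congr rfl fun χ _ => ?_
  field_simp
  rw [← hmc]
  ring

end Cfsg.Agent.Steiner.M11
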