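import Cfsg.Agent.Lib.Steiner.M11.Five

/-!
# The degrees of the irreducible characters of a simple group of order 7920
-/

set_option autoImplicit false

namespace Cfsg.Agent.Steiner.M11

open Subgroup Cfsg.Agent.SmallGroups
open Cfsg.Agent.SmallGroups.SelfCent (Setup exists_setup_of_prime)
open Cfsg.Agent.SmallGroups.SelfCent.Setup (deg deg_spec triv deg_triv)

variable {G : Type*} [Group G] [Fintype G]

/-- An element of order 5 with the value of every character there. -/
theorem exists_five_values (hG : Cfsg.IsM11 G) : ∃ (v : Cfsg.IrrCharacter G → ℤ),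
    (∀ χ, (5 : ℤ) ∣ (deg χ : ℤ) - v χ) ∧ ∑ χ, v χ ^ 2 = 5 ∧ v triv = 1 := by
  classical
  have : Fact (Nat.Prime 5) := ⟨by norm_num⟩
  obtain ⟨P⟩ := (inferInstance : Nonempty (Sylow 5 G))
  obtain ⟨hP5, -, hN, hC⟩ := five hG P
  obtain ⟨s, -, -, hcard⟩ := exists_setup_of_prime (P : Subgroup G) hP5 hC
  have htop : s.auto = ⊤ := by
    apply eq_top_of_card_eq
    rw [Nat.card_eq_fintype_card (α := (ZMod 5)ˣ), ZMod.card_units]
    omega
  have hconst : ∀ (χ : Cfsg.IrrCharacter G), ∀ h ∈ zpowers s.z, h ≠ 1 →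
      (χ : G → ℂ) h = (χ : G → ℂ) s.z := by
    intro χ h hh h1
    obtain ⟨m, rfl⟩ := ((isOfFinOrder_of_finite s.z).mem_powers_iff_mem_zpowers).mpr hh
    simp only at h1 ⊢
    rw [← s.zp_natCast] at h1 ⊢
    have hm0 : (m : ZMod 5) ≠ 0 := fun e => h1 (by rw [e, s.zp_zero])
    have hc : IsConj (s.zp 1) (s.zp (m : ZMod 5)) :=
      (s.isConj_zp_iff one_ne_zero).mpr
        ⟨Units.mk0 _ hm0, htop ▸ mem_top _, by rw [one_mul, Units.val_mk0]⟩
    rw [s.zp_one] at hc
    obtain ⟨g, hg⟩ := isConj_iff.mp hc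
    rw [← hg, CharCore.irr_isClassFunction χ s.z g]
  choose v hv hd using fun χ => exists_int_value χ s.orderOf_z (hconst χ)
  refine ⟨v, fun χ => hd χ, ?_, ?_⟩
  · have h := CharCore.sum_apply_mul_conj s.z s.z
    rw [if_pos (IsConj.refl _), card_centralizer_five hG s.orderOf_z] at h
    apply Int.cast_injective (α := ℂ)
    push_cast
    rw [Finset.sum_congr rfl fun χ _ => show (v χ : ℂ) ^ 2 =
      (χ : G → ℂ) s.z * (starRingEnd ℂ) ((χ : G → ℂ) s.z) by
        rw [hv, map_intCast, sq], h]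
    norm_num
  · have h := hv triv
    simp only [triv, Pi.one_apply] at h
    exact_mod_cast h.symm

private theorem k_options : ∀ d ∈ (7920 : ℕ).divisors, d * d ≤ 5082 → 11 ∣ d →
    d ∈ [11, 22, 33, 44, 55, 66] := by
  decide +kernel

/-- The ten degrees. -/
theorem degrees (hG : Cfsg.IsM11 G) :
    (Finset.univ : Finset (Cfsg.IrrCharacter G)).val.map deg =
      {1, 10, 10, 10, 45, 16, 16, 11, 44, 55} := by
  classical
  have : Fact (Nat.Prime 11) := ⟨by norm_num⟩
  obtain ⟨s, hK, he⟩ := exists_setup hG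
  have := Fintype.ofFinite s.Orb
  obtain ⟨D, hd⟩ := exists_data s he
  obtain ⟨o₁, o₂, ho, huniv⟩ := Nat.card_eq_two_iff.mp (show Nat.card s.Orb = 2 by
    have := s.card_orb_mul
    rw [he] at this
    omega)
  obtain ⟨heps, h | h⟩ := exists_split hG hK he D hd
  · -- the other pattern is impossible
    exfalso
    obtain ⟨α, α', β, β', -, ⟨-, -, n3, n4⟩, ⟨-, -, d3, d4⟩, hββ, -⟩ := h
    obtain ⟨v, hv, hsum, hv1⟩ := exists_five_values hG
    have h1 := Finset.sum_le_univ_sum_of_nonneg (s := {triv, β, β'})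
      (f := fun χ => v χ ^ 2) (fun χ => sq_nonneg _)
    rw [hsum, Finset.sum_insert (by simp [n3.symm, n4.symm]), Finset.sum_pair hββ, hv1] at h1
    have hb : ∀ χ, deg χ = 12 → 4 ≤ v χ ^ 2 := fun χ hχ => by
      have h5 := hv χ
      rw [hχ] at h5
      rcases le_or_gt (v χ) (-2) with h' | h'
      · nlinarith
      · rcases le_or_gt 2 (v χ) with h'' | h''
        · nlinarith
        · have : v χ = -1 ∨ v χ = 0 ∨ v χ = 1 := by omega
          rcases this with e | e | e <;> rw [e] at h5 <;> norm_num at h5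
    linarith [hb β d3, hb β' d4]
  obtain ⟨α₁, α₂, α₃, γ, hb, ⟨n1, n2, n3, n4⟩, ⟨d1, d2, d3, d4⟩, ⟨m12, m13, m23⟩, hL⟩ := h
  have df : ∀ o, deg (D.f o) = 16 := fun o => by rw [D.deg_f, hb]
  set R := ({triv, α₁, α₂, α₃, γ, D.f o₁, D.f o₂} : Finset (Cfsg.IrrCharacter G)) with hR
  have hd1 : deg (triv : Cfsg.IrrCharacter G) = 1 := deg_triv
  have hne : ∀ {χ ψ : Cfsg.IrrCharacter G}, deg χ ≠ deg ψ → χ ≠ ψ := fun h e => h (by rw [e])
  have hRmap : R.val.map deg = {1, 10, 10, 10, 45, 16, 16} := by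
    rw [hR, Finset.insert_val_of_notMem, Finset.insert_val_of_notMem, Finset.insert_val_of_notMem,
      Finset.insert_val_of_notMem, Finset.insert_val_of_notMem, Finset.insert_val_of_notMem,
      Finset.singleton_val]
    · simp [Multiset.map_cons, hd1, d1, d2, d3, d4, df]
    all_goals simp only [Finset.mem_insert, Finset.mem_singleton, not_or]
    · exact D.inj.ne ho
    · exact ⟨hne (by rw [d4, df]; norm_num), hne (by rw [d4, df]; norm_num)⟩
    · exact ⟨hne (by rw [d3, d4]; norm_num), hne (by rw [d3, df]; norm_num),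
        hne (by rw [d3, df]; norm_num)⟩
    · exact ⟨m23, hne (by rw [d2, d4]; norm_num), hne (by rw [d2, df]; norm_num),
        hne (by rw [d2, df]; norm_num)⟩
    · exact ⟨m12, m13, hne (by rw [d1, d4]; norm_num), hne (by rw [d1, df]; norm_num),
        hne (by rw [d1, df]; norm_num)⟩
    · exact ⟨n1.symm, n2.symm, n3.symm, n4.symm, (D.triv_ne o₁).symm, (D.triv_ne o₂).symm⟩
  have hRo : ∀ o, D.f o ∈ R := fun o => by
    have : o ∈ ({o₁, o₂} : Set s.Orb) := huniv ▸ Set.mem_univ o
    rcases this with rfl | rfl <;> simp [hR]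
  have h11 : ∀ χ ∈ Rᶜ, deg χ ∈ [11, 22, 33, 44, 55, 66] := by
    intro χ hχ
    rw [Finset.mem_compl] at hχ
    have hex : ¬ ∃ o, χ = D.f o := fun ⟨o, e⟩ => hχ (e ▸ hRo o)
    have hc : D.c χ = 0 := by
      have h := hL (fun y => if y = χ then 1 else 0)
      simp only [mul_ite, mul_one, mul_zero, Finset.sum_ite_eq', Finset.mem_univ, if_true] at h
      simp only [hR, Finset.mem_insert, Finset.mem_singleton, not_or] at hχ
      rw [if_neg (Ne.symm hχ.1), if_neg (Ne.symm hχ.2.1), if_neg (Ne.symm hχ.2.2.1),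
        if_neg (Ne.symm hχ.2.2.2.1), if_neg (Ne.symm hχ.2.2.2.2.1)] at h
      exact_mod_cast (by linear_combination h : (D.c χ : ℂ) = 0)
    obtain ⟨n, -, hn, hmod⟩ := D.fix_congr χ
    rw [hn hK, if_neg hex, hc, neg_zero, add_zero] at hmod
    have hdvd : 11 ∣ deg χ := Int.natCast_dvd_natCast.mp (Int.modEq_zero_iff_dvd.mp hmod)
    have hdG := (deg_spec χ).2.1
    rw [card_eq hG] at hdG
    refine k_options _ (Nat.mem_divisors.mpr ⟨hdG, by norm_num⟩) ?_ hdvd
    have hall : ∑ y ∈ insert χ R, deg y ^ 2 ≤ 7920 := by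
      have hsq : ∑ y : Cfsg.IrrCharacter G, deg y ^ 2 = Nat.card G := by
        have h := CharCore.sum_degree_sq (G := G)
        simp only [(deg_spec _).2.2] at h
        exact_mod_cast h
      rw [← card_eq hG, ← hsq]
      exact Finset.sum_le_univ_sum_of_nonneg fun _ => Nat.zero_le _
    rw [Finset.sum_insert hχ, Finset.sum_eq_multiset_sum R,
      show R.val.map (fun y => deg y ^ 2) = (R.val.map deg).map (· ^ 2) by
        rw [Multiset.map_map]; rfl, hRmap] at hall
    norm_num at hall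
    nlinarith
  -- values at an element of order 5
  obtain ⟨v, hv, hvsum, hv1⟩ := exists_five_values hG
  have hsmall : ∀ χ, v χ = 0 ∨ v χ = 1 ∨ v χ = -1 ∨ v χ = 2 ∨ v χ = -2 := by
    intro χ
    have h := Finset.single_le_sum (f := fun y => v y ^ 2) (fun y _ => sq_nonneg (v y))
      (Finset.mem_univ χ)
    rw [hvsum] at h
    have h1 : -2 ≤ v χ := by nlinarith
    have h2 : v χ ≤ 2 := by nlinarith
    omega
  have hval : ∀ χ, (5 ∣ deg χ → v χ = 0) ∧ (deg χ % 5 = 1 → v χ = 1) := by
    intro χ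
    have h := hv χ
    constructor <;> intro hd5 <;> rcases hsmall χ with e | e | e | e | e <;> rw [e] at h ⊢ <;> omega
  have hX : ∑ χ ∈ Rᶜ, v χ ^ 2 = 2 := by
    have hRsum : ∑ χ ∈ R, v χ ^ 2 = 3 := by
      have hv0 : ∀ χ ∈ R, v χ ^ 2 = ((if deg χ % 5 = 0 then 0 else 1 : ℕ) : ℤ) := by
        intro χ hχ
        have h5 : deg χ % 5 = 0 ∨ deg χ % 5 = 1 := by
          have hm := Multiset.mem_map_of_mem deg (Finset.mem_val.mpr hχ)
          rw [hRmap] at hm
          simp only [Multiset.insert_eq_cons, Multiset.mem_cons, Multiset.mem_singleton] at hm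
          omega
        rcases h5 with h | h
        · rw [(hval χ).1 (Nat.dvd_of_mod_eq_zero h), h]; simp
        · rw [(hval χ).2 h, h]; simp
      rw [Finset.sum_congr rfl hv0, ← Nat.cast_sum, Finset.sum_eq_multiset_sum R,
        show R.val.map (fun y => if deg y % 5 = 0 then 0 else 1) =
          (R.val.map deg).map (fun d => if d % 5 = 0 then 0 else 1) by
          rw [Multiset.map_map]; rfl, hRmap]
      rfl
    have h := Finset.sum_add_sum_compl R fun χ => v χ ^ 2
    rw [hvsum, hRsum] at h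
    linarith
  have hv2 : ∀ χ ∈ Rᶜ, v χ ^ 2 = if deg χ = 55 then 0 else 1 := by
    intro χ hχ
    have hle : v χ ^ 2 ≤ 2 := hX ▸ Finset.single_le_sum (fun y _ => sq_nonneg (v y)) hχ
    have h5 := hv χ
    have hd := h11 χ hχ
    simp only [List.mem_cons, List.not_mem_nil, or_false] at hd
    rcases hd with e | e | e | e | e | e <;> rw [e] at h5 ⊢ <;>
      rcases hsmall χ with f | f | f | f | f <;> rw [f] at h5 hle ⊢ <;> first | omega | simp at hle ⊢
  rw [Finset.sum_congr rfl hv2] at hX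
  have hA : (Rᶜ.filter fun χ => ¬ deg χ = 55).card = 2 := by
    rw [Finset.sum_ite] at hX
    simp only [Finset.sum_const_zero, zero_add, Finset.sum_const, nsmul_one] at hX
    exact_mod_cast hX
  obtain ⟨χ₁, χ₂, h12, hA2⟩ := Finset.card_eq_two.mp hA
  set B := Rᶜ.filter fun χ => deg χ = 55 with hB
  have hsplit : (Finset.univ : Finset (Cfsg.IrrCharacter G)).val.map deg =
      R.val.map deg + (Multiset.replicate B.card 55 + {deg χ₁, deg χ₂}) := by
    have h1 : (Finset.univ : Finset (Cfsg.IrrCharacter G)) = R.disjUnion Rᶜ disjoint_compl_right := by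
      rw [Finset.disjUnion_eq_union, Finset.union_compl]
    have h2 : Rᶜ = B.disjUnion (Rᶜ.filter fun χ => ¬ deg χ = 55)
        (Finset.disjoint_filter_filter_not _ _ _) := by
      rw [Finset.disjUnion_eq_union, hB, Finset.filter_union_filter_not_eq]
    rw [h1, Finset.disjUnion_val, Multiset.map_add]
    congr 1
    conv_lhs => rw [h2]
    rw [Finset.disjUnion_val, Multiset.map_add]
    congr 1
    · rw [Finset.card_def, ← Multiset.map_const', Multiset.map_congr rfl]
      intro x hx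
      exact (Finset.mem_filter.mp hx).2
    · rw [hA2, Finset.insert_val_of_notMem (by simp [h12]), Finset.singleton_val]
      simp
  have hm : ∀ χ, χ ∈ ({χ₁, χ₂} : Finset (Cfsg.IrrCharacter G)) →
      deg χ = 11 ∨ deg χ = 44 ∨ deg χ = 66 := by
    intro χ hχ
    rw [← hA2] at hχ
    obtain ⟨hχR, h55⟩ := Finset.mem_filter.mp hχ
    have h5 := hv χ
    have hle := hv2 χ hχR
    rw [if_neg h55] at hle
    have hd := h11 χ hχR
    simp only [List.mem_cons, List.not_mem_nil, or_false] at hd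
    rcases hd with e | e | e | e | e | e <;> rw [e] at h5 <;>
      first
      | omega
      | (rcases sq_eq_one_iff.mp hle with f | f <;> rw [f] at h5 <;> norm_num at h5)
  have hsq : ∑ y : Cfsg.IrrCharacter G, deg y ^ 2 = 7920 := by
    have h := CharCore.sum_degree_sq (G := G)
    simp only [(deg_spec _).2.2] at h
    rw [← card_eq hG]
    exact_mod_cast h
  rw [Finset.sum_eq_multiset_sum, show (Finset.univ : Finset (Cfsg.IrrCharacter G)).val.map
      (fun y => deg y ^ 2) = ((Finset.univ : Finset (Cfsg.IrrCharacter G)).val.map deg).map (· ^ 2)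
    by rw [Multiset.map_map]; rfl, hsplit, hRmap, Multiset.map_add, Multiset.sum_add,
    Multiset.map_add, Multiset.sum_add, Multiset.map_replicate, Multiset.sum_replicate] at hsq
  simp at hsq
  have e1 := hm χ₁ (by simp)
  have e2 := hm χ₂ (by simp)
  have hB1 : B.card = 1 ∧ (deg χ₁ = 11 ∧ deg χ₂ = 44 ∨ deg χ₁ = 44 ∧ deg χ₂ = 11) := by
    rcases e1 with e | e | e <;> rcases e2 with f | f | f <;> rw [e, f] at hsq ⊢ <;>
      norm_num at hsq <;> refine ⟨by omega, ?_⟩ <;> omega
  rw [hsplit, hRmap, hB1.1]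
  rcases hB1.2 with ⟨e, f⟩ | ⟨e, f⟩ <;> rw [e, f] <;> decide

end Cfsg.Agent.Steiner.M11
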