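import Cfsg.Agent.Lib.Steiner.M11.Lines

/-!
# A simple group of order 7920 on 55 points: the stabiliser of an edge
-/

set_option autoImplicit false

namespace Cfsg.Agent.Steiner.M11

open Subgroup Cfsg.Agent.SmallGroups
open scoped Pointwise

variable {G : Type*} [Group G] [Fintype G] [Fact (Nat.Prime 3)]

/-- The three subgroups inverted by an involution `z`, in some order. -/
structure Line (z : G) (a b c : Sylow 3 G) : Prop where
  ha : IsInv z a
  hb : IsInv z b
  hc : IsInv z c
  hab : a ≠ b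
  hac : a ≠ c
  hbc : b ≠ c

theorem Line.eq_or (hG : Cfsg.IsM11 G) {z : G} {a b c d : Sylow 3 G} (l : Line z a b c)
    (hd : IsInv z d) : d = a ∨ d = b ∨ d = c := by
  classical
  by_contra h
  push_neg at h
  have h4 : ({d, a, b, c} : Finset (Sylow 3 G)).card = 4 := by
    simp [h.1, h.2.1, h.2.2, l.hab, l.hac, l.hbc]
  have h3 := card_isInv hG l.ha.1
  have hle : ({d, a, b, c} : Finset (Sylow 3 G)).card ≤ 3 := by
    refine le_of_le_of_eq ?_ h3
    rw [← Nat.card_eq_finsetCard]
    refine Nat.card_le_card_of_injective (fun x => ⟨x.1, ?_⟩) (fun x y e => ?_)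
    · have hx := x.2
      simp only [Finset.mem_insert, Finset.mem_singleton] at hx
      rcases hx with hx | hx | hx | hx <;> rw [hx]
      exacts [hd, l.ha, l.hb, l.hc]
    · exact Subtype.ext (congrArg (fun v : {a : Sylow 3 G // IsInv z a} => v.1) e)
  omega

theorem Line.symm {z : G} {a b c : Sylow 3 G} (l : Line z a b c) : Line z a c b :=
  ⟨l.ha, l.hc, l.hb, l.hac, l.hab, l.hbc.symm⟩

theorem Line.rot {z : G} {a b c : Sylow 3 G} (l : Line z a b c) : Line z b c a :=
  ⟨l.hb, l.hc, l.ha, l.hbc, l.hab.symm, l.hac.symm⟩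

theorem Line.conj {z : G} {a b c : Sylow 3 G} (l : Line z a b c) (g : G) :
    Line (g * z * g⁻¹) (g • a) (g • b) (g • c) :=
  ⟨l.ha.conj g, l.hb.conj g, l.hc.conj g, fun e => l.hab (MulAction.injective g e),
    fun e => l.hac (MulAction.injective g e), fun e => l.hbc (MulAction.injective g e)⟩

theorem exists_line (hG : Cfsg.IsM11 G) {z : G} {a b : Sylow 3 G} (ha : IsInv z a)
    (hb : IsInv z b) (hab : a ≠ b) : ∃ c, Line z a b c := by
  classical
  by_contra h
  push_neg at h
  have h3 := card_isInv hG ha.1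
  have hle : Nat.card {x : Sylow 3 G // IsInv z x} ≤ 2 := by
    calc Nat.card {x : Sylow 3 G // IsInv z x}
        ≤ Nat.card ({a, b} : Finset (Sylow 3 G)) := by
          refine Nat.card_le_card_of_injective (fun x => ⟨x.1, ?_⟩) (fun x y e => ?_)
          · by_contra hx
            simp only [Finset.mem_insert, Finset.mem_singleton, not_or] at hx
            exact h x.1 ⟨ha, hb, x.2, hab, Ne.symm hx.1, Ne.symm hx.2⟩
          · exact Subtype.ext (congrArg
              (fun v : ({a, b} : Finset (Sylow 3 G)) => (v : Sylow 3 G)) e)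
      _ = 2 := by rw [Nat.card_eq_finsetCard, Finset.card_pair hab]
  omega

theorem IsInv.of_smul {z g : G} {a : Sylow 3 G} (h : IsInv z a)
    (hg : g ∈ centralizer ({z} : Set G)) : IsInv z (g • a) := by
  have h' := h.conj g
  rwa [mem_centralizer_singleton_iff.mp hg, mul_inv_cancel_right] at h'

/-- The stabiliser of an edge centralises its inverter and fixes the third point. -/
theorem Line.edge_stab (hG : Cfsg.IsM11 G) {z : G} {a b c : Sylow 3 G} (l : Line z a b c)
    {g : G} (ha : g • a = a) (hb : g • b = b) :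
    g ∈ centralizer ({z} : Set G) ∧ g • c = c := by
  have h : g * z * g⁻¹ = z := by
    have h1 := l.ha.conj g
    have h2 := l.hb.conj g
    rw [ha] at h1; rw [hb] at h2
    exact (l.ha.eq_of_adj hG l.hab h1 l.hb h2).symm
  have hg : g ∈ centralizer ({z} : Set G) :=
    mem_centralizer_singleton_iff.mpr (mul_inv_eq_iff_eq_mul.mp h)
  refine ⟨hg, ?_⟩
  rcases l.eq_or hG (l.hc.of_smul hg) with h' | h' | h'
  · exact absurd (MulAction.injective g (h'.trans ha.symm)) l.hac.symm
  · exact absurd (MulAction.injective g (h'.trans hb.symm)) l.hbc.symm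
  · exact h'

/-- The pointwise stabiliser of an edge. -/
def stab2 (a b : Sylow 3 G) : Subgroup G := MulAction.stabilizer G a ⊓ MulAction.stabilizer G b

theorem mem_stab2 {a b : Sylow 3 G} {g : G} : g ∈ stab2 a b ↔ g • a = a ∧ g • b = b := Iff.rfl

/-- The stabiliser of `a` and `z` interchanges the other two points of the line; the pointwise
stabiliser has order 8. -/
theorem Line.swap (hG : Cfsg.IsM11 G) {z : G} {a b c : Sylow 3 G} (l : Line z a b c) :
    (∃ d ∈ centralizer ({z} : Set G), d • a = a ∧ d • b = c ∧ d • c = b) ∧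
      Nat.card (stab2 a b) = 8 := by
  classical
  set C := centralizer ({z} : Set G) with hC
  set D := C ⊓ normalizer ((a : Subgroup G) : Set G) with hD
  have hD16 : Nat.card D = 16 := l.ha.card_stab hG
  have hle : stab2 a b ≤ D := fun g hg =>
    ⟨(l.edge_stab hG hg.1 hg.2).1, (smul_eq_iff g a).mp hg.1⟩
  have hor : ∀ g ∈ D, g • b = b ∨ g • b = c := fun g hg => by
    rcases l.eq_or hG (l.hb.of_smul hg.1) with h | h | h
    · exact absurd (MulAction.injective g (h.trans ((smul_eq_iff g a).mpr hg.2).symm)) l.hab.symm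
    · exact Or.inl h
    · exact Or.inr h
  have hswap : ∃ d ∈ D, d • b = c := by
    by_contra h
    push_neg at h
    have hfix : ∀ g ∈ D, g • a = a ∧ g • b = b ∧ g • c = c := fun g hg =>
      ⟨(smul_eq_iff g a).mpr hg.2, (hor g hg).resolve_right (h g hg),
        (l.edge_stab hG ((smul_eq_iff g a).mpr hg.2) ((hor g hg).resolve_right (h g hg))).2⟩
    have h3 : 3 ∣ Nat.card C := by rw [card_centralizer_two hG l.ha.1]; norm_num
    obtain ⟨⟨w, hw⟩, hwo⟩ := exists_prime_orderOf_dvd_card' (G := C) 3 h3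
    rw [orderOf_mk] at hwo
    have hnorm : ∀ g ∈ D, w * g * w⁻¹ ∈ D := by
      intro g hg
      refine ⟨C.mul_mem (C.mul_mem hw hg.1) (C.inv_mem hw), (smul_eq_iff _ a).mp ?_⟩
      have hx : g • (w⁻¹ • a) = w⁻¹ • a := by
        rcases l.eq_or hG (l.ha.of_smul (C.inv_mem hw)) with h' | h' | h' <;> rw [h']
        exacts [(hfix g hg).1, (hfix g hg).2.1, (hfix g hg).2.2]
      rw [mul_smul, mul_smul, hx, smul_inv_smul]
    let f : D → D := fun g => ⟨w * g * w⁻¹, hnorm g g.2⟩
    have hinj : Function.Injective f := fun g g' e => Subtype.ext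
      (mul_left_cancel (mul_right_cancel
        (show w * (g : G) * w⁻¹ = w * (g' : G) * w⁻¹ from congrArg Subtype.val e)))
    let σ : Equiv.Perm D := Equiv.ofBijective f ⟨hinj, Finite.surjective_of_injective hinj⟩
    have hσ : σ ^ 3 = 1 := by
      have h3 : w ^ 3 = 1 := hwo ▸ pow_orderOf_eq_one w
      ext g
      show w * (w * (w * (g : G) * w⁻¹) * w⁻¹) * w⁻¹ = (g : G)
      calc w * (w * (w * (g : G) * w⁻¹) * w⁻¹) * w⁻¹ = w ^ 3 * g * (w ^ 3)⁻¹ := by
            simp [pow_succ, mul_assoc]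
        _ = g := by rw [h3]; group
    have hmod := Classification.card_modEq_fixed hσ
    rw [hD16] at hmod
    have hfx : Nat.card {g // σ g = g} = Nat.card ↥(D ⊓ centralizer ({w} : Set G)) := by
      refine Nat.card_congr
        { toFun := fun g => ⟨g.1.1, g.1.2, ?_⟩
          invFun := fun g => ⟨⟨g.1, g.2.1⟩, Subtype.ext (mul_inv_eq_iff_eq_mul.mpr
            (mem_centralizer_singleton_iff.mp g.2.2).symm)⟩
          left_inv := fun g => rfl
          right_inv := fun g => rfl }
      show g.1.1 ∈ centralizer ({w} : Set G)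
      rw [mem_centralizer_singleton_iff]
      exact (mul_inv_eq_iff_eq_mul.mp (congrArg Subtype.val g.2)).symm
    rw [hfx] at hmod
    obtain ⟨P, hP⟩ := exists_sylow3_mem hwo
    have h18 : Nat.card ↥(D ⊓ centralizer ({w} : Set G)) ∣ 18 :=
      (transitive_three hG P hP (fun e => by rw [e, orderOf_one] at hwo; norm_num at hwo)).1 ▸
        card_dvd_of_le inf_le_right
    have h16 : Nat.card ↥(D ⊓ centralizer ({w} : Set G)) ∣ 16 :=
      hD16 ▸ card_dvd_of_le inf_le_left
    have h2 := Nat.dvd_gcd h18 h16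
    rw [show Nat.gcd 18 16 = 2 by decide] at h2
    have hzD : z ∈ D ⊓ centralizer ({w} : Set G) :=
      ⟨⟨mem_centralizer_singleton_iff.mpr rfl, (smul_eq_iff z a).mp l.ha.smul_eq⟩,
        mem_centralizer_singleton_iff.mpr (mem_centralizer_singleton_iff.mp hw).symm⟩
    have hz2 : 2 ∣ Nat.card ↥(D ⊓ centralizer ({w} : Set G)) :=
      l.ha.1 ▸ Subgroup.orderOf_dvd_natCard _ hzD
    have heq := Nat.dvd_antisymm h2 hz2
    rw [heq] at hmod
    norm_num [Nat.ModEq] at hmod
  obtain ⟨d, hd, hdb⟩ := hswap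
  have hda : d • a = a := (smul_eq_iff d a).mpr hd.2
  have hdc : d • c = b := by
    rcases l.eq_or hG (l.hc.of_smul hd.1) with h | h | h
    · exact absurd (MulAction.injective d (h.trans hda.symm)) l.hac.symm
    · exact h
    · exact absurd (MulAction.injective d (h.trans hdb.symm)) l.hbc.symm
  refine ⟨⟨d, hd.1, hda, hdb, hdc⟩, ?_⟩
  let f : stab2 a b ⊕ stab2 a b → D := Sum.elim (fun g => ⟨g, hle g.2⟩)
    (fun g => ⟨d * g, D.mul_mem hd (hle g.2)⟩)
  have hinj : Function.Injective f := by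
    rintro (g | g) (g' | g') e <;> have e' := congrArg Subtype.val e <;>
      simp only [f, Sum.elim_inl, Sum.elim_inr] at e'
    · exact congrArg Sum.inl (Subtype.ext e')
    · exfalso
      have h1 : (g : G) • b = b := g.2.2
      rw [e', mul_smul, (g'.2.2 : (g' : G) • b = b), hdb] at h1
      exact l.hbc h1.symm
    · exfalso
      have h1 : (g' : G) • b = b := g'.2.2
      rw [← e', mul_smul, (g.2.2 : (g : G) • b = b), hdb] at h1
      exact l.hbc h1.symm
    · exact congrArg Sum.inr (Subtype.ext (mul_left_cancel e'))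
  have hsurj : Function.Surjective f := by
    rintro ⟨g, hg⟩
    have hga : g • a = a := (smul_eq_iff g a).mpr hg.2
    rcases hor g hg with h | h
    · exact ⟨Sum.inl ⟨g, hga, h⟩, rfl⟩
    · refine ⟨Sum.inr ⟨d⁻¹ * g, ?_, ?_⟩, Subtype.ext (mul_inv_cancel_left d g)⟩
      · show (d⁻¹ * g) • a = a
        rw [mul_smul, hga, inv_smul_eq_iff, hda]
      · show (d⁻¹ * g) • b = b
        rw [mul_smul, h, inv_smul_eq_iff, hdb]
  have hc := Nat.card_congr (Equiv.ofBijective f ⟨hinj, hsurj⟩)
  rw [Nat.card_sum, hD16] at hc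
  omega

/-- No nontrivial element fixing an edge centralises a nontrivial element of `a`. -/
theorem Line.eq_one_of_commute (hG : Cfsg.IsM11 G) {z : G} {a b c : Sylow 3 G}
    (l : Line z a b c) {r y : G} (hr : r ∈ stab2 a b) (hy : y ∈ (a : Subgroup G)) (hy1 : y ≠ 1)
    (hc : Commute r y) : r = 1 := by
  classical
  have : Fact (Nat.Prime 2) := ⟨Nat.prime_two⟩
  set R := stab2 a b with hR
  have hR8 : Nat.card R = 2 ^ 3 := by rw [(l.swap hG).2]; norm_num
  have hRN : R ≤ normalizer ((a : Subgroup G) : Set G) := fun g hg => (smul_eq_iff g a).mp hg.1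
  have hzR : ∀ g ∈ R, Commute z g := fun g hg =>
    (mem_centralizer_singleton_iff.mp (l.edge_stab hG hg.1 hg.2).1).symm
  have hzmem : z ∈ R := ⟨l.ha.smul_eq, l.hb.smul_eq⟩
  by_contra hr1
  have hz1 : z ≠ 1 := fun e => by have := l.ha.1; rw [e, orderOf_one] at this; norm_num at this
  have hzy : ¬ Commute z y := by
    intro h
    have h1 := l.ha.2 y hy
    rw [h.eq, mul_inv_cancel_right] at h1
    have h2 : y ^ 2 = 1 := by rw [sq]; nth_rewrite 1 [h1]; exact inv_mul_cancel y
    apply hy1
    rw [← orderOf_eq_one_iff]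
    exact Nat.eq_one_of_dvd_coprimes (by norm_num : Nat.Coprime 2 3) (orderOf_dvd_of_pow_eq_one h2)
      (orderOf_dvd_of_pow_eq_one (exponent_three hG a hy))
  -- an involution `u` of `R` commuting with `y`
  have hd8 : orderOf r ∣ 2 ^ 3 := hR8 ▸ Subgroup.orderOf_dvd_natCard R hr
  have hd18 : orderOf r ∣ 18 := (transitive_three hG a hy hy1).1 ▸
    Subgroup.orderOf_dvd_natCard _ (mem_centralizer_singleton_iff.mpr hc.eq)
  have h2 := Nat.dvd_gcd hd8 hd18
  rw [show Nat.gcd (2 ^ 3) 18 = 2 by decide] at h2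
  have hro : orderOf r = 2 := ((Nat.dvd_prime Nat.prime_two).mp h2).resolve_left
    (fun e => hr1 (orderOf_eq_one_iff.mp e))
  -- all involutions of `R` other than `z` form a free orbit set
  have h3 : 3 ∣ Nat.card (centralizer ({z} : Set G)) := by
    rw [card_centralizer_two hG l.ha.1]; norm_num
  obtain ⟨⟨w, hw⟩, hwo⟩ := exists_prime_orderOf_dvd_card'
    (G := ↥(centralizer ({z} : Set G))) 3 h3
  rw [orderOf_mk] at hwo
  have hfix3 : ∀ g ∈ R, ∀ x : Sylow 3 G, IsInv z x → g • x = x := by
    intro g hg x hx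
    rcases l.eq_or hG hx with rfl | rfl | rfl
    exacts [hg.1, hg.2, (l.edge_stab hG hg.1 hg.2).2]
  have hwinv : w⁻¹ ∈ centralizer ({z} : Set G) := (centralizer ({z} : Set G)).inv_mem hw
  have hnorm : ∀ g ∈ R, w * g * w⁻¹ ∈ R := by
    intro g hg
    constructor
    · show (w * g * w⁻¹) • a = a
      rw [mul_smul, mul_smul, hfix3 g hg _ (l.ha.of_smul hwinv), smul_inv_smul]
    · show (w * g * w⁻¹) • b = b
      rw [mul_smul, mul_smul, hfix3 g hg _ (l.hb.of_smul hwinv), smul_inv_smul]
  set J := {u : G // u ∈ R ∧ orderOf u = 2 ∧ u ≠ z}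
  let J0 : J := ⟨r, hr, hro, fun e => hzy (by rw [← e]; exact hc)⟩
  -- `z` pairs them
  let τ : J → J := fun u => ⟨u.1 * z, R.mul_mem u.2.1 hzmem, by
    refine orderOf_eq_prime ?_ ?_
    · rw [((hzR u.1 u.2.1).symm).mul_pow, show u.1 ^ 2 = 1 from orderOf_dvd_iff_pow_eq_one.mp u.2.2.1.dvd,
        show z ^ 2 = 1 from orderOf_dvd_iff_pow_eq_one.mp l.ha.1.dvd, one_mul]
    · intro e
      apply u.2.2.2
      rw [eq_inv_of_mul_eq_one_left e]
      exact inv_eq_of_mul_eq_one_right (by rw [← sq, ← l.ha.1, pow_orderOf_eq_one]),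
    fun e => by
      have h : u.1 = 1 := mul_eq_right.mp e
      have := u.2.2.1
      rw [h, orderOf_one] at this
      norm_num at this⟩
  have hτi : Function.Injective τ := fun u v e =>
    Subtype.ext (mul_right_cancel (congrArg Subtype.val e))
  let τ' : Equiv.Perm J := Equiv.ofBijective τ ⟨hτi, Finite.surjective_of_injective hτi⟩
  have hτ2 : τ' ^ 2 = 1 := by
    ext u
    show u.1 * z * z = u.1
    rw [mul_assoc, show z * z = 1 from (sq z).symm.trans (l.ha.1 ▸ pow_orderOf_eq_one z), mul_one]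
  have heven := Classification.card_modEq_fixed hτ2
  have hempty : IsEmpty {u : J // τ' u = u} := ⟨fun u => hz1 (mul_eq_left.mp
    (congrArg (fun v : J => v.1) u.2))⟩
  rw [Nat.card_eq_zero.mpr (Or.inl hempty)] at heven
  have hwz : w⁻¹ * z * w = z := by
    rw [mul_assoc, ← mem_centralizer_singleton_iff.mp hw, inv_mul_cancel_left]
  let κ : J → J := fun u => ⟨w * u.1 * w⁻¹, hnorm u.1 u.2.1,
    by rw [← MulAut.conj_apply, MulEquiv.orderOf_eq, u.2.2.1],
    fun e => u.2.2.2 (by
      have h1 : u.1 = w⁻¹ * z * w := (show u.1 = w⁻¹ * (w * u.1 * w⁻¹) * w by group).trans (congrArg (fun t => w⁻¹ * t * w) e)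
      exact h1.trans hwz)⟩
  have hκi : Function.Injective κ := fun u v e => Subtype.ext
    (mul_left_cancel (mul_right_cancel
      (show w * u.1 * w⁻¹ = w * v.1 * w⁻¹ from congrArg Subtype.val e)))
  let κ' : Equiv.Perm J := Equiv.ofBijective κ ⟨hκi, Finite.surjective_of_injective hκi⟩
  have hκ3 : κ' ^ 3 = 1 := by
    have h3 : w ^ 3 = 1 := hwo ▸ pow_orderOf_eq_one w
    ext u
    show w * (w * (w * u.1 * w⁻¹) * w⁻¹) * w⁻¹ = u.1
    calc w * (w * (w * u.1 * w⁻¹) * w⁻¹) * w⁻¹ = w ^ 3 * u.1 * (w ^ 3)⁻¹ := by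
          simp [pow_succ, mul_assoc]
      _ = u.1 := by rw [h3]; group
  have hthree := Classification.card_modEq_fixed hκ3
  have hempty' : IsEmpty {u : J // κ' u = u} := by
    refine ⟨fun u => ?_⟩
    have he : w * u.1.1 * w⁻¹ = u.1.1 := congrArg (fun v : J => v.1) u.2
    have hcw : Commute u.1.1 w := (mul_inv_eq_iff_eq_mul.mp he).symm
    obtain ⟨Pw, hPw⟩ := exists_sylow3_mem hwo
    have hw1 : w ≠ 1 := fun e => by rw [e, orderOf_one] at hwo; norm_num at hwo
    have hzz : z * z = 1 := by rw [← sq, ← l.ha.1, pow_orderOf_eq_one]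
    -- `{1, z, u, z u}` would lie in the centraliser of `w`, of order 18
    set H := zpowers z ⊔ zpowers u.1.1 with hH
    have hHw : H ≤ centralizer ({w} : Set G) := sup_le
      (zpowers_le.mpr (mem_centralizer_singleton_iff.mpr (mem_centralizer_singleton_iff.mp hw).symm))
      (zpowers_le.mpr (mem_centralizer_singleton_iff.mpr hcw.eq))
    have hHR : H ≤ R := sup_le (zpowers_le.mpr hzmem) (zpowers_le.mpr u.1.2.1)
    have h2 := Nat.dvd_gcd (hR8 ▸ card_dvd_of_le hHR : Nat.card H ∣ 2 ^ 3)
      ((transitive_three hG Pw hPw hw1).1 ▸ card_dvd_of_le hHw : Nat.card H ∣ 18)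
    rw [show Nat.gcd (2 ^ 3) 18 = 2 by decide] at h2
    have hz' : zpowers z = H := eq_of_le_of_card_ge le_sup_left
      (by rw [Nat.card_zpowers, l.ha.1]; exact Nat.le_of_dvd (by norm_num) h2)
    have huz : u.1.1 ∈ zpowers z := hz' ▸ mem_sup_right (mem_zpowers _)
    obtain ⟨k, hk⟩ := ((isOfFinOrder_of_finite z).mem_powers_iff_mem_zpowers).mpr huz
    simp only at hk
    rw [← pow_mod_orderOf, l.ha.1] at hk
    rcases Nat.mod_two_eq_zero_or_one k with h | h <;> rw [h] at hk
    · have := u.1.2.2.1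
      rw [← hk, pow_zero, orderOf_one] at this
      norm_num at this
    · exact u.1.2.2.2 (by rw [← hk, pow_one])
  rw [Nat.card_eq_zero.mpr (Or.inl hempty')] at hthree
  have h6 : 6 ∣ Nat.card J := Nat.Coprime.mul_dvd_of_dvd_of_dvd (by norm_num : Nat.Coprime 2 3)
    (Nat.modEq_zero_iff_dvd.mp heven) (Nat.modEq_zero_iff_dvd.mp hthree)
  have : Nonempty J := ⟨J0⟩
  have hJ : 6 ≤ Nat.card J := Nat.le_of_dvd Nat.card_pos h6
  -- hence every element of `R` is an involution
  have hall : ∀ g ∈ R, g ^ 2 = 1 := by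
    intro g hg
    by_contra hg2
    let F : Option (Option (Option J)) → R := fun x => match x with
      | none => 1
      | some none => ⟨z, hzmem⟩
      | some (some none) => ⟨g, hg⟩
      | some (some (some u)) => ⟨u.1, u.2.1⟩
    have hsq : ∀ u : J, u.1 ^ 2 = 1 := fun u => orderOf_dvd_iff_pow_eq_one.mp u.2.2.1.dvd
    have hz2 : z ^ 2 = 1 := l.ha.1 ▸ pow_orderOf_eq_one z
    have hne1 : ∀ u : J, u.1 ≠ 1 := fun u e => by
      have := u.2.2.1; rw [e, orderOf_one] at this; norm_num at this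
    have hg1 : g ≠ 1 := fun e => hg2 (by rw [e, one_pow])
    have hgz : g ≠ z := fun e => hg2 (by rw [e, hz2])
    have hgu : ∀ u : J, g ≠ u.1 := fun u e => hg2 (by rw [e, hsq u])
    have hF : Function.Injective F := by
      intro x y e
      have e' : (F x : G) = F y := congrArg Subtype.val e
      rcases x with _ | _ | _ | u <;> rcases y with _ | _ | _ | v <;>
        simp only [F, OneMemClass.coe_one] at e' <;>
        first
        | rfl
        | exact congrArg _ (congrArg _ (congrArg _ (Subtype.ext e')))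
        | exact absurd e' hz1
        | exact absurd e'.symm hz1
        | exact absurd e' hg1
        | exact absurd e'.symm hg1
        | exact absurd e' hgz
        | exact absurd e'.symm hgz
        | exact absurd e' (hne1 u)
        | exact absurd e'.symm (hne1 v)
        | exact absurd e' (hgu v)
        | exact absurd e'.symm (hgu u)
        | exact absurd e' u.2.2.2
        | exact absurd e'.symm v.2.2.2
    have := Nat.card_le_card_of_injective F hF
    rw [Finite.card_option, Finite.card_option, Finite.card_option, hR8,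
      show (2 : ℕ) ^ 3 = 8 by norm_num] at this
    omega
  have hinv : IsInv r a := by
    refine inverts_of_central hG hRN hR8 le_rfl hr hro fun g hg => ?_
    have e1 := hall g hg
    have e2 := hall r hr
    have e3 := hall (r * g) (R.mul_mem hr hg)
    rw [sq] at e1 e2 e3
    calc r * g = (r * g)⁻¹ := (inv_eq_of_mul_eq_one_right e3).symm
      _ = g * r := by
          rw [mul_inv_rev, inv_eq_of_mul_eq_one_right e1, inv_eq_of_mul_eq_one_right e2]
  exact J0.2.2.2 (l.ha.eq_of_commute hG hinv (hzR r hr)).symm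

/-- The stabiliser of an edge is transitive on the nontrivial elements of `a`. -/
theorem Line.stab_transitive (hG : Cfsg.IsM11 G) {z : G} {a b c : Sylow 3 G}
    (l : Line z a b c) {y y' : G} (hy : y ∈ (a : Subgroup G)) (hy1 : y ≠ 1)
    (hy' : y' ∈ (a : Subgroup G)) (hy1' : y' ≠ 1) :
    ∃ r ∈ stab2 a b, r * y * r⁻¹ = y' := by
  classical
  let f : stab2 a b → {s : ↥(a : Subgroup G) // s ≠ 1} := fun r =>
    ⟨⟨(r : G) * y * (r : G)⁻¹,
      (mem_normalizer_iff.mp ((smul_eq_iff (r : G) a).mp r.2.1) y).mp hy⟩,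
      fun e => hy1 (conj_eq_one_iff.mp (congrArg Subtype.val e))⟩
  have hinj : Function.Injective f := by
    intro r r' e
    have e' : (r : G) * y * (r : G)⁻¹ = (r' : G) * y * (r' : G)⁻¹ :=
      congrArg (fun v : {s : ↥(a : Subgroup G) // s ≠ 1} => (v.1 : G)) e
    have hc : Commute ((r' : G)⁻¹ * r) y := by
      have h1 : ((r' : G)⁻¹ * r) * y * ((r' : G)⁻¹ * r)⁻¹ = y := by
        calc ((r' : G)⁻¹ * r) * y * ((r' : G)⁻¹ * r)⁻¹
            = (r' : G)⁻¹ * ((r : G) * y * (r : G)⁻¹) * r' := by group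
          _ = y := by rw [e']; group
      exact mul_inv_eq_iff_eq_mul.mp h1
    have h1 := l.eq_one_of_commute hG
      ((stab2 a b).mul_mem ((stab2 a b).inv_mem r'.2) r.2) hy hy1 hc
    exact Subtype.ext (inv_mul_eq_one.mp h1).symm
  have := Fintype.ofFinite ↥(a : Subgroup G)
  have hsurj : Function.Surjective f := by
    refine (hinj.bijective_of_nat_card_le ?_).2
    rw [(l.swap hG).2, Nat.card_eq_fintype_card, Fintype.card_subtype_compl,
      Fintype.card_subtype_eq, ← Nat.card_eq_fintype_card, card_sylow3 hG a]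
  obtain ⟨r, hr⟩ := hsurj ⟨⟨y', hy'⟩, fun e => hy1' (congrArg Subtype.val e)⟩
  exact ⟨r, r.2, congrArg (fun v : {s : ↥(a : Subgroup G) // s ≠ 1} => (v.1 : G)) hr⟩

end Cfsg.Agent.Steiner.M11
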