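import Cfsg.Agent.Lib.Steiner.M11.Chars

/-!
# A simple group of order 7920: elements of order 5
-/

set_option autoImplicit false

namespace Cfsg.Agent.Steiner.M11

open Subgroup Cfsg.Agent.SmallGroups
open Cfsg.Agent.SmallGroups.SelfCent (Setup exists_setup_of_prime)
open Cfsg.Agent.SmallGroups.SelfCent.Setup (deg deg_spec triv deg_triv)

variable {G : Type*} [Group G] [Fintype G]

theorem exists_witness_five (hG : Cfsg.IsM11 G) : ∃ (χ : Cfsg.IrrCharacter G) (k : ℤ),
    5 ∣ deg χ ∧ ¬ (10 : ℤ) ∣ (deg χ : ℤ) + k ∧ ∀ u : G, orderOf u = 2 → (χ : G → ℂ) u = (k : ℂ) := by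
  have : Fact (Nat.Prime 11) := ⟨by norm_num⟩
  rcases caseA_or_caseC hG with ⟨φ, β, β', d, -, -, -, -, -, h⟩ | ⟨γ, d, h, -⟩
  · exact ⟨φ, 1, by rw [d], by rw [d]; norm_num, h⟩
  · exact ⟨γ, -3, by rw [d]; norm_num, by rw [d]; norm_num, h⟩

theorem not_commute_five_two (hG : Cfsg.IsM11 G) {x u : G} (hx : orderOf x = 5)
    (hu : orderOf u = 2) : ¬ Commute x u := by
  intro hxu
  obtain ⟨χ, k, h5, h10, hk⟩ := exists_witness_five hG
  have : Fact (Nat.Prime 5) := ⟨by norm_num⟩
  have hu1 : u ≠ 1 := fun h => by rw [h, orderOf_one] at hu; norm_num at hu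
  have hord : orderOf (x * u) = 10 := by
    rw [hxu.orderOf_mul_eq_mul_orderOf_of_coprime (by rw [hx, hu]; norm_num), hx, hu]
  have hg5 : (x * u) ^ 5 = u := by
    have e1 : x ^ 5 = 1 := hx ▸ pow_orderOf_eq_one x
    have e2 : u ^ 2 = 1 := hu ▸ pow_orderOf_eq_one u
    rw [hxu.mul_pow, e1, one_mul, pow_succ, show u ^ 4 = (u ^ 2) ^ 2 by rw [← pow_mul], e2,
      one_pow, one_mul]
  have hvan : ∀ h ∈ zpowers (x * u), h ≠ 1 → h ≠ u → (χ : G → ℂ) h = 0 := by
    intro h hh h1 hu'
    obtain ⟨n, rfl⟩ := ((isOfFinOrder_of_finite (x * u)).mem_powers_iff_mem_zpowers).mpr hh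
    simp only at h1 hu' ⊢
    obtain ⟨r, hr⟩ := h5
    refine CharInd.char_eq_zero_of_defect_zero χ.2 5 1 r (r := 1584)
      (by rw [card_eq hG]; norm_num) (by norm_num)
      (by rw [(deg_spec χ).2.2, hr]; norm_num) _ ?_
    by_contra hnd
    have hd : orderOf ((x * u) ^ n) ∣ 10 := hord ▸ orderOf_pow_dvd n
    have h2 : orderOf ((x * u) ^ n) ∣ 2 :=
      (((Nat.Prime.coprime_iff_not_dvd (by norm_num)).mpr hnd).symm).dvd_of_dvd_mul_left
        (by norm_num; exact hd)
    have h20 : (x * u) ^ (2 * n) = 1 := by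
      rw [mul_comm, pow_mul]; exact orderOf_dvd_iff_pow_eq_one.mp h2
    have h5n : 5 ∣ n := by
      have := orderOf_dvd_of_pow_eq_one h20
      rw [hord] at this
      omega
    obtain ⟨m, rfl⟩ := h5n
    rw [pow_mul, hg5] at h1 hu'
    rcases Nat.even_or_odd m with ⟨j, rfl⟩ | ⟨j, rfl⟩
    · apply h1
      rw [← two_mul, pow_mul, show u ^ 2 = 1 from hu ▸ pow_orderOf_eq_one u, one_pow]
    · apply hu'
      rw [pow_succ, pow_mul, show u ^ 2 = 1 from hu ▸ pow_orderOf_eq_one u, one_pow, one_mul]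
  have hmem : u ∈ zpowers (x * u) := by
    have := pow_mem (mem_zpowers (x * u)) 5
    rwa [hg5] at this
  have h := card_dvd_of_vanish χ (zpowers (x * u)) hmem hu1 hvan (hk u hu)
  rw [Nat.card_zpowers, hord] at h
  exact h10 (by exact_mod_cast h)

private theorem dvd_list1584 : ∀ d ∈ (1584 : ℕ).divisors, d % 5 = 1 →
    d ∈ [1, 6, 11, 16, 36, 66, 176, 396] := by
  decide +kernel

theorem five (hG : Cfsg.IsM11 G) [Fact (Nat.Prime 5)] (P : Sylow 5 G) :
    Nat.card ↥(P : Subgroup G) = 5 ∧ Nat.card (Sylow 5 G) = 396 ∧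
      Nat.card ↥(normalizer ((P : Subgroup G) : Set G)) = 20 ∧
      centralizer ((P : Subgroup G) : Set G) = (P : Subgroup G) := by
  have := hG.1
  have hnc := not_comm hG
  have hG5 : Nat.card G = 5 ^ 1 * 1584 := by rw [card_eq hG]; norm_num
  have hP : Nat.card ↥(P : Subgroup G) = 5 := by
    simpa using card_sylow_eq hG5 (by norm_num) P
  obtain ⟨hd, hm⟩ := card_sylow_mem hG5 (by norm_num)
  have hlist := dvd_list1584 _ (Nat.mem_divisors.mpr ⟨hd, by norm_num⟩) hm
  have hN := card_normalizer_mul P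
  rw [card_eq hG] at hN
  have hmul := card_centralizer_mul_relIndex' (P : Subgroup G)
  have hrel := (Nat.mem_divisors.mpr
    ⟨relIndex_centralizer_dvd_of_prime (P : Subgroup G) hP, by norm_num⟩ : _ ∈ (5 - 1 : ℕ).divisors)
  rw [show (5 - 1 : ℕ).divisors = {1, 2, 4} by decide] at hrel
  simp only [Finset.mem_insert, Finset.mem_singleton] at hrel
  have hBurn : (centralizer ((P : Subgroup G) : Set G)).relIndex
      (normalizer ((P : Subgroup G) : Set G)) ≠ 1 := fun h =>
    not_normalizer_le_centralizer hnc (by rw [card_eq hG]; norm_num) P (relIndex_eq_one.mp h)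
  set c := Nat.card ↥(centralizer ((P : Subgroup G) : Set G)) with hc
  have hodd : ¬ 2 ∣ c := by
    intro h
    obtain ⟨⟨u, hu⟩, huo⟩ := exists_prime_orderOf_dvd_card'
      (G := ↥(centralizer ((P : Subgroup G) : Set G))) (p := 2) (hp := ⟨Nat.prime_two⟩) h
    rw [orderOf_mk] at huo
    obtain ⟨⟨x, hx⟩, hxo⟩ := exists_prime_orderOf_dvd_card' (G := ↥(P : Subgroup G)) 5
      (by rw [hP])
    rw [orderOf_mk] at hxo
    exact not_commute_five_two hG hxo huo (mem_centralizer_iff.mp hu x hx)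
  have hCle : (P : Subgroup G) ≤ centralizer ((P : Subgroup G) : Set G) := by
    have : IsCyclic ↥(P : Subgroup G) := isCyclic_of_prime_card hP
    exact le_centralizer _
  have hc5 : 5 ∣ c := hP ▸ card_dvd_of_le hCle
  simp only [List.mem_cons, List.not_mem_nil, or_false] at hlist
  rcases hlist with h | h | h | h | h | h | h | h <;> rw [h] at hN
  · exact absurd h (card_sylow_ne_one hnc (by rw [card_eq hG]; norm_num))
  all_goals rcases hrel with r | r | r <;> rw [r] at hmul <;> try omega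
  · exfalso
    have hdvd := card_centralizer_dvd hnc P hP (by norm_num) (n := 7) (by rw [h])
    rw [show Nat.card (alternatingGroup (Fin 7)) = 2520 by
      rw [nat_card_alternatingGroup, Nat.card_fin]; norm_num [Nat.factorial], ← hc,
      show c = 55 by omega] at hdvd
    norm_num at hdvd
  · refine ⟨hP, h, by omega, (eq_of_le_of_card_ge hCle ?_).symm⟩
    rw [hP, ← hc]; omega

/-- Elements of order 5 generate their centralisers. -/
theorem card_centralizer_five (hG : Cfsg.IsM11 G) {x : G} (hx : orderOf x = 5) :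
    Nat.card (centralizer ({x} : Set G)) = 5 := by
  have : Fact (Nat.Prime 5) := ⟨by norm_num⟩
  obtain ⟨P, hP⟩ := exists_mem_sylow hx
  obtain ⟨hP5, -, -, hC⟩ := five hG P
  have hzp := zpowers_eq_of_card_prime hP5 hP (fun h => by rw [h, orderOf_one] at hx; norm_num at hx)
  rw [← centralizer_closure, ← zpowers_eq_closure, hzp, hC, hP5]

/-- No element of prime order other than 5 commutes with an element of order 5. -/
theorem pow_five_of_commute (hG : Cfsg.IsM11 G) {x y : G} (hx : orderOf x = 5)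
    (hxy : Commute x y) : y ^ 5 = 1 := by
  rw [← orderOf_dvd_iff_pow_eq_one, ← card_centralizer_five hG hx]
  exact Subgroup.orderOf_dvd_natCard _ (mem_centralizer_singleton_iff.mpr hxy.eq.symm)

/-- The degree pattern is `10, 10, 10, 45; 16, 16`. -/
theorem caseC (hG : Cfsg.IsM11 G) : CaseC G := by
  have : Fact (Nat.Prime 11) := ⟨by norm_num⟩
  have : Fact (Nat.Prime 5) := ⟨by norm_num⟩
  have := hG.1
  refine (caseA_or_caseC hG).resolve_left ?_
  rintro ⟨φ, β, β', -, d, d', hne, n, n', -⟩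
  classical
  obtain ⟨P⟩ := (inferInstance : Nonempty (Sylow 5 G))
  obtain ⟨hP5, -, hN, hC⟩ := five hG P
  obtain ⟨s, -, -, hcard⟩ := exists_setup_of_prime (P : Subgroup G) hP5 hC
  have htop : s.auto = ⊤ := by
    apply eq_top_of_card_eq
    rw [Nat.card_eq_fintype_card (α := (ZMod 5)ˣ), ZMod.card_units]
    omega
  have hconst : ∀ (χ : Cfsg.IrrCharacter G), ∀ h ∈ zpowers s.z, h ≠ 1 →
      (χ : G → ℂ) h = (χ : G → ℂ) s.z := by
    intro χ h hh h1
    obtain ⟨m, rfl⟩ := ((isOfFinOrder_of_finite s.z).mem_powers_iff_mem_zpowers).mpr hh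
    simp only at h1 ⊢
    rw [← s.zp_natCast] at h1 ⊢
    have hm0 : (m : ZMod 5) ≠ 0 := fun e => h1 (by rw [e, s.zp_zero])
    have hc : IsConj (s.zp 1) (s.zp (m : ZMod 5)) :=
      (s.isConj_zp_iff one_ne_zero).mpr
        ⟨Units.mk0 _ hm0, htop ▸ mem_top _, by rw [one_mul, Units.val_mk0]⟩
    rw [s.zp_one] at hc
    obtain ⟨g, hg⟩ := isConj_iff.mp hc
    rw [← hg, CharCore.irr_isClassFunction χ s.z g]
  obtain ⟨v, hv, hvd⟩ := exists_int_value β s.orderOf_z (hconst β)
  obtain ⟨v', hv', hvd'⟩ := exists_int_value β' s.orderOf_z (hconst β')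
  rw [d] at hvd; rw [d'] at hvd'
  have h := sum_sq_le {triv, β, β'} (fun χ => if χ = triv then 1 else if χ = β then v else v')
    (w := s.z) (fun χ hχ => by
      simp only [Finset.mem_insert, Finset.mem_singleton] at hχ
      rcases hχ with rfl | rfl | rfl
      · simp [triv]
      · simp [n, hv]
      · simp [n', hne.symm, hv'])
  rw [Finset.sum_insert (by simp [n.symm, n'.symm]), Finset.sum_pair hne, if_pos rfl, if_neg n,
    if_pos rfl, if_neg n', if_neg hne.symm, card_centralizer_five hG s.orderOf_z] at h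
  push_cast at h hvd hvd'
  have h4 : 4 ≤ v ^ 2 := by
    rcases le_or_gt v (-2) with h' | h'
    · nlinarith
    · rcases le_or_gt 2 v with h'' | h''
      · nlinarith
      · interval_cases v <;> norm_num at hvd
  have h4' : 4 ≤ v' ^ 2 := by
    rcases le_or_gt v' (-2) with h' | h'
    · nlinarith
    · rcases le_or_gt 2 v' with h'' | h''
      · nlinarith
      · interval_cases v' <;> norm_num at hvd'
  nlinarith

end Cfsg.Agent.Steiner.M11
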