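import Mathlib

/-!
# There is no strongly regular graph with parameters `(55, 18, 1, 8)`
-/

set_option autoImplicit false

namespace Cfsg.Agent.Steiner.M11

open Matrix

/-- An idempotent matrix has trace equal to its rank. -/
theorem trace_eq_natCast {K V : Type*} [Field K] [Fintype V] [DecidableEq V] (E : Matrix V V K)
    (hE : E * E = E) : ∃ n : ℕ, n ≤ Fintype.card V ∧ E.trace = (n : K) := by
  have hidem : IsIdempotentElem (Matrix.toLin' E) := by
    show Matrix.toLin' E * Matrix.toLin' E = Matrix.toLin' E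
    rw [Module.End.mul_eq_comp, ← Matrix.toLin'_mul, hE]
  refine ⟨Module.finrank K (LinearMap.range (Matrix.toLin' E)), ?_, ?_⟩
  · refine (Submodule.finrank_le _).trans ?_
    simp
  · rw [← LinearMap.IsProj.trace (LinearMap.IsIdempotentElem.isProj_range _ hidem),
      Matrix.trace_toLin'_eq]

theorem fact_prime67 : Fact (Nat.Prime 67) := ⟨by norm_num⟩

attribute [local instance] fact_prime67

theorem no_srg_55 {V : Type*} [Fintype V] [DecidableEq V] (hV : Fintype.card V = 55)
    (R : V → V → Prop) [DecidableRel R] (hirr : ∀ a, ¬ R a a) (hsym : ∀ a b, R a b → R b a)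
    (hdeg : ∀ a, (Finset.univ.filter (R a)).card = 18)
    (hlam : ∀ a b, R a b → (Finset.univ.filter fun x => R a x ∧ R b x).card = 1)
    (hmu : ∀ a b, a ≠ b → ¬ R a b → (Finset.univ.filter fun x => R a x ∧ R b x).card = 8) :
    False := by
  let A : Matrix V V (ZMod 67) := Matrix.of fun i j => if R i j then 1 else 0
  let J : Matrix V V (ZMod 67) := Matrix.of fun _ _ => 1
  have hAA : A * A = (10 : ZMod 67) • (1 : Matrix V V (ZMod 67)) + (-7 : ZMod 67) • A +
      (8 : ZMod 67) • J := by
    ext i j
    rw [Matrix.mul_apply]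
    simp only [A, J, Matrix.of_apply, ite_mul, one_mul, zero_mul, Matrix.add_apply,
      Matrix.smul_apply, smul_eq_mul]
    rw [← Finset.sum_filter, Finset.sum_boole, Finset.filter_filter]
    by_cases hij : i = j
    · subst hij
      rw [Finset.filter_congr (q := R i) (fun x _ => ⟨fun h => h.1, fun h => ⟨h, hsym _ _ h⟩⟩),
        hdeg, Matrix.one_apply_eq, if_neg (hirr i)]
      decide
    · rw [Finset.filter_congr (q := fun x => R i x ∧ R j x)
        (fun x _ => ⟨fun h => ⟨h.1, hsym _ _ h.2⟩, fun h => ⟨h.1, hsym _ _ h.2⟩⟩),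
        Matrix.one_apply_ne hij]
      by_cases hR : R i j
      · rw [hlam i j hR, if_pos hR]; decide
      · rw [hmu i j hij hR, if_neg hR]; decide
  have hJJ : J * J = (55 : ZMod 67) • J := by
    ext i j
    simp [J, Matrix.mul_apply, hV]
  have hAJ : A * J = (18 : ZMod 67) • J := by
    ext i j
    rw [Matrix.mul_apply]
    simp only [A, J, Matrix.of_apply, mul_one, Matrix.smul_apply, smul_eq_mul]
    rw [Finset.sum_boole, hdeg]
    decide
  have hJA : J * A = (18 : ZMod 67) • J := by
    ext i j
    rw [Matrix.mul_apply]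
    simp only [A, J, Matrix.of_apply, one_mul, Matrix.smul_apply, smul_eq_mul, mul_one]
    rw [Finset.sum_boole, Finset.filter_congr (q := R j)
      (fun x _ => ⟨hsym _ _, hsym _ _⟩), hdeg]
    decide
  -- the spectral idempotent of the eigenvalue 9
  set E : Matrix V V (ZMod 67) := (59 : ZMod 67) • (A - (51 : ZMod 67) • (1 : Matrix V V (ZMod 67)) +
    (14 : ZMod 67) • J) with hEdef
  have hE : E * E = E := by
    simp only [hEdef, mul_add, add_mul, mul_sub, sub_mul, smul_add, smul_sub, Matrix.mul_smul,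
      Matrix.smul_mul, smul_smul, Matrix.mul_one, Matrix.one_mul, hAA, hJJ, hAJ, hJA]
    match_scalars <;> decide
  obtain ⟨n, hn, htr⟩ := trace_eq_natCast E hE
  have hA0 : A.trace = 0 := by simp [A, Matrix.trace, hirr]
  have hJt : J.trace = 55 := by simp [J, Matrix.trace, hV]
  rw [hEdef] at htr
  simp only [Matrix.trace_smul, Matrix.trace_add, Matrix.trace_sub, Matrix.trace_one, hA0, hJt,
    hV, smul_eq_mul] at htr
  rw [hV] at hn
  have key : ∀ m : ℕ, m ≤ 55 →
      (59 : ZMod 67) * (0 - 51 * ((55 : ℕ) : ZMod 67) + 14 * 55) ≠ (m : ZMod 67) := by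
    decide +kernel
  exact key n hn htr

end Cfsg.Agent.Steiner.M11
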