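import Cfsg.Agent.Lib.Steiner.M11.Edge
import Cfsg.Agent.Lib.Steiner.M11.Spectral

/-!
# The graph on the 55 Sylow 3-subgroups of a simple group of order 7920
-/

set_option autoImplicit false

namespace Cfsg.Agent.Steiner.M11

open Subgroup Cfsg.Agent.SmallGroups
open scoped Pointwise

variable {G : Type*} [Group G] [Fintype G] [Fact (Nat.Prime 3)]

theorem Line.adj_iff (hG : Cfsg.IsM11 G) {z : G} {a b c : Sylow 3 G} (l : Line z a b c)
    (x : Sylow 3 G) : Adj a x ↔ ∃ s ∈ (a : Subgroup G), x = s • b ∨ x = s • c := by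
  constructor
  · rintro ⟨hax, w, hwa, hwx⟩
    obtain ⟨s, hs, rfl⟩ := l.ha.exists_conj hG hwa
    have h := hwx.conj s⁻¹
    rw [show s⁻¹ * (s * z * s⁻¹) * s⁻¹⁻¹ = z by group] at h
    refine ⟨s, hs, ?_⟩
    rcases l.eq_or hG h with h' | h' | h'
    · exact absurd ((inv_smul_eq_iff.mp h').trans (sylow_smul_eq hs)) hax.symm
    · exact Or.inl (inv_smul_eq_iff.mp h')
    · exact Or.inr (inv_smul_eq_iff.mp h')
  · rintro ⟨s, hs, h | h⟩ <;> subst h <;> refine ⟨fun e => ?_, s * z * s⁻¹, ?_, ?_⟩
    · exact l.hab (MulAction.injective s ((sylow_smul_eq hs).trans e))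
    · exact sylow_smul_eq hs ▸ l.ha.conj s
    · exact l.hb.conj s
    · exact l.hac (MulAction.injective s ((sylow_smul_eq hs).trans e))
    · exact sylow_smul_eq hs ▸ l.ha.conj s
    · exact l.hc.conj s

theorem Line.smul_inj (hG : Cfsg.IsM11 G) {z : G} {a b c : Sylow 3 G} (l : Line z a b c)
    {s t : G} (hs : s ∈ (a : Subgroup G)) (ht : t ∈ (a : Subgroup G)) (h : s • b = t • b) :
    s = t := by
  by_contra hne
  refine l.hab (eq_of_fixed hG (mul_mem (inv_mem ht) hs) (fun e => hne (inv_mul_eq_one.mp e).symm) ?_)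
  rw [mul_smul, inv_smul_eq_iff, h]

theorem Line.smul_ne (hG : Cfsg.IsM11 G) {z : G} {a b c : Sylow 3 G} (l : Line z a b c)
    {s t : G} (hs : s ∈ (a : Subgroup G)) (ht : t ∈ (a : Subgroup G)) : s • b ≠ t • c := by
  intro h
  set u := t⁻¹ * s with hu
  have humem : u ∈ (a : Subgroup G) := mul_mem (inv_mem ht) hs
  have hub : u • b = c := by rw [hu, mul_smul, inv_smul_eq_iff, h]
  have h1 := l.ha.conj u
  have h2 := l.hb.conj u
  rw [sylow_smul_eq humem] at h1
  rw [hub] at h2
  have he : z = u * z * u⁻¹ := l.ha.eq_of_adj hG l.hac h1 l.hc h2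
  have hc : Commute u z := mul_inv_eq_iff_eq_mul.mp he.symm
  have h3 := l.ha.2 u humem
  rw [← hc.eq, mul_inv_cancel_right] at h3
  have hu1 : u = 1 := by
    have h4 : u ^ 2 = 1 := by rw [sq]; nth_rewrite 1 [h3]; exact inv_mul_cancel u
    rw [← orderOf_eq_one_iff]
    exact Nat.eq_one_of_dvd_coprimes (by norm_num : Nat.Coprime 2 3) (orderOf_dvd_of_pow_eq_one h4)
      (orderOf_dvd_of_pow_eq_one (exponent_three hG a humem))
  rw [hu1, one_smul] at hub
  exact l.hbc hub

/-- `G` is transitive on ordered edges. -/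
theorem Line.exists_map (hG : Cfsg.IsM11 G) {z z' : G} {a b c a' b' c' : Sylow 3 G}
    (l : Line z a b c) (l' : Line z' a' b' c') :
    ∃ g : G, g • a = a' ∧ g • b = b' ∧ g • c = c' := by
  obtain ⟨g₁, hg₁⟩ := MulAction.exists_smul_eq G a a'
  have h := l.ha.conj g₁
  rw [hg₁] at h
  obtain ⟨s, hs, hsz⟩ := h.exists_conj hG l'.ha
  set g := s * g₁ with hg
  have hga : g • a = a' := by rw [hg, mul_smul, hg₁, sylow_smul_eq hs]
  have hgz : g * z * g⁻¹ = z' := by rw [hsz, hg]; group
  have lg := l.conj g
  rw [hga, hgz] at lg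
  rcases l'.eq_or hG lg.hb with hb | hb | hb
  · exact absurd hb.symm lg.hab
  · refine ⟨g, hga, hb, ?_⟩
    rcases l'.eq_or hG lg.hc with hc | hc | hc
    · exact absurd hc.symm lg.hac
    · exact absurd (hb.trans hc.symm) lg.hbc
    · exact hc
  · obtain ⟨⟨d, -, hda, hdb, hdc⟩, -⟩ := l'.swap hG
    refine ⟨d * g, by rw [mul_smul, hga, hda], by rw [mul_smul, hb, hdc], ?_⟩
    rcases l'.eq_or hG lg.hc with hc | hc | hc
    · exact absurd hc.symm lg.hac
    · rw [mul_smul, hc, hdb]
    · exact absurd (hb.trans hc.symm) lg.hbc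

variable [Fintype (Sylow 3 G)]

open scoped Classical in
/-- The neighbours of `a`. -/
noncomputable def nbrs (a : Sylow 3 G) : Finset (Sylow 3 G) := Finset.univ.filter (Adj a)

open scoped Classical in
/-- The common neighbours of `a` and `b`. -/
noncomputable def common (a b : Sylow 3 G) : Finset (Sylow 3 G) :=
  Finset.univ.filter fun x => Adj a x ∧ Adj b x

theorem mem_nbrs {a x : Sylow 3 G} : x ∈ nbrs a ↔ Adj a x := by simp [nbrs]

theorem mem_common {a b x : Sylow 3 G} : x ∈ common a b ↔ Adj a x ∧ Adj b x := by simp [common]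

theorem card_common_smul (g : G) (a b : Sylow 3 G) :
    (common (g • a) (g • b)).card = (common a b).card := by
  classical
  rw [← Finset.card_image_of_injective (common a b) (MulAction.injective g)]
  congr 1
  ext x
  simp only [Finset.mem_image, mem_common]
  constructor
  · intro h
    exact ⟨g⁻¹ • x, ⟨by simpa using h.1.smul g⁻¹, by simpa using h.2.smul g⁻¹⟩, by simp⟩
  · rintro ⟨y, ⟨h1, h2⟩, rfl⟩
    exact ⟨h1.smul g, h2.smul g⟩

theorem card_nbrs (hG : Cfsg.IsM11 G) (a : Sylow 3 G) : (nbrs a).card = 18 := by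
  classical
  obtain ⟨z, hz⟩ := exists_isInv hG a
  have h3 := card_isInv hG hz.1
  obtain ⟨b, hb, hab⟩ : ∃ b, IsInv z b ∧ a ≠ b := by
    by_contra h
    push_neg at h
    have : Subsingleton {x : Sylow 3 G // IsInv z x} :=
      ⟨fun x y => Subtype.ext ((h x.1 x.2).symm.trans (h y.1 y.2))⟩
    have := Finite.card_le_one_iff_subsingleton.mpr this
    omega
  obtain ⟨c, l⟩ := exists_line hG hz hb hab
  let f : ↥(a : Subgroup G) × Bool → {x : Sylow 3 G // x ∈ nbrs a} := fun p =>
    ⟨if p.2 then (p.1 : G) • b else (p.1 : G) • c, mem_nbrs.mpr ((l.adj_iff hG _).mpr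
      ⟨p.1, p.1.2, by cases p.2 <;> simp⟩)⟩
  have hbij : Function.Bijective f := by
    constructor
    · rintro ⟨s, i⟩ ⟨t, j⟩ e
      have e' := congrArg Subtype.val e
      cases i <;> cases j <;>
        simp only [f, if_true, Bool.false_eq_true, if_false] at e'
      · exact Prod.ext (Subtype.ext (l.symm.smul_inj hG s.2 t.2 e')) rfl
      · exact absurd e'.symm (l.smul_ne hG t.2 s.2)
      · exact absurd e' (l.smul_ne hG s.2 t.2)
      · exact Prod.ext (Subtype.ext (l.smul_inj hG s.2 t.2 e')) rfl
    · rintro ⟨x, hx⟩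
      obtain ⟨s, hs, h | h⟩ := (l.adj_iff hG x).mp (mem_nbrs.mp hx)
      · exact ⟨(⟨s, hs⟩, true), Subtype.ext (by simp [f, h])⟩
      · exact ⟨(⟨s, hs⟩, false), Subtype.ext (by simp [f, h])⟩
  rw [← Nat.card_eq_finsetCard, ← Nat.card_congr (Equiv.ofBijective f hbij), Nat.card_prod,
    card_sylow3 hG a, Nat.card_eq_fintype_card, Fintype.card_bool]

open scoped Classical in
/-- The subgroups neither equal nor adjacent to `a`. -/
noncomputable def far (a : Sylow 3 G) : Finset (Sylow 3 G) :=
  Finset.univ.filter fun x => a ≠ x ∧ ¬ Adj a x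

theorem mem_far {a x : Sylow 3 G} : x ∈ far a ↔ a ≠ x ∧ ¬ Adj a x := by simp [far]

theorem card_far (hG : Cfsg.IsM11 G) (a : Sylow 3 G) : (far a).card = 36 := by
  classical
  have h : far a = (insert a (nbrs a))ᶜ := by
    ext x
    simp [mem_far, mem_nbrs, eq_comm]
  rw [h, Finset.card_compl, Finset.card_insert_of_notMem (fun h => (mem_nbrs.mp h).1 rfl),
    card_nbrs hG, ← Nat.card_eq_fintype_card, card_sylow3_eq hG]

/-- The stabiliser of `a` is transitive on the subgroups far from `a`. -/
theorem far_transitive (hG : Cfsg.IsM11 G) {a d d' : Sylow 3 G} (hd : d ∈ far a)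
    (hd' : d' ∈ far a) : ∃ g : G, g • a = a ∧ g • d = d' := by
  classical
  have : Fact (Nat.Prime 2) := ⟨Nat.prime_two⟩
  set K := MulAction.stabilizer G a with hKdef
  have hK : Nat.card K = 144 := by
    rw [hKdef, ← card_normalizer3 hG a]
    exact Nat.card_congr (Equiv.subtypeEquivRight fun g => smul_eq_iff g a)
  set R := stab2 a d with hR
  obtain ⟨had, hnadj⟩ := mem_far.mp hd
  have hR144 : Nat.card R ∣ 144 := hK ▸ card_dvd_of_le inf_le_left
  have h3 : ¬ 3 ∣ Nat.card R := by
    intro h
    obtain ⟨⟨y, hy⟩, hyo⟩ := exists_prime_orderOf_dvd_card' (G := R) 3 h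
    rw [orderOf_mk] at hyo
    obtain ⟨P, hP⟩ := exists_sylow3_mem hyo
    have hy1 : y ≠ 1 := fun e => by rw [e, orderOf_one] at hyo; norm_num at hyo
    exact had ((eq_of_fixed hG hP hy1 hy.1).symm.trans (eq_of_fixed hG hP hy1 hy.2))
  have h16 : Nat.card R ∣ 2 ^ 4 := by
    have hc : Nat.Coprime (Nat.card R) 9 := by
      rw [show (9 : ℕ) = 3 ^ 2 by norm_num]
      exact Nat.Coprime.pow_right 2
        ((Nat.Prime.coprime_iff_not_dvd (by norm_num)).mpr h3).symm
    exact hc.dvd_of_dvd_mul_right (by rw [show (2 : ℕ) ^ 4 * 9 = 144 by norm_num]; exact hR144)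
  obtain ⟨j, -, hj⟩ := (Nat.dvd_prime_pow Nat.prime_two).mp h16
  have hj2 : j ≤ 2 := by
    by_contra hlt
    have hPG : IsPGroup 2 R := IsPGroup.of_card hj
    have : Nontrivial R := Finite.one_lt_card_iff_nontrivial.mp (by
      rw [hj]; exact Nat.one_lt_pow (by omega) one_lt_two)
    have hnt := hPG.center_nontrivial
    have h2 : 2 ∣ Nat.card (center R) := by
      obtain ⟨n, hn⟩ := IsPGroup.iff_card.mp (hPG.to_subgroup (center R))
      rw [hn]
      have : 1 < Nat.card (center R) := Finite.one_lt_card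
      rw [hn] at this
      exact dvd_pow_self 2 (fun e => by rw [e] at this; norm_num at this)
    obtain ⟨⟨⟨u, huR⟩, huc⟩, huo⟩ := exists_prime_orderOf_dvd_card' (G := center R) 2 h2
    rw [orderOf_mk, orderOf_mk] at huo
    have hc : ∀ g ∈ R, Commute u g := fun g hg =>
      (congrArg Subtype.val (mem_center_iff.mp huc ⟨g, hg⟩)).symm
    refine hnadj ⟨had, u, ?_, ?_⟩
    · exact inverts_of_central hG (fun g hg => (smul_eq_iff g a).mp (mem_stab2.mp hg).1) hj (by omega) huR huo hc
    · exact inverts_of_central hG (fun g hg => (smul_eq_iff g d).mp (mem_stab2.mp hg).2) hj (by omega) huR huo hc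
  have horb : ∀ x, x ∈ MulAction.orbit K d → x ∈ far a := by
    rintro x ⟨⟨g, hg⟩, rfl⟩
    show g • d ∈ far a
    rw [mem_far, ← (hg : g • a = a), adj_smul_iff]
    exact ⟨fun e => had (MulAction.injective g e), hnadj⟩
  have h1 := (MulAction.stabilizer K d).card_mul_index
  rw [MulAction.index_stabilizer, hK] at h1
  have h2 : Nat.card (MulAction.stabilizer K d) = Nat.card R := Nat.card_congr
    { toFun := fun g => ⟨g.1.1, g.1.2, g.2⟩
      invFun := fun g => ⟨⟨g.1, g.2.1⟩, g.2.2⟩
      left_inv := fun g => rfl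
      right_inv := fun g => rfl }
  rw [h2, hj] at h1
  have hge : 36 ≤ (MulAction.orbit K d).ncard := by
    have : 2 ^ j ≤ 2 ^ 2 := Nat.pow_le_pow_right (by norm_num) hj2
    nlinarith
  have heq : MulAction.orbit K d = (far a : Set (Sylow 3 G)) := by
    refine Set.eq_of_subset_of_ncard_le (fun x hx => horb x hx) ?_ (Set.toFinite _)
    rw [Set.ncard_coe_finset, card_far hG]
    exact hge
  obtain ⟨g, hg⟩ : d' ∈ MulAction.orbit K d := heq.symm ▸ hd'
  exact ⟨g.1, g.2, hg⟩

/-- Any two non-adjacent pairs have equally many common neighbours. -/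
theorem card_common_far (hG : Cfsg.IsM11 G) {a d x y : Sylow 3 G} (hd : d ∈ far a)
    (hy : y ∈ far x) : (common x y).card = (common a d).card := by
  obtain ⟨g, hg⟩ := MulAction.exists_smul_eq G x a
  have hgy : g • y ∈ far a := by
    obtain ⟨h1, h2⟩ := mem_far.mp hy
    rw [mem_far, ← hg, adj_smul_iff]
    exact ⟨fun e => h1 (MulAction.injective g e), h2⟩
  obtain ⟨k, hka, hkd⟩ := far_transitive hG hgy hd
  rw [← card_common_smul g x y, hg, ← card_common_smul k a (g • y), hka, hkd]

/-- The double count `18 * (17 - λ) = 36 * μ`. -/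
theorem Line.count (hG : Cfsg.IsM11 G) {z : G} {a b c d : Sylow 3 G} (l : Line z a b c)
    (hd : d ∈ far a) : 18 * (17 - (common a b).card) = 36 * (common a d).card := by
  classical
  have hx : ∀ x ∈ nbrs a, ((far a).filter fun w => Adj x w).card = 17 - (common a b).card := by
    intro x hx
    have hx' := mem_nbrs.mp hx
    obtain ⟨w, hwa, hwx⟩ := hx'.2
    obtain ⟨c', l'⟩ := exists_line hG hwa hwx hx'.1
    obtain ⟨g, hga, hgb, -⟩ := l.exists_map hG l'
    have hc : (common a x).card = (common a b).card := by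
      rw [← card_common_smul g a b, hga, hgb]
    have hsplit : nbrs x = insert a (common a x ∪ ((far a).filter fun w => Adj x w)) := by
      ext w
      simp only [mem_nbrs, Finset.mem_insert, Finset.mem_union, mem_common, Finset.mem_filter,
        mem_far]
      constructor
      · intro h
        by_cases hw : w = a
        · exact Or.inl hw
        · by_cases ha : Adj a w
          · exact Or.inr (Or.inl ⟨ha, h⟩)
          · exact Or.inr (Or.inr ⟨⟨Ne.symm hw, ha⟩, h⟩)
      · rintro (rfl | h | h)
        exacts [hx'.symm, h.2, h.2]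
    have hcard := congrArg Finset.card hsplit
    rw [card_nbrs hG, Finset.card_insert_of_notMem, Finset.card_union_of_disjoint, hc] at hcard
    · omega
    · rw [Finset.disjoint_left]
      intro w h1 h2
      exact (mem_far.mp (Finset.mem_filter.mp h2).1).2 (mem_common.mp h1).1
    · simp only [Finset.mem_union, mem_common, Finset.mem_filter, mem_far, not_or]
      exact ⟨fun h => h.1.1 rfl, fun h => h.1.1 rfl⟩
  have hy : ∀ y ∈ far a, ((nbrs a).filter fun x => Adj x y).card = (common a d).card := by
    intro y hy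
    rw [← card_common_far hG hd hy]
    congr 1
    ext x
    simp only [Finset.mem_filter, mem_nbrs, mem_common]
    exact ⟨fun h => ⟨h.1, h.2.symm⟩, fun h => ⟨h.1, h.2.symm⟩⟩
  calc 18 * (17 - (common a b).card)
      = ∑ x ∈ nbrs a, ((far a).filter fun w => Adj x w).card := by
        rw [Finset.sum_congr rfl hx, Finset.sum_const, card_nbrs hG, smul_eq_mul]
    _ = ∑ y ∈ far a, ((nbrs a).filter fun x => Adj x y).card := by
        simp only [Finset.card_filter]; exact Finset.sum_comm
    _ = 36 * (common a d).card := by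
        rw [Finset.sum_congr rfl hy, Finset.sum_const, card_far hG, smul_eq_mul]

/-- One of the two translates of a line neighbour extends the edge to a clique, the other does
not: `b` is adjacent to `s • b` and not to `s • c`. -/
theorem Line.clique (hG : Cfsg.IsM11 G) {z : G} {a b c : Sylow 3 G} (l : Line z a b c) :
    (∀ s ∈ (a : Subgroup G), s ≠ 1 → Adj b (s • b)) ∧
      ∀ s ∈ (a : Subgroup G), s ≠ 1 → ¬ Adj b (s • c) := by
  classical
  obtain ⟨hall1, hall2⟩ : (∀ s ∈ (a : Subgroup G), s ≠ 1 → ∀ t ∈ (a : Subgroup G), t ≠ 1 →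
      Adj b (s • b) → Adj b (t • b)) ∧ (∀ s ∈ (a : Subgroup G), s ≠ 1 →
      ∀ t ∈ (a : Subgroup G), t ≠ 1 → Adj b (s • c) → Adj b (t • c)) := by
    constructor <;> intro s hs hs1 t ht ht1 h <;>
      obtain ⟨r, hr, hrst⟩ := l.stab_transitive hG hs hs1 ht ht1
    · have h1 := h.smul r
      have hrb : r • b = b := hr.2
      rw [hrb, ← mul_smul, show r * s = t * r by rw [← hrst]; group, mul_smul, hrb] at h1
      exact h1
    · have h1 := h.smul r
      have hrb : r • b = b := hr.2
      have hrc : r • c = c := (l.edge_stab hG hr.1 hr.2).2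
      rw [hrb, ← mul_smul, show r * s = t * r by rw [← hrst]; group, mul_smul, hrc] at h1
      exact h1
  have := Fintype.ofFinite ↥(a : Subgroup G)
  set Ab := (Finset.univ.erase (1 : ↥(a : Subgroup G))).image fun s : ↥(a : Subgroup G) => (s : G) • b with hAb
  set Ac := (Finset.univ.erase (1 : ↥(a : Subgroup G))).image fun s : ↥(a : Subgroup G) => (s : G) • c with hAc
  have hAcard : Ab.card = 8 ∧ Ac.card = 8 := by
    have h9 : (Finset.univ.erase (1 : ↥(a : Subgroup G))).card = 8 := by
      rw [Finset.card_erase_of_mem (Finset.mem_univ _), Finset.card_univ,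
        ← Nat.card_eq_fintype_card, card_sylow3 hG a]
    constructor
    · rw [hAb, Finset.card_image_of_injective _ fun s t e =>
        Subtype.ext (l.smul_inj hG s.2 t.2 e), h9]
    · rw [hAc, Finset.card_image_of_injective _ fun s t e =>
        Subtype.ext (l.symm.smul_inj hG s.2 t.2 e), h9]
  have hdisj : Disjoint Ab Ac := by
    rw [Finset.disjoint_left]
    intro x hx hx'
    obtain ⟨s, -, rfl⟩ := Finset.mem_image.mp hx
    obtain ⟨t, -, ht⟩ := Finset.mem_image.mp hx'
    exact l.smul_ne hG s.2 t.2 ht.symm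
  have hcmem : c ∈ common a b :=
    mem_common.mpr ⟨⟨l.hac, z, l.ha, l.hc⟩, ⟨l.hbc, z, l.hb, l.hc⟩⟩
  have hcA : c ∉ Ab ∧ c ∉ Ac := by
    constructor <;> intro h <;> obtain ⟨s, hs, he⟩ := Finset.mem_image.mp h
    · exact l.smul_ne hG s.2 (one_mem _) (he.trans (one_smul G c).symm)
    · exact Finset.ne_of_mem_erase hs (Subtype.ext (l.symm.smul_inj hG s.2 (one_mem _)
        (he.trans (one_smul G c).symm)))
  have hsub : common a b ⊆ insert c (Ab ∪ Ac) := by
    intro x hx
    obtain ⟨hax, hbx⟩ := mem_common.mp hx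
    obtain ⟨s, hs, h | h⟩ := (l.adj_iff hG x).mp hax
    · by_cases h1 : s = 1
      · rw [h1, one_smul] at h; exact absurd h.symm hbx.1
      · exact Finset.mem_insert_of_mem (Finset.mem_union_left _ (Finset.mem_image.mpr
          ⟨⟨s, hs⟩, Finset.mem_erase.mpr ⟨fun e => h1 (congrArg Subtype.val e),
            Finset.mem_univ _⟩, h.symm⟩))
    · by_cases h1 : s = 1
      · rw [h1, one_smul] at h; exact Finset.mem_insert.mpr (Or.inl h)
      · exact Finset.mem_insert_of_mem (Finset.mem_union_right _ (Finset.mem_image.mpr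
          ⟨⟨s, hs⟩, Finset.mem_erase.mpr ⟨fun e => h1 (congrArg Subtype.val e),
            Finset.mem_univ _⟩, h.symm⟩))
  have hmemb : ∀ s : ↥(a : Subgroup G), s ∈ Finset.univ.erase 1 → (s : G) ≠ 1 := fun s hs e =>
    Finset.ne_of_mem_erase hs (Subtype.ext e)
  -- a nonidentity element of `a`
  obtain ⟨⟨y, hy⟩, hyo⟩ := exists_prime_orderOf_dvd_card' (G := ↥(a : Subgroup G)) 3
    (by rw [card_sylow3 hG a]; norm_num)
  rw [orderOf_mk] at hyo
  have hy1 : y ≠ 1 := fun e => by rw [e, orderOf_one] at hyo; norm_num at hyo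
  obtain ⟨d, hd⟩ : (far a).Nonempty := by rw [← Finset.card_pos, card_far hG]; norm_num
  have hcount := l.count hG hd
  by_cases hb : Adj b (y • b) <;> by_cases hc : Adj b (y • c)
  · -- both: the graph would have a component of size 19
    exfalso
    have hall : common a b = insert c (Ab ∪ Ac) := by
      refine Finset.Subset.antisymm hsub fun x hx => ?_
      rcases Finset.mem_insert.mp hx with rfl | hx
      · exact hcmem
      rcases Finset.mem_union.mp hx with h | h <;> obtain ⟨s, hs, rfl⟩ := Finset.mem_image.mp h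
      · exact mem_common.mpr ⟨(l.adj_iff hG _).mpr ⟨s, s.2, Or.inl rfl⟩,
          hall1 y hy hy1 s s.2 (hmemb s hs) hb⟩
      · exact mem_common.mpr ⟨(l.adj_iff hG _).mpr ⟨s, s.2, Or.inr rfl⟩,
          hall2 y hy hy1 s s.2 (hmemb s hs) hc⟩
    rw [hall, Finset.card_insert_of_notMem (by simp [hcA.1, hcA.2]),
      Finset.card_union_of_disjoint hdisj, hAcard.1, hAcard.2] at hcount
    have hmu : ∀ x w, w ∈ far x → common x w = ∅ := fun x w hw => by
      rw [← Finset.card_eq_zero, card_common_far hG hd hw]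
      omega
    set B : Set (Sylow 3 G) := ↑(insert a (nbrs a)) with hB
    have hclosed : ∀ x, Adj a x → insert x (nbrs x) = insert a (nbrs a) := by
      intro x hx
      refine Finset.eq_of_subset_of_card_le (fun w hw => ?_) ?_
      · by_contra hw'
        simp only [Finset.mem_insert, mem_nbrs, not_or] at hw hw'
        rcases hw with rfl | hw
        · exact hw'.2 hx
        · have := hmu a w (mem_far.mpr ⟨Ne.symm hw'.1, hw'.2⟩)
          exact Finset.notMem_empty x (this ▸ mem_common.mpr ⟨hx, hw.symm⟩)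
      · rw [Finset.card_insert_of_notMem (fun h => (mem_nbrs.mp h).1 rfl),
          Finset.card_insert_of_notMem (fun h => (mem_nbrs.mp h).1 rfl), card_nbrs hG, card_nbrs hG]
    have himg : ∀ (g : G) (x : Sylow 3 G),
        g • (↑(insert x (nbrs x)) : Set (Sylow 3 G)) = ↑(insert (g • x) (nbrs (g • x))) := by
      intro g x
      ext w
      simp only [Set.mem_smul_set_iff_inv_smul_mem, Finset.coe_insert, Set.mem_insert_iff,
        Finset.mem_coe, mem_nbrs, inv_smul_eq_iff]
      rw [← adj_smul_iff g, smul_inv_smul]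
    set M := MulAction.stabilizer G B with hM
    have horb : MulAction.orbit M a = B := by
      ext x
      constructor
      · rintro ⟨⟨g, hg⟩, rfl⟩
        show g • a ∈ B
        have h : g • a ∈ g • B := Set.smul_mem_smul_set (by simp [hB])
        rwa [(hg : g • B = B)] at h
      · intro hx
        rw [hB, Finset.mem_coe, Finset.mem_insert, mem_nbrs] at hx
        obtain ⟨g, hg⟩ := MulAction.exists_smul_eq G a x
        refine ⟨⟨g, ?_⟩, hg⟩
        show g • B = B
        rw [hB, himg, hg]
        rcases hx with rfl | hx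
        · rfl
        · rw [hclosed x hx]
    have hstab : Nat.card (MulAction.stabilizer M a) = 144 := by
      rw [← card_normalizer3 hG a]
      exact Nat.card_congr
        { toFun := fun g => ⟨g.1.1, (smul_eq_iff _ a).mp g.2⟩
          invFun := fun g => ⟨⟨g.1, by
            show g.1 • B = B
            rw [hB, himg, (smul_eq_iff _ a).mpr g.2]⟩, (smul_eq_iff _ a).mpr g.2⟩
          left_inv := fun g => rfl
          right_inv := fun g => rfl }
    have h1 := (MulAction.stabilizer M a).card_mul_index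
    rw [MulAction.index_stabilizer, horb, hstab, hB, Set.ncard_coe_finset,
      Finset.card_insert_of_notMem (fun h => (mem_nbrs.mp h).1 rfl), card_nbrs hG] at h1
    have h2 := card_subgroup_dvd_card M
    rw [← h1, card_eq hG] at h2
    norm_num at h2
  · exact ⟨fun s hs hs1 => hall1 y hy hy1 s hs hs1 hb,
      fun s hs hs1 h => hc (hall2 s hs hs1 y hy hy1 h)⟩
  · -- complete bipartite: too many common neighbours of a far pair
    exfalso
    have hall : common a b = insert c Ac := by
      refine Finset.Subset.antisymm (fun x hx => ?_) fun x hx => ?_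
      · rcases Finset.mem_insert.mp (hsub hx) with rfl | hx'
        · exact Finset.mem_insert_self _ _
        rcases Finset.mem_union.mp hx' with h | h
        · obtain ⟨s, hs, rfl⟩ := Finset.mem_image.mp h
          exact absurd (hall1 s s.2 (hmemb s hs) y hy hy1 (mem_common.mp hx).2) hb
        · exact Finset.mem_insert_of_mem h
      · rcases Finset.mem_insert.mp hx with rfl | h
        · exact hcmem
        obtain ⟨s, hs, rfl⟩ := Finset.mem_image.mp h
        exact mem_common.mpr ⟨(l.adj_iff hG _).mpr ⟨s, s.2, Or.inr rfl⟩,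
          hall2 y hy hy1 s s.2 (hmemb s hs) hc⟩
    rw [hall, Finset.card_insert_of_notMem hcA.2, hAcard.2] at hcount
    have hbt : ∀ t ∈ (a : Subgroup G), Adj b (t • c) := by
      intro t ht
      by_cases h1 : t = 1
      · rw [h1, one_smul]; exact ⟨l.hbc, z, l.hb, l.hc⟩
      · exact hall2 y hy hy1 t ht h1 hc
    have hne : b ≠ y • b := fun e => hy1 (l.smul_inj hG hy (one_mem _)
      (e.symm.trans (one_smul G b).symm))
    have hsub' : insert a (insert c Ac) ⊆ common b (y • b) := by
      intro x hx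
      rcases Finset.mem_insert.mp hx with rfl | hx
      · exact mem_common.mpr ⟨Adj.symm (a := _) (b := b) ⟨l.hab, z, l.ha, l.hb⟩,
          ((l.adj_iff hG _).mpr ⟨y, hy, Or.inl rfl⟩).symm⟩
      · obtain ⟨t, ht, rfl⟩ : ∃ t ∈ (a : Subgroup G), x = t • c := by
          rcases Finset.mem_insert.mp hx with rfl | hx
          · exact ⟨1, one_mem _, (one_smul G _).symm⟩
          · obtain ⟨s, -, rfl⟩ := Finset.mem_image.mp hx
            exact ⟨s, s.2, rfl⟩
        refine mem_common.mpr ⟨hbt t ht, ?_⟩
        have h := (hbt (y⁻¹ * t) (mul_mem (inv_mem hy) ht)).smul y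
        rwa [← mul_smul, mul_inv_cancel_left] at h
    have h10 := Finset.card_le_card hsub'
    rw [card_common_far hG hd (mem_far.mpr ⟨hne, hb⟩), Finset.card_insert_of_notMem,
      Finset.card_insert_of_notMem hcA.2, hAcard.2] at h10
    · omega
    · intro h
      rcases Finset.mem_insert.mp h with h | h
      · exact l.hac h
      · obtain ⟨s, -, he⟩ := Finset.mem_image.mp h
        exact ((l.adj_iff hG _).mpr ⟨s, s.2, Or.inr rfl⟩).1 he.symm
  · -- no further common neighbour: no such strongly regular graph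
    exfalso
    have hall : common a b = {c} := by
      refine Finset.Subset.antisymm (fun x hx => ?_) (by simpa using hcmem)
      rcases Finset.mem_insert.mp (hsub hx) with rfl | hx'
      · exact Finset.mem_singleton_self _
      rcases Finset.mem_union.mp hx' with h | h <;> obtain ⟨s, hs, rfl⟩ := Finset.mem_image.mp h
      · exact absurd (hall1 s s.2 (hmemb s hs) y hy hy1 (mem_common.mp hx).2) hb
      · exact absurd (hall2 s s.2 (hmemb s hs) y hy hy1 (mem_common.mp hx).2) hc
    rw [hall, Finset.card_singleton] at hcount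
    refine no_srg_55 (V := Sylow 3 G) (by rw [← Nat.card_eq_fintype_card, card_sylow3_eq hG])
      Adj (fun x h => h.1 rfl) (fun x w h => h.symm) (fun x => card_nbrs hG x)
      (fun x w h => ?_) (fun x w hne hn => ?_)
    · obtain ⟨u, hux, huw⟩ := h.2
      obtain ⟨c', l'⟩ := exists_line hG hux huw h.1
      obtain ⟨g, hga, hgb, -⟩ := l.exists_map hG l'
      show (common x w).card = 1
      rw [← hga, ← hgb, card_common_smul, hall, Finset.card_singleton]
    · show (common x w).card = 8
      rw [card_common_far hG hd (mem_far.mpr ⟨hne, hn⟩)]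
      omega

end Cfsg.Agent.Steiner.M11
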