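import Cfsg.Agent.Lib.Steiner.M11.Graph
import Cfsg.Agent.Lib.Steiner.SharpDegree11

/-!
# A simple group of order 7920 is sharply 4-transitive of degree 11
-/

set_option autoImplicit false

namespace Cfsg.Agent.Steiner.M11

open Subgroup Cfsg.Agent.SmallGroups
open scoped Pointwise

variable {G : Type*} [Group G] [Fintype G]

/-- A free action on `k`-tuples with as many group elements as tuples is transitive on them. -/
theorem isMultiplyPretransitive_of_free {H α : Type*} [Group H] [Finite H] [Fintype α]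
    [MulAction H α] {k : ℕ} (hcard : Nat.card H = (Fintype.card α).descFactorial k)
    (hfree : ∀ x : Fin k ↪ α, MulAction.stabilizer H x = ⊥) :
    MulAction.IsMultiplyPretransitive H α k := by
  classical
  constructor
  intro x y
  let f : H → (Fin k ↪ α) := fun g => g • x
  have hinj : Function.Injective f := fun g h e => by
    have : h⁻¹ * g ∈ MulAction.stabilizer H x := by
      show (h⁻¹ * g) • x = x
      rw [mul_smul, inv_smul_eq_iff]; exact e
    rw [hfree x, mem_bot, inv_mul_eq_one] at this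
    exact this.symm
  have := Fintype.ofFinite H
  have hsurj := (hinj.bijective_of_nat_card_le (by
    rw [hcard, Nat.card_eq_fintype_card, Fintype.card_embedding_eq, Fintype.card_fin])).2
  exact hsurj y

/-- A subgroup of index 11 on whose cosets `G` is sharply 4-transitive. -/
theorem exists_sharp4 (hG : Cfsg.IsM11 G) : ∃ L : Subgroup G, Nat.card (G ⧸ L) = 11 ∧
    MulAction.IsMultiplyPretransitive G (G ⧸ L) 4 ∧
      ∀ x : Fin 4 ↪ G ⧸ L, MulAction.stabilizer G x = ⊥ := by
  classical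
  have : Fact (Nat.Prime 3) := ⟨by norm_num⟩
  have := Fintype.ofFinite (Sylow 3 G)
  obtain ⟨a⟩ := (inferInstance : Nonempty (Sylow 3 G))
  obtain ⟨z, hz⟩ := exists_isInv hG a
  obtain ⟨b, hb, hab⟩ : ∃ b, IsInv z b ∧ a ≠ b := by
    have h3 := card_isInv hG hz.1
    by_contra h
    push_neg at h
    have : Subsingleton {x : Sylow 3 G // IsInv z x} :=
      ⟨fun x y => Subtype.ext ((h x.1 x.2).symm.trans (h y.1 y.2))⟩
    have := Finite.card_le_one_iff_subsingleton.mpr this
    omega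
  obtain ⟨c, l⟩ := exists_line hG hz hb hab
  obtain ⟨hP, hP'⟩ := l.clique hG
  have := Fintype.ofFinite ↥(a : Subgroup G)
  -- the clique
  set C : Set (Sylow 3 G) := insert a ((fun s : ↥(a : Subgroup G) => (s : G) • b) '' Set.univ)
    with hC
  have hmemC : ∀ x, x ∈ C ↔ x = a ∨ ∃ s ∈ (a : Subgroup G), x = s • b := by
    intro x
    simp only [hC, Set.mem_insert_iff, Set.image_univ, Set.mem_range, Subtype.exists]
    exact or_congr Iff.rfl ⟨fun ⟨s, hs, h⟩ => ⟨s, hs, h.symm⟩, fun ⟨s, hs, h⟩ => ⟨s, hs, h.symm⟩⟩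
  have hchar : ∀ x, x ∈ C ↔ x = a ∨ x = b ∨ (Adj a x ∧ Adj b x ∧ x ≠ c) := by
    intro x
    rw [hmemC]
    constructor
    · rintro (h | ⟨s, hs, rfl⟩)
      · exact Or.inl h
      · by_cases h1 : s = 1
        · exact Or.inr (Or.inl (by rw [h1, one_smul]))
        · exact Or.inr (Or.inr ⟨(l.adj_iff hG _).mpr ⟨s, hs, Or.inl rfl⟩, hP s hs h1,
            fun e => l.smul_ne hG hs (one_mem _) (e.trans (one_smul G c).symm)⟩)
    · rintro (h | h | ⟨hax, hbx, hxc⟩)
      · exact Or.inl h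
      · exact Or.inr ⟨1, one_mem _, by rw [h, one_smul]⟩
      · obtain ⟨s, hs, h | h⟩ := (l.adj_iff hG x).mp hax
        · exact Or.inr ⟨s, hs, h⟩
        · exfalso
          by_cases h1 : s = 1
          · exact hxc (by rw [h, h1, one_smul])
          · exact hP' s hs h1 (h ▸ hbx)
  set L := MulAction.stabilizer G C with hL
  have hsubL : ∀ g : G, (∀ x ∈ C, g • x ∈ C) → g ∈ L := by
    intro g hg
    show g • C = C
    refine Set.eq_of_subset_of_ncard_le ?_ ?_ (Set.toFinite _)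
    · rintro _ ⟨x, hx, rfl⟩; exact hg x hx
    · exact le_of_eq (Set.ncard_image_of_injective _ (MulAction.injective g)).symm
  have hmapL : ∀ g ∈ L, ∀ x ∈ C, g • x ∈ C := fun g hg x hx => by
    have h : g • x ∈ g • C := Set.smul_mem_smul_set hx
    rwa [(hg : g • C = C)] at h
  have hS : ∀ s ∈ (a : Subgroup G), s ∈ L := fun s hs => hsubL s fun x hx => by
    rw [hmemC] at hx ⊢
    rcases hx with rfl | ⟨t, ht, rfl⟩
    · exact Or.inl (sylow_smul_eq hs)
    · exact Or.inr ⟨s * t, mul_mem hs ht, (mul_smul s t b).symm⟩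
  have hRconj : ∀ r ∈ stab2 a b, ∀ t ∈ (a : Subgroup G), r * t * r⁻¹ ∈ (a : Subgroup G) :=
    fun r hr t ht => (mem_normalizer_iff.mp ((smul_eq_iff r a).mp (mem_stab2.mp hr).1) t).mp ht
  have hR : ∀ r ∈ stab2 a b, r ∈ L := fun r hr => hsubL r fun x hx => by
    rw [hmemC] at hx ⊢
    rcases hx with rfl | ⟨t, ht, rfl⟩
    · exact Or.inl (mem_stab2.mp hr).1
    · refine Or.inr ⟨r * t * r⁻¹, hRconj r hr t ht, ?_⟩
      rw [mul_smul, mul_smul, inv_smul_eq_iff.mpr (mem_stab2.mp hr).2.symm]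
  have haC : a ∈ C := (hmemC a).mpr (Or.inl rfl)
  -- transitivity of `L` on `C`
  obtain ⟨⟨d, -, hdc, hda, hdb⟩, -⟩ := l.rot.rot.swap hG
  have hd : d ∈ L := hsubL d fun x hx => by
    rw [hchar] at hx ⊢
    rcases hx with rfl | rfl | ⟨h1, h2, h3⟩
    · exact Or.inr (Or.inl hda)
    · exact Or.inl hdb
    · refine Or.inr (Or.inr ⟨?_, ?_, fun e => h3 (MulAction.injective d (e.trans hdc.symm))⟩)
      · have := h2.smul d; rwa [hdb] at this
      · have := h1.smul d; rwa [hda] at this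
  have htransC : ∀ x ∈ C, ∃ k ∈ L, k • a = x := by
    intro x hx
    rcases (hmemC x).mp hx with rfl | ⟨s, hs, rfl⟩
    · exact ⟨1, one_mem _, one_smul _ _⟩
    · exact ⟨s * d, mul_mem (hS s hs) hd, by rw [mul_smul, hda]⟩
  -- the point stabiliser
  have hH : ∀ g ∈ L, g • a = a → ∃ s ∈ (a : Subgroup G), ∃ r ∈ stab2 a b, g = s * r := by
    intro g hg hga
    obtain ⟨s, hs, hsb⟩ : ∃ s ∈ (a : Subgroup G), g • b = s • b :=
      ((hmemC _).mp (hmapL g hg b ((hmemC b).mpr (Or.inr ⟨1, one_mem _, (one_smul _ _).symm⟩)))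
        ).resolve_left fun e => l.hab (MulAction.injective g (hga.trans e.symm))
    refine ⟨s, hs, s⁻¹ * g, ⟨?_, ?_⟩, by group⟩
    · show (s⁻¹ * g) • a = a
      rw [mul_smul, hga, sylow_smul_eq (inv_mem hs)]
    · show (s⁻¹ * g) • b = b
      rw [mul_smul, hsb, inv_smul_smul]
  have hcardC : C.ncard = 10 := by
    rw [hC, Set.ncard_insert_of_notMem, Set.ncard_image_of_injective _
      (fun (s t : ↥(a : Subgroup G)) e => Subtype.ext (l.smul_inj hG s.2 t.2 e)), Set.ncard_univ,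
      card_sylow3 hG a]
    rintro ⟨s, -, he⟩
    exact l.hab (MulAction.injective (s : G) ((sylow_smul_eq s.2).trans he.symm))
  have hLcard : Nat.card L = 720 := by
    have horb : MulAction.orbit L a = C := by
      ext x
      exact ⟨fun ⟨g, hg⟩ => hg ▸ hmapL g g.2 a haC,
        fun hx => let ⟨k, hk, hka⟩ := htransC x hx; ⟨⟨k, hk⟩, hka⟩⟩
    have h1 := (MulAction.stabilizer L a).card_mul_index
    rw [MulAction.index_stabilizer, horb, hcardC] at h1
    let f : ↥(a : Subgroup G) × stab2 a b → MulAction.stabilizer L a := fun p =>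
      ⟨⟨(p.1 : G) * p.2, mul_mem (hS _ p.1.2) (hR _ p.2.2)⟩, by
        show ((p.1 : G) * p.2) • a = a
        rw [mul_smul, (mem_stab2.mp p.2.2).1, sylow_smul_eq p.1.2]⟩
    have hbij : Function.Bijective f := by
      constructor
      · rintro ⟨s, r⟩ ⟨s', r'⟩ e
        have e' : (s : G) * r = s' * r' := congrArg (fun v : MulAction.stabilizer L a => (v.1 : G)) e
        have hb' : (s : G) • b = (s' : G) • b := by
          have := congrArg (· • b) e'
          simpa [mul_smul, (mem_stab2.mp r.2).2, (mem_stab2.mp r'.2).2] using this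
        have hs : s = s' := Subtype.ext (l.smul_inj hG s.2 s'.2 hb')
        subst hs
        exact Prod.ext rfl (Subtype.ext (mul_left_cancel e'))
      · rintro ⟨⟨g, hg⟩, hga⟩
        obtain ⟨s, hs, r, hr, rfl⟩ := hH g hg hga
        exact ⟨(⟨s, hs⟩, ⟨r, hr⟩), rfl⟩
    rw [← Nat.card_congr (Equiv.ofBijective f hbij), Nat.card_prod, card_sylow3 hG a,
      (l.swap hG).2] at h1
    omega
  have hidx : Nat.card (G ⧸ L) = 11 := by
    have h := L.card_mul_index
    rw [hLcard, card_eq hG] at h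
    rw [← index_eq_card]
    omega
  -- a second clique through `a`
  obtain ⟨⟨g₀, -, hga₀, hgb₀, hgc₀⟩, -⟩ := l.swap hG
  set x₁ : G ⧸ L := QuotientGroup.mk g₀ with hx₁
  have hC' : ∀ x, g₀⁻¹ • x ∈ C ↔ x = a ∨ ∃ t ∈ (a : Subgroup G), x = t • c := by
    intro x
    rw [hmemC]
    have hconj : ∀ t ∈ (a : Subgroup G), g₀ * t * g₀⁻¹ ∈ (a : Subgroup G) ∧
        g₀⁻¹ * t * g₀ ∈ (a : Subgroup G) := by
      intro t ht
      have hn := mem_normalizer_iff.mp ((smul_eq_iff g₀ a).mp hga₀)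
      refine ⟨(hn t).mp ht, (hn _).mpr ?_⟩
      rwa [show g₀ * (g₀⁻¹ * t * g₀) * g₀⁻¹ = t by group]
    constructor
    · rintro (h | ⟨t, ht, h⟩)
      · exact Or.inl (by rw [inv_smul_eq_iff.mp h, hga₀])
      · refine Or.inr ⟨g₀ * t * g₀⁻¹, (hconj t ht).1, ?_⟩
        rw [inv_smul_eq_iff.mp h, ← hgb₀, mul_smul, mul_smul, inv_smul_smul]
    · rintro (rfl | ⟨t, ht, rfl⟩)
      · exact Or.inl (inv_smul_eq_iff.mpr hga₀.symm)
      · refine Or.inr ⟨g₀⁻¹ * t * g₀, (hconj t ht).2, ?_⟩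
        rw [mul_smul, mul_smul, hgb₀]
  -- the stabiliser of the second coset in `L` fixes `a`
  have hstab : ∀ k ∈ L, k • x₁ = x₁ ↔ k • a = a := by
    intro k hk
    have hiff : k • x₁ = x₁ ↔ g₀⁻¹ * k * g₀ ∈ L := by
      rw [hx₁, MulAction.Quotient.smul_mk, eq_comm, QuotientGroup.eq, smul_eq_mul, mul_assoc]
    rw [hiff]
    constructor
    · intro h
      have h2 : g₀⁻¹ • (k • a) ∈ C := by
        have h3 := hmapL _ h a haC
        rwa [mul_smul, mul_smul, hga₀] at h3
      rcases (hC' _).mp h2 with h4 | ⟨t, ht, h4⟩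
      · exact h4
      · exfalso
        rcases (hmemC _).mp (hmapL k hk a haC) with h5 | ⟨s, hs, h5⟩
        · exact l.hac (MulAction.injective t
            ((sylow_smul_eq ht).trans (h5.symm.trans h4)))
        · exact l.smul_ne hG hs ht (h5.symm.trans h4)
    · intro hka
      obtain ⟨s, hs, r, hr, rfl⟩ := hH k hk hka
      refine hsubL _ fun x hx => ?_
      rw [mul_smul, mul_smul]
      have hy : g₀⁻¹ • (g₀ • x) ∈ C := by rwa [inv_smul_smul]
      rw [hC']
      rw [hC'] at hy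
      rcases hy with h | ⟨t, ht, h⟩ <;> rw [h, mul_smul]
      · exact Or.inl (by rw [(mem_stab2.mp hr).1, sylow_smul_eq hs])
      · refine Or.inr ⟨s * (r * t * r⁻¹), mul_mem hs (hRconj r hr t ht), ?_⟩
        rw [mul_smul s, mul_smul (r * t), mul_smul r,
          inv_smul_eq_iff.mpr (l.edge_stab hG (mem_stab2.mp hr).1 (mem_stab2.mp hr).2).2.symm]
  set x₀ : G ⧸ L := QuotientGroup.mk 1 with hx₀
  have hfix₀ : ∀ k : G, k • x₀ = x₀ ↔ k ∈ L := by
    intro k
    rw [hx₀, MulAction.Quotient.smul_mk, eq_comm, QuotientGroup.eq, inv_one, one_mul, smul_eq_mul,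
      mul_one]
  have hne01 : x₁ ≠ x₀ := by
    rw [hx₁, hx₀, Ne, QuotientGroup.eq, mul_one, inv_mem_iff]
    intro h
    have h' := hmapL g₀ h b ((hmemC b).mpr (Or.inr ⟨1, one_mem _, (one_smul _ _).symm⟩))
    rw [hgb₀] at h'
    rcases (hmemC c).mp h' with e | ⟨s, hs, e⟩
    · exact l.hac e.symm
    · exact l.smul_ne hG hs (one_mem _) (e.symm.trans (one_smul G c).symm)
  -- `L` is transitive on the other cosets
  have := Fintype.ofFinite (G ⧸ L)
  have htrans : ∀ x : G ⧸ L, x ≠ x₀ → ∃ k ∈ L, k • x₁ = x := by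
    intro x hx
    choose k hk hka using htransC
    let φ : C → {y : G ⧸ L // y ≠ x₀} := fun p =>
      ⟨k p.1 p.2 • x₁, fun e => hne01 (MulAction.injective (k p.1 p.2)
        (e.trans ((hfix₀ _).mpr (hk p.1 p.2)).symm))⟩
    have hinj : Function.Injective φ := by
      intro p q e
      have e' : k p.1 p.2 • x₁ = k q.1 q.2 • x₁ := congrArg Subtype.val e
      have h1 : ((k q.1 q.2)⁻¹ * k p.1 p.2) • x₁ = x₁ := by rw [mul_smul, e', inv_smul_smul]
      rw [hstab _ (mul_mem (inv_mem (hk q.1 q.2)) (hk p.1 p.2)), mul_smul, inv_smul_eq_iff,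
        hka p.1 p.2, hka q.1 q.2] at h1
      exact Subtype.ext h1
    have hsurj := (hinj.bijective_of_nat_card_le (by
      rw [Nat.card_coe_set_eq, hcardC, Nat.card_eq_fintype_card, Fintype.card_subtype_compl,
        Fintype.card_subtype_eq, ← Nat.card_eq_fintype_card, hidx])).2
    obtain ⟨p, hp⟩ := hsurj ⟨x, hx⟩
    exact ⟨k p.1 p.2, hk p.1 p.2, congrArg Subtype.val hp⟩
  have hfree : ∀ x : Fin 4 ↪ G ⧸ L, MulAction.stabilizer G x = ⊥ := by
    intro x
    rw [eq_bot_iff]
    intro g hg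
    have hgi : ∀ i, g • x i = x i := fun i => DFunLike.congr_fun (hg : g • x = x) i
    obtain ⟨h, hh⟩ := MulAction.exists_smul_eq G (x 0) x₀
    obtain ⟨k, hk, hkx⟩ := htrans (h • x 1) fun e =>
      absurd (x.injective (MulAction.injective h (e.trans hh.symm))) (by decide)
    set m := k⁻¹ * h with hm
    have hm0 : m • x 0 = x₀ := by
      rw [hm, mul_smul, hh, inv_smul_eq_iff, (hfix₀ k).mpr hk]
    have hm1 : m • x 1 = x₁ := by rw [hm, mul_smul, ← hkx, inv_smul_smul]
    set u := m * g * m⁻¹ with hu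
    have hui : ∀ i, u • (m • x i) = m • x i := fun i => by
      rw [hu, mul_smul, mul_smul, inv_smul_smul, hgi]
    have huL : u ∈ L := (hfix₀ u).mp (hm0 ▸ hui 0)
    have hua : u • a = a := (hstab u huL).mp (hm1 ▸ hui 1)
    have hpt : ∀ i, i ≠ 0 → i ≠ 1 → ∃ q ∈ L, q • x₁ = m • x i ∧ q • a ≠ a ∧
        u • (q • a) = q • a := by
      intro i hi0 hi1
      obtain ⟨q, hq, hqx⟩ := htrans (m • x i) fun e =>
        hi0 (x.injective (MulAction.injective m (e.trans hm0.symm)))
      refine ⟨q, hq, hqx, fun e => hi1 (x.injective (MulAction.injective m ?_)), ?_⟩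
      · show m • x i = m • x 1
        rw [hm1, ← hqx, (hstab q hq).mpr e]
      · have h1 : (q⁻¹ * u * q) • x₁ = x₁ := by
          rw [mul_smul, mul_smul, hqx, hui i, ← hqx, inv_smul_smul]
        rw [hstab _ (mul_mem (mul_mem (inv_mem hq) huL) hq), mul_smul, mul_smul, inv_smul_eq_iff]
          at h1
        exact h1
    obtain ⟨p, hp, hpx, hpa, hpu⟩ := hpt 2 (by decide) (by decide)
    obtain ⟨q, hq, hqx, hqa, hqu⟩ := hpt 3 (by decide) (by decide)
    obtain ⟨s, hs, hps⟩ := ((hmemC _).mp (hmapL p hp a haC)).resolve_left hpa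
    obtain ⟨t, ht, hqt⟩ := ((hmemC _).mp (hmapL q hq a haC)).resolve_left hqa
    have hst : s ≠ t := by
      intro e
      have hpq : p • a = q • a := by rw [hps, hqt, e]
      have h1 : (q⁻¹ * p) • x₁ = x₁ :=
        (hstab _ (mul_mem (inv_mem hq) hp)).mpr (by rw [mul_smul, hpq, inv_smul_smul])
      rw [mul_smul, inv_smul_eq_iff, hpx, hqx] at h1
      exact absurd (x.injective (MulAction.injective m h1)) (by decide)
    rw [hps] at hpu
    rw [hqt] at hqu
    set r := s⁻¹ * u * s with hr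
    have hrm : r ∈ stab2 a b := by
      refine ⟨?_, ?_⟩
      · show r • a = a
        rw [hr, mul_smul, mul_smul, sylow_smul_eq hs, hua, sylow_smul_eq (inv_mem hs)]
      · show r • b = b
        rw [hr, mul_smul, mul_smul, hpu, inv_smul_smul]
    have hw : s⁻¹ * t ∈ (a : Subgroup G) := mul_mem (inv_mem hs) ht
    have hfixw : (r * (s⁻¹ * t) * r⁻¹) • b = (s⁻¹ * t) • b := by
      rw [mul_smul, inv_smul_eq_iff.mpr (mem_stab2.mp hrm).2.symm, hr,
        show s⁻¹ * u * s * (s⁻¹ * t) = s⁻¹ * (u * t) by group, mul_smul, mul_smul, hqu,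
        ← mul_smul]
    have hcomm : Commute r (s⁻¹ * t) :=
      mul_inv_eq_iff_eq_mul.mp (l.smul_inj hG (hRconj r hrm _ hw) hw hfixw)
    have hr1 := l.eq_one_of_commute hG hrm hw (fun e => hst (inv_mul_eq_one.mp e)) hcomm
    have hu1 : u = 1 := by
      have : u = s * r * s⁻¹ := by rw [hr]; group
      rw [this, hr1]; group
    rw [hu] at hu1
    rw [mem_bot]
    exact conj_eq_one_iff.mp hu1
  refine ⟨L, hidx, isMultiplyPretransitive_of_free ?_ hfree, hfree⟩
  rw [card_eq hG, ← Nat.card_eq_fintype_card, hidx]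
  rfl

end Cfsg.Agent.Steiner.M11
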