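import Cfsg.Agent.Lib.Steiner.M11.Local

/-!
# A simple group of order 7920 on its 55 Sylow 3-subgroups: inverters and lines
-/

set_option autoImplicit false

namespace Cfsg.Agent.Steiner.M11

open Subgroup Cfsg.Agent.SmallGroups
open scoped Pointwise

variable {G : Type*} [Group G] [Fintype G] [Fact (Nat.Prime 3)]

/-- `z` is an involution inverting the Sylow subgroup `a`. -/
def IsInv (z : G) (a : Sylow 3 G) : Prop :=
  orderOf z = 2 ∧ ∀ y ∈ (a : Subgroup G), z * y * z⁻¹ = y⁻¹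

/-- Two Sylow subgroups are adjacent when one involution inverts both. -/
def Adj (a b : Sylow 3 G) : Prop := a ≠ b ∧ ∃ z, IsInv z a ∧ IsInv z b

theorem smul_eq_iff (g : G) (a : Sylow 3 G) :
    g • a = a ↔ g ∈ normalizer ((a : Subgroup G) : Set G) := Sylow.smul_eq_iff_mem_normalizer

theorem mem_smul_iff {g y : G} {a : Sylow 3 G} :
    y ∈ ((g • a : Sylow 3 G) : Subgroup G) ↔ g⁻¹ * y * g ∈ (a : Subgroup G) := by
  rw [Sylow.coe_subgroup_smul, Subgroup.mem_pointwise_smul_iff_inv_smul_mem]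
  simp [MulAut.smul_def]

theorem sylow_smul_eq {a : Sylow 3 G} {y : G} (hy : y ∈ (a : Subgroup G)) : y • a = a :=
  (smul_eq_iff y a).mpr (le_normalizer hy)

/-- Distinct Sylow 3-subgroups meet trivially. -/
theorem sylow_eq_of_mem (hG : Cfsg.IsM11 G) {a b : Sylow 3 G} {y : G}
    (ha : y ∈ (a : Subgroup G)) (hb : y ∈ (b : Subgroup G)) (hy : y ≠ 1) : a = b := by
  have hA := card_sylow3 hG a
  have hB := card_sylow3 hG b
  have hle : (b : Subgroup G) ≤ normalizer ((a : Subgroup G) : Set G) := fun x hx =>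
    (centralizer_three hG a ha hy).1
      (mem_centralizer_singleton_iff.mpr (comm_of_card_nine hB hx hb).eq)
  refine (Sylow.ext (eq_of_le_of_card_ge ?_ (by rw [hA, hB]))).symm
  exact (le_inf le_rfl hle).trans ((b.2.inf_normalizer_sylow a).le.trans inf_le_right)

/-- A nontrivial element of a Sylow subgroup fixes only that one. -/
theorem eq_of_fixed (hG : Cfsg.IsM11 G) {a b : Sylow 3 G} {y : G}
    (ha : y ∈ (a : Subgroup G)) (hy : y ≠ 1) (hfix : y • b = b) : a = b := by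
  have hzp : IsPGroup 3 (zpowers y) := a.2.to_le (zpowers_le.mpr ha)
  have h := (hzp.inf_normalizer_sylow b).le ⟨mem_zpowers y, (smul_eq_iff y b).mp hfix⟩
  exact sylow_eq_of_mem hG ha h.2 hy

theorem IsInv.smul_eq {z : G} {a : Sylow 3 G} (h : IsInv z a) : z • a = a := by
  rw [smul_eq_iff, mem_normalizer_iff]
  refine fun y => ⟨fun hy => by rw [h.2 y hy]; exact inv_mem hy, fun hy => ?_⟩
  have h2 : z * z = 1 := by rw [← sq, ← h.1, pow_orderOf_eq_one]
  have h' := h.2 _ hy
  rw [inv_eq_of_mul_eq_one_right h2] at h' hy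
  rw [show z * (z * y * z) * z = (z * z) * y * (z * z) by group, h2, one_mul, mul_one] at h'
  rw [h']
  exact inv_mem hy

theorem IsInv.conj {z : G} {a : Sylow 3 G} (h : IsInv z a) (g : G) :
    IsInv (g * z * g⁻¹) (g • a) := by
  refine ⟨by rw [← MulAut.conj_apply, MulEquiv.orderOf_eq, h.1], fun y hy => ?_⟩
  have h' := h.2 _ (mem_smul_iff.mp hy)
  calc g * z * g⁻¹ * y * (g * z * g⁻¹)⁻¹ = g * (z * (g⁻¹ * y * g) * z⁻¹) * g⁻¹ := by group
    _ = y⁻¹ := by rw [h']; group

theorem Adj.symm {a b : Sylow 3 G} (h : Adj a b) : Adj b a :=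
  ⟨h.1.symm, h.2.imp fun _ hz => ⟨hz.2, hz.1⟩⟩

theorem Adj.smul {a b : Sylow 3 G} (h : Adj a b) (g : G) : Adj (g • a) (g • b) :=
  ⟨fun e => h.1 (MulAction.injective g e), h.2.elim fun z hz => ⟨_, hz.1.conj g, hz.2.conj g⟩⟩

theorem adj_smul_iff {a b : Sylow 3 G} (g : G) : Adj (g • a) (g • b) ↔ Adj a b :=
  ⟨fun h => by simpa using h.smul g⁻¹, fun h => h.smul g⟩

theorem exists_isInv (hG : Cfsg.IsM11 G) (a : Sylow 3 G) : ∃ z, IsInv z a := by
  obtain ⟨g, -, hg⟩ := exists_inverter hG a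
  have hA := card_sylow3 hG a
  obtain ⟨⟨y, hy⟩, hyo⟩ := exists_prime_orderOf_dvd_card' (G := ↥(a : Subgroup G)) 3
    (by rw [hA]; norm_num)
  rw [orderOf_mk] at hyo
  have hg2 : g * g ∈ (a : Subgroup G) := by
    rw [← centralizer_eq hG a, mem_centralizer_iff]
    intro b hb
    have h1 : g * b⁻¹ * g⁻¹ = b := by rw [hg _ (inv_mem hb), inv_inv]
    calc b * (g * g) = g * (g * b * g⁻¹) * g⁻¹ * (g * g) := by rw [hg b hb, h1]
      _ = g * g * b := by group
  have h1 := hg _ hg2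
  rw [show g * (g * g) * g⁻¹ = g * g by group] at h1
  have hsq : g * g = 1 := by
    have h9 : orderOf (g * g) ∣ 9 := hA ▸ Subgroup.orderOf_dvd_natCard _ hg2
    have h2 : orderOf (g * g) ∣ 2 := orderOf_dvd_of_pow_eq_one (by
      rw [sq]; nth_rewrite 1 [h1]; exact inv_mul_cancel _)
    exact orderOf_eq_one_iff.mp (Nat.eq_one_of_dvd_coprimes (by norm_num : Nat.Coprime 9 2) h9 h2)
  refine ⟨g, orderOf_eq_prime (hp := ⟨Nat.prime_two⟩) (by rw [sq, hsq]) ?_, hg⟩
  rintro rfl
  have h2 := hg y hy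
  rw [one_mul, inv_one, mul_one] at h2
  have := orderOf_dvd_of_pow_eq_one (show y ^ 2 = 1 by
    rw [sq]; nth_rewrite 2 [h2]; exact mul_inv_cancel y)
  rw [hyo] at this
  norm_num at this

/-- Two inverters of `a` are conjugate by an element of `a`. -/
theorem IsInv.exists_conj (hG : Cfsg.IsM11 G) {z z' : G} {a : Sylow 3 G} (h : IsInv z a)
    (h' : IsInv z' a) : ∃ s ∈ (a : Subgroup G), z' = s * z * s⁻¹ := by
  have hz2 : z * z = 1 := by rw [← sq, ← h.1, pow_orderOf_eq_one]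
  have hzi := inv_eq_of_mul_eq_one_right hz2
  have hw : z' * z ∈ (a : Subgroup G) := by
    rw [← centralizer_eq hG a, mem_centralizer_iff]
    intro b hb
    have hb2 : z' * (z * b * z⁻¹) * z'⁻¹ = b := by
      rw [h.2 b hb, h'.2 _ (inv_mem hb), inv_inv]
    calc b * (z' * z) = z' * (z * b * z⁻¹) * z'⁻¹ * (z' * z) := by rw [hb2]
      _ = z' * z * b := by group
  refine ⟨(z' * z) ^ 2, pow_mem hw 2, ?_⟩
  have h3 : (z' * z) ^ 3 = 1 := exponent_three hG a hw
  have hinv : ((z' * z) ^ 2)⁻¹ = z * (z' * z) ^ 2 * z⁻¹ := (h.2 _ (pow_mem hw 2)).symm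
  calc z' = (z' * z) ^ 3 * (z' * z) * z := by rw [h3, one_mul, mul_assoc, hz2, mul_one]
    _ = (z' * z) ^ 2 * (z * z) * (z' * z) ^ 2 * z⁻¹ := by
        rw [hz2, mul_one, ← pow_add, ← pow_succ, hzi]
    _ = (z' * z) ^ 2 * z * (z * (z' * z) ^ 2 * z⁻¹) := by group
    _ = _ := by rw [← hinv]

theorem IsInv.eq_of_commute (hG : Cfsg.IsM11 G) {z z' : G} {a : Sylow 3 G} (h : IsInv z a)
    (h' : IsInv z' a) (hc : Commute z z') : z = z' := by
  obtain ⟨s, hs, rfl⟩ := h.exists_conj hG h'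
  have hz2 : z * z = 1 := by rw [← sq, ← h.1, pow_orderOf_eq_one]
  have h1 : z * s⁻¹ = s * z := by
    calc z * s⁻¹ = z * (z * s * z⁻¹) := by rw [h.2 s hs]
      _ = z * z * (s * z⁻¹) := by group
      _ = s * z := by rw [hz2, one_mul, inv_eq_of_mul_eq_one_right hz2]
  have h2 : s * z * s⁻¹ = s ^ 2 * z := by rw [mul_assoc, h1, ← mul_assoc, ← sq]
  have h3 : Commute z (s ^ 2) := by
    have h4 : Commute z (s ^ 2 * z) := h2 ▸ hc
    have h5 := h4.mul_right (Commute.inv_right (Commute.refl z))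
    rwa [mul_inv_cancel_right] at h5
  have h4 := h.2 (s ^ 2) (pow_mem hs 2)
  rw [h3.eq, mul_inv_cancel_right] at h4
  have hs1 : s = 1 := by
    have h5 : (s ^ 2) ^ 2 = 1 := by
      rw [sq (s ^ 2)]; nth_rewrite 1 [h4]; exact inv_mul_cancel _
    have h6 := exponent_three hG a hs
    calc s = s * s ^ 3 := by rw [h6, mul_one]
      _ = (s ^ 2) ^ 2 := by rw [← pow_mul, ← pow_succ']
      _ = 1 := h5
  subst hs1
  simp

theorem IsInv.eq_of_adj (hG : Cfsg.IsM11 G) {z z' : G} {a b : Sylow 3 G} (hab : a ≠ b)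
    (ha : IsInv z a) (ha' : IsInv z' a) (hb : IsInv z b) (hb' : IsInv z' b) : z = z' := by
  obtain ⟨s, hs, hsz⟩ := ha.exists_conj hG ha'
  obtain ⟨t, ht, htz⟩ := hb.exists_conj hG hb'
  by_contra hne
  have hs1 : s ≠ 1 := fun h => hne (by rw [hsz, h]; simp)
  have hz2 : z * z = 1 := by rw [← sq, ← ha.1, pow_orderOf_eq_one]
  have key : ∀ {c : Sylow 3 G} {s : G}, IsInv z c → s ∈ (c : Subgroup G) →
      s * z * s⁻¹ * z⁻¹ = s ^ 2 := fun {c s} hc hs => by
    calc s * z * s⁻¹ * z⁻¹ = s * (z * s * z⁻¹)⁻¹ := by group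
      _ = s ^ 2 := by rw [hc.2 s hs, inv_inv, sq]
  have e1 := key ha hs
  have e2 := key hb ht
  rw [← hsz] at e1
  rw [← htz, e1] at e2
  apply hab
  refine sylow_eq_of_mem hG (pow_mem hs 2) (e2 ▸ pow_mem ht 2) fun h => hs1 ?_
  calc s = s * s ^ 3 := by rw [exponent_three hG a hs, mul_one]
    _ = s ^ 2 * s ^ 2 := by rw [← pow_succ', ← pow_add]
    _ = 1 := by rw [h, one_mul]

/-- The centraliser of `z` is transitive on the subgroups it inverts. -/
theorem IsInv.exists_centralizer_smul (hG : Cfsg.IsM11 G) {z : G} {a b : Sylow 3 G}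
    (ha : IsInv z a) (hb : IsInv z b) : ∃ g ∈ centralizer ({z} : Set G), g • a = b := by
  obtain ⟨g, hg⟩ := MulAction.exists_smul_eq G a b
  have h := ha.conj g
  rw [hg] at h
  obtain ⟨s, hs, hsz⟩ := h.exists_conj hG hb
  refine ⟨s * g, mem_centralizer_singleton_iff.mpr ?_, by rw [mul_smul, hg, sylow_smul_eq hs]⟩
  apply mul_inv_eq_iff_eq_mul.mp
  conv_rhs => rw [hsz]
  group

theorem exists_isInv_of_involution (hG : Cfsg.IsM11 G) {z : G} (hz : orderOf z = 2) :
    ∃ a : Sylow 3 G, IsInv z a := by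
  obtain ⟨a⟩ := (inferInstance : Nonempty (Sylow 3 G))
  obtain ⟨w, hw⟩ := exists_isInv hG a
  obtain ⟨g, hg⟩ := isConj_iff.mp (isConj_two hG hw.1 hz)
  exact ⟨g • a, hg ▸ hw.conj g⟩

/-- The stabiliser of `a` in the centraliser of an inverter has order 16. -/
theorem IsInv.card_stab (hG : Cfsg.IsM11 G) {z : G} {a : Sylow 3 G} (h : IsInv z a) :
    Nat.card ↥(centralizer ({z} : Set G) ⊓ normalizer ((a : Subgroup G) : Set G)) = 16 := by
  classical
  set N := normalizer ((a : Subgroup G) : Set G) with hN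
  set D := centralizer ({z} : Set G) ⊓ N
  let f : ↥(a : Subgroup G) × D → N := fun x =>
    ⟨(x.1 : G) * x.2, mul_mem (le_normalizer x.1.2) x.2.2.2⟩
  have hinj : Function.Injective f := by
    rintro ⟨s, d⟩ ⟨s', d'⟩ he
    have he' : (s : G) * d = s' * d' := congrArg Subtype.val he
    have h1 : (s' : G)⁻¹ * s = (d' : G) * (d : G)⁻¹ := by
      rw [eq_mul_inv_iff_mul_eq, mul_assoc, he', inv_mul_cancel_left]
    have hcz : Commute z ((s' : G)⁻¹ * s) := by
      rw [h1]
      exact (Commute.mul_right (mem_centralizer_singleton_iff.mp d'.2.1).symm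
        (Commute.inv_right (mem_centralizer_singleton_iff.mp d.2.1).symm))
    have hmem : (s' : G)⁻¹ * s ∈ (a : Subgroup G) := mul_mem (inv_mem s'.2) s.2
    have h2 := h.2 _ hmem
    rw [hcz.eq, mul_inv_cancel_right] at h2
    have h3 : orderOf ((s' : G)⁻¹ * s) ∣ 2 := orderOf_dvd_of_pow_eq_one (by
      rw [sq]; nth_rewrite 1 [h2]; exact inv_mul_cancel _)
    have h4 : orderOf ((s' : G)⁻¹ * s) ∣ 9 :=
      card_sylow3 hG a ▸ Subgroup.orderOf_dvd_natCard _ hmem
    have h5 := orderOf_eq_one_iff.mp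
      (Nat.eq_one_of_dvd_coprimes (by norm_num : Nat.Coprime 2 9) h3 h4)
    have hs : s = s' := Subtype.ext (inv_mul_eq_one.mp h5).symm
    subst hs
    exact Prod.ext rfl (Subtype.ext (mul_left_cancel he'))
  have hsurj : Function.Surjective f := by
    rintro ⟨g, hg⟩
    have hga : g • a = a := (smul_eq_iff g a).mpr hg
    have h' := h.conj g
    rw [hga] at h'
    obtain ⟨s, hs, hsz⟩ := h.exists_conj hG h'
    refine ⟨⟨⟨s, hs⟩, ⟨s⁻¹ * g, ?_, N.mul_mem (N.inv_mem (le_normalizer hs)) hg⟩⟩,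
      Subtype.ext (by show s * (s⁻¹ * g) = g; group)⟩
    show s⁻¹ * g ∈ centralizer ({z} : Set G)
    rw [mem_centralizer_singleton_iff]
    calc s⁻¹ * g * z = s⁻¹ * (g * z * g⁻¹) * g := by group
      _ = z * (s⁻¹ * g) := by rw [hsz]; group
  have hc := Nat.card_congr (Equiv.ofBijective f ⟨hinj, hsurj⟩)
  rw [Nat.card_prod, card_sylow3 hG a, card_normalizer3 hG a] at hc
  omega

/-- An involution inverts exactly three Sylow subgroups. -/
theorem card_isInv (hG : Cfsg.IsM11 G) {z : G} (hz : orderOf z = 2) :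
    Nat.card {a : Sylow 3 G // IsInv z a} = 3 := by
  obtain ⟨a, ha⟩ := exists_isInv_of_involution hG hz
  set C := centralizer ({z} : Set G) with hC
  have horb : MulAction.orbit C a = {b | IsInv z b} := by
    ext b
    constructor
    · rintro ⟨g, rfl⟩
      have hg := mem_centralizer_singleton_iff.mp g.2
      have h := ha.conj (g : G)
      rwa [hg, mul_inv_cancel_right] at h
    · intro hb
      obtain ⟨g, hg, hgb⟩ := ha.exists_centralizer_smul hG hb
      exact ⟨⟨g, hg⟩, hgb⟩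
  have h1 := (MulAction.stabilizer C a).card_mul_index
  rw [MulAction.index_stabilizer, horb, card_centralizer_two hG hz] at h1
  have h2 : Nat.card (MulAction.stabilizer C a) = 16 := by
    rw [← ha.card_stab hG]
    exact Nat.card_congr
      { toFun := fun g => ⟨g.1.1, g.1.2, (smul_eq_iff _ a).mp g.2⟩
        invFun := fun g => ⟨⟨g.1, g.2.1⟩, (smul_eq_iff _ a).mpr g.2.2⟩
        left_inv := fun g => rfl
        right_inv := fun g => rfl }
  rw [h2, ← Nat.card_coe_set_eq] at h1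
  have : Nat.card {a : Sylow 3 G // IsInv z a} = Nat.card ({b | IsInv z b} : Set (Sylow 3 G)) := rfl
  omega

/-- A 2-group of order at least 8 in a normaliser: its central involutions are inverters. -/
theorem inverts_of_central (hG : Cfsg.IsM11 G) {a : Sylow 3 G} {H : Subgroup G}
    (hH : H ≤ normalizer ((a : Subgroup G) : Set G)) {n : ℕ} (hn : Nat.card H = 2 ^ n) (h3 : 3 ≤ n)
    {u : G} (hu : u ∈ H) (hu2 : orderOf u = 2) (hc : ∀ g ∈ H, Commute u g) : IsInv u a := by
  classical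
  refine ⟨hu2, fun y hy => ?_⟩
  by_contra hne
  have hA := card_sylow3 hG a
  have huu : u * u = 1 := by rw [← sq, ← hu2, pow_orderOf_eq_one]
  have hui := inv_eq_of_mul_eq_one_right huu
  set F := (a : Subgroup G) ⊓ centralizer ({u} : Set G) with hF
  have huy : u * y * u⁻¹ ∈ (a : Subgroup G) := (mem_normalizer_iff.mp (hH hu) y).mp hy
  set w := y * (u * y * u⁻¹) with hw
  have hwF : w ∈ F := by
    refine ⟨mul_mem hy huy, mem_centralizer_singleton_iff.mpr ?_⟩
    rw [hw]
    calc y * (u * y * u⁻¹) * u = u * y * u⁻¹ * y * u := by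
          rw [(comm_of_card_nine hA hy huy).eq]
      _ = u * (y * (u * y * u⁻¹)) := by rw [hui]; group
  have hw1 : w ≠ 1 := fun h => hne (eq_inv_of_mul_eq_one_right h)
  have hF3 : Nat.card F ≤ 3 := by
    have hd : Nat.card F ∣ 3 ^ 2 := by
      rw [show (3 : ℕ) ^ 2 = 9 by norm_num]; exact hA ▸ card_dvd_of_le inf_le_left
    obtain ⟨j, hj, hFc⟩ := (Nat.dvd_prime_pow (by norm_num)).mp hd
    interval_cases j
    · omega
    · omega
    · exfalso
      have hFS : F = (a : Subgroup G) :=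
        eq_of_le_of_card_ge inf_le_left (by rw [hA, hFc]; norm_num)
      exact not_centralizes_nine hG hA hu2 fun b hb =>
        (mem_centralizer_singleton_iff.mp (hFS.symm ▸ hb : b ∈ F).2).symm
  let φ : H → F := fun g => ⟨(g : G) * w * (g : G)⁻¹,
    (mem_normalizer_iff.mp (hH g.2) w).mp hwF.1, by
      show (g : G) * w * (g : G)⁻¹ ∈ centralizer ({u} : Set G)
      rw [mem_centralizer_singleton_iff]
      have h1 : Commute u w := (mem_centralizer_singleton_iff.mp hwF.2).symm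
      exact (((hc g g.2).mul_right h1).mul_right (hc g g.2).inv_right).eq.symm⟩
  have := Fintype.ofFinite H
  have := Fintype.ofFinite F
  have hfib : ∀ v ∈ (Finset.univ : Finset H).image φ,
      ((Finset.univ : Finset H).filter fun g => φ g = v).card ≤ 2 := by
    intro v hv
    obtain ⟨g₀, -, rfl⟩ := Finset.mem_image.mp hv
    set Cw := H ⊓ centralizer ({w} : Set G)
    have hCw : Nat.card Cw ≤ 2 := by
      have h1 : Nat.card Cw ∣ 2 ^ n := hn ▸ card_dvd_of_le inf_le_left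
      have h2 : Nat.card Cw ∣ 18 :=
        (transitive_three hG a hwF.1 hw1).1 ▸ card_dvd_of_le inf_le_right
      obtain ⟨j, hj, hc2⟩ := (Nat.dvd_prime_pow Nat.prime_two).mp h1
      rw [hc2] at h2 ⊢
      rcases le_or_gt j 1 with h | h
      · calc 2 ^ j ≤ 2 ^ 1 := Nat.pow_le_pow_right (by norm_num) h
          _ = 2 := by norm_num
      · exfalso
        have h4 : 2 ^ 2 ∣ 18 := (pow_dvd_pow 2 h).trans h2
        norm_num at h4
    refine le_trans ?_ hCw
    rw [← Nat.card_eq_finsetCard]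
    refine Nat.card_le_card_of_injective (fun g => ⟨(g₀ : G)⁻¹ * (g.1 : G),
      H.mul_mem (H.inv_mem g₀.2) g.1.2, ?_⟩) ?_
    · show (g₀ : G)⁻¹ * (g.1 : G) ∈ centralizer ({w} : Set G)
      rw [mem_centralizer_singleton_iff]
      have h := congrArg Subtype.val (Finset.mem_filter.mp g.2).2
      simp only [φ] at h
      calc (g₀ : G)⁻¹ * (g.1 : G) * w
          = (g₀ : G)⁻¹ * ((g.1 : G) * w * (g.1 : G)⁻¹) * (g.1 : G) := by group
        _ = (g₀ : G)⁻¹ * ((g₀ : G) * w * (g₀ : G)⁻¹) * (g.1 : G) := by rw [h]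
        _ = w * ((g₀ : G)⁻¹ * (g.1 : G)) := by group
    · intro g g' h
      exact Subtype.ext (Subtype.ext (mul_left_cancel (congrArg Subtype.val h)))
  have h := Finset.card_le_mul_card_image (Finset.univ : Finset H) _ hfib
  have hne1 : ((Finset.univ : Finset H).image φ) ⊆ Finset.univ.erase ⟨1, one_mem F⟩ := by
    intro v hv
    obtain ⟨g, -, rfl⟩ := Finset.mem_image.mp hv
    refine Finset.mem_erase.mpr ⟨fun e => hw1 ?_, Finset.mem_univ _⟩
    exact conj_eq_one_iff.mp (congrArg Subtype.val e)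
  have h2 := Finset.card_le_card hne1
  rw [Finset.card_erase_of_mem (Finset.mem_univ _), Finset.card_univ,
    ← Nat.card_eq_fintype_card] at h2
  rw [Finset.card_univ, ← Nat.card_eq_fintype_card, hn] at h
  have h8 : 2 ^ 3 ≤ 2 ^ n := Nat.pow_le_pow_right (by norm_num) h3
  omega

end Cfsg.Agent.Steiner.M11
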