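import Cfsg.Agent.Lib.Steiner.M11.Five
import Cfsg.Agent.Lib.SmallGroups.Counting

/-!
# A group of order 7920 with the element-order counts of M₁₁ is simple
-/

set_option autoImplicit false

namespace Cfsg.Agent.Steiner.M11

open Subgroup Cfsg.Agent.SmallGroups

variable {G : Type*} [Group G] [Finite G]

private theorem k_bound : ∀ d ∈ (7920 : ℕ).divisors, (∀ q ∈ [2, 3, 5], ¬ q ∣ d) → d ≤ 11 := by
  decide +kernel

/-- In M₁₁ a count of elements of given order `n ≠ 1` is at least 720 or divisible by 55. -/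
theorem count_ne [Fintype G] (hG : Cfsg.IsM11 G) {n : ℕ} (hn : n ≠ 1) :
    720 ≤ Nat.card {g : G // orderOf g = n} ∨ 55 ∣ Nat.card {g : G // orderOf g = n} := by
  classical
  have hcls : ∀ g : G, orderOf g = n → (5 ∣ n ∨ 11 ∣ n → 720 ≤ Nat.card {x : G // IsConj g x}) ∧
      (¬ (5 ∣ n ∨ 11 ∣ n) → 55 ∣ Nat.card {x : G // IsConj g x}) := by
    intro g hg
    have hmul := card_conj_mul_centralizer g
    rw [card_eq hG] at hmul
    have : Fact (Nat.Prime 5) := ⟨by norm_num⟩
    have : Fact (Nat.Prime 11) := ⟨by norm_num⟩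
    have key : ∀ q, Fact q.Prime → q ∣ Nat.card ↥(centralizer ({g} : Set G)) →
        ∃ y : G, orderOf y = q ∧ Commute y g := by
      intro q hq hd
      obtain ⟨y, hy⟩ := exists_prime_orderOf_dvd_card' q hd
      exact ⟨y, by rw [orderOf_coe, hy], (mem_centralizer_singleton_iff.mp y.2)⟩
    have g1 : g ≠ 1 := fun h => hn (by rw [← hg, h, orderOf_one])
    constructor
    · intro h
      have hc : Nat.card ↥(centralizer ({g} : Set G)) ≤ 11 := by
        rcases h with h | h
        · obtain ⟨y, hy⟩ := exists_prime_orderOf_dvd_card' (G := zpowers g) 5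
            (by rw [Nat.card_zpowers, hg]; exact h)
          obtain ⟨k, hk⟩ := y.2
          have hy5 : orderOf (y : G) = 5 := by rw [orderOf_coe, hy]
          have hc : Commute (y : G) g := hk ▸ (Commute.refl g).zpow_left k
          have := orderOf_eq_prime (pow_five_of_commute hG hy5 hc) g1
          rw [card_centralizer_five hG this]
          norm_num
        · obtain ⟨y, hy⟩ := exists_prime_orderOf_dvd_card' (G := zpowers g) 11
            (by rw [Nat.card_zpowers, hg]; exact h)
          obtain ⟨k, hk⟩ := y.2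
          have hy11 : orderOf (y : G) = 11 := by rw [orderOf_coe, hy]
          have hc : Commute (y : G) g := hk ▸ (Commute.refl g).zpow_left k
          have hg11 := orderOf_eq_prime (pow_eleven_of_commute hG hy11 hc) g1
          refine k_bound _ (Nat.mem_divisors.mpr ⟨⟨_, (mul_comm _ _).trans hmul |>.symm⟩,
            by norm_num⟩) fun q hq hd => ?_
          have hqp : Fact q.Prime := ⟨by fin_cases hq <;> norm_num⟩
          obtain ⟨z, hz, hzc⟩ := key q hqp hd
          have h11 := orderOf_dvd_of_pow_eq_one (pow_eleven_of_commute hG hg11 hzc.symm)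
          rw [hz] at h11
          fin_cases hq <;> norm_num at h11
      nlinarith
    · intro h
      have h5 : Nat.Coprime 55 (Nat.card ↥(centralizer ({g} : Set G))) := by
        rw [show (55 : ℕ) = 5 * 11 from rfl, Nat.coprime_mul_iff_left]
        constructor <;> refine (Nat.Prime.coprime_iff_not_dvd (by norm_num)).mpr fun hd => h ?_
        · obtain ⟨y, hy, hc⟩ := key 5 inferInstance hd
          left
          rw [← hg, orderOf_eq_prime (pow_five_of_commute hG hy hc) g1]
        · obtain ⟨y, hy, hc⟩ := key 11 inferInstance hd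
          right
          rw [← hg, orderOf_eq_prime (pow_eleven_of_commute hG hy hc) g1]
      exact h5.dvd_of_dvd_mul_right (hmul ▸ by norm_num)
  by_cases h : 5 ∣ n ∨ 11 ∣ n
  · by_cases h0 : ∃ g : G, orderOf g = n
    · obtain ⟨g, hg⟩ := h0
      refine .inl (((hcls g hg).1 h).trans ?_)
      refine Nat.card_le_card_of_injective (fun x => ⟨x.1, ?_⟩) fun a b e => ?_
      · obtain ⟨c, hc⟩ := isConj_iff.mp x.2
        rw [← hc, ← hg]
        exact orderOf_injective (MulAut.conj c).toMonoidHom (MulAut.conj c).injective g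
      · exact Subtype.ext (congrArg Subtype.val e :)
    · right
      push Not at h0
      have : IsEmpty {g : G // orderOf g = n} := ⟨fun x => h0 x.1 x.2⟩
      simp
  · right
    rw [Nat.card_eq_fintype_card, Fintype.card_subtype,
      Finset.card_eq_sum_card_image (fun x : G => ConjClasses.mk x)]
    refine Finset.dvd_sum fun c hc => ?_
    obtain ⟨g, hg, rfl⟩ := Finset.mem_image.mp hc
    have hg' := (Finset.mem_filter.mp hg).2
    refine ((hcls g hg').2 h).trans (dvd_of_eq ?_)
    rw [Nat.card_eq_fintype_card, Fintype.card_subtype, Finset.filter_filter]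
    congr 1
    ext x
    simp only [Finset.mem_filter, Finset.mem_univ, true_and, ConjClasses.mk_eq_mk_iff_isConj]
    refine ⟨fun hx => ⟨?_, hx.symm⟩, fun hx => hx.2.symm⟩
    obtain ⟨c, hc⟩ := isConj_iff.mp hx
    rw [← hc, ← hg']
    exact orderOf_injective (MulAut.conj c).toMonoidHom (MulAut.conj c).injective g

/-- An element of order 11 fixes no nontrivial `q`-Sylow subgroup, `q = 2, 3`. -/
theorem not_dvd_of_invariant (hcard : Nat.card G = 7920) {x : G} (hx : orderOf x = 11)
    {K : Subgroup G} (hxK : x ∈ normalizer (K : Set G)) (h11 : ¬ 11 ∣ Nat.card K)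
    (hfix : ∀ k ∈ K, Commute x k → orderOf k ∣ 55) {q : ℕ} (hq : q = 2 ∨ q = 3) :
    ¬ q ∣ Nat.card K := by
  classical
  intro hqd
  have : Fact q.Prime := ⟨by rcases hq with rfl | rfl <;> norm_num⟩
  have : Fact (Nat.Prime 11) := ⟨by norm_num⟩
  let ψ : MulAut K := K.normalizerMonoidHom ⟨x, hxK⟩
  have hψ : ψ ^ 11 = 1 := by
    rw [← map_pow, show (⟨x, hxK⟩ : normalizer (K : Set G)) ^ 11 = 1 from
      Subtype.ext (hx ▸ pow_orderOf_eq_one x), map_one]
  have hS : ¬ 11 ∣ Nat.card (Sylow q K) := fun h => h11 (h.trans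
    ((Sylow.card_dvd_index (default : Sylow q K)).trans (index_dvd_card _)))
  let σ : Equiv.Perm (Sylow q K) := MulAction.toPermHom (MulAut K) (Sylow q K) ψ
  have hσ : σ ^ 11 ^ 1 = 1 := by
    rw [pow_one, ← map_pow, hψ, map_one]
  have := Fintype.ofFinite (Sylow q K)
  rw [Nat.card_eq_fintype_card] at hS
  obtain ⟨S, hfixS⟩ := Equiv.Perm.exists_fixed_point_of_prime hS hσ
  have hmem : ∀ k : K, k ∈ (S : Subgroup K) → ψ k ∈ (S : Subgroup K) := by
    intro k hk
    have hh : ψ • S = S := hfixS
    rw [← hh]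
    exact Subgroup.smul_mem_pointwise_smul k ψ _ hk
  let τ : Function.End (S : Subgroup K) := fun k => ⟨ψ k.1, hmem k.1 k.2⟩
  have hτ : ∀ (j : ℕ) (k : (S : Subgroup K)), ((τ ^ j : Function.End _) k).1 = (ψ ^ j) k.1 := by
    intro j
    induction j with
    | zero => intro k; rfl
    | succ j ih =>
      intro k
      rw [pow_succ', pow_succ', MulAut.mul_apply, ← ih k]
      rfl
  have hτ11 : τ ^ 11 ^ 1 = 1 := by
    funext k
    apply Subtype.ext
    rw [pow_one, hτ, hψ]
    rfl
  have := Fintype.ofFinite (S : Subgroup K)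
  have := Fintype.ofFinite (Function.fixedPoints τ)
  have hmod := Equiv.Perm.card_fixedPoints_modEq (f := τ) hτ11
  obtain ⟨j, hj⟩ := S.isPGroup'.exists_card_eq
  have hone : Fintype.card (Function.fixedPoints τ) = 1 := by
    rw [Fintype.card_eq_one_iff]
    refine ⟨⟨1, Subtype.ext (map_one ψ)⟩, fun k => Subtype.ext (Subtype.ext (Subtype.ext ?_))⟩
    have h1 : x * ((k.1.1 : K) : G) * x⁻¹ = ((k.1.1 : K) : G) :=
      congrArg (fun z : (S : Subgroup K) => ((z.1 : K) : G)) k.2
    have hc := hfix _ k.1.1.2 (mul_inv_eq_iff_eq_mul.mp h1)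
    have hq' : orderOf ((k.1.1 : K) : G) ∣ q ^ j := by
      rw [orderOf_coe, orderOf_coe, ← hj]
      exact orderOf_dvd_natCard _
    have hco : Nat.Coprime (q ^ j) 55 := Nat.Coprime.pow_left _
      (by rcases hq with rfl | rfl <;> norm_num)
    exact orderOf_eq_one_iff.mp (Nat.eq_one_of_dvd_coprimes hco hq' hc)
  simp only [← Nat.card_eq_fintype_card] at hone hmod
  rw [hone, hj] at hmod
  have hj0 : j ≠ 0 := by
    rintro rfl
    rw [pow_zero] at hj
    exact S.ne_bot_of_dvd_card hqd (Subgroup.eq_bot_of_card_eq _ hj)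
  have hd : q ^ j ∣ 7920 := hj ▸ hcard ▸
    ((card_subgroup_dvd_card _).trans (card_subgroup_dvd_card K))
  have hlt : q ^ j ≤ 16 := by
    rcases hq with rfl | rfl
    · exact Nat.le_of_dvd (by norm_num) ((Nat.Coprime.pow_left j (by norm_num :
        Nat.Coprime 2 495)).dvd_of_dvd_mul_right (show 2 ^ j ∣ 16 * 495 by norm_num; exact hd))
    · exact (Nat.le_of_dvd (by norm_num) ((Nat.Coprime.pow_left j (by norm_num :
        Nat.Coprime 3 880)).dvd_of_dvd_mul_right (show 3 ^ j ∣ 9 * 880 by norm_num; exact hd))).trans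
        (by norm_num)
  have : j ≤ 4 := by
    by_contra hcon
    have := Nat.pow_le_pow_left (show 2 ≤ q by rcases hq with rfl | rfl <;> norm_num) j
    have := Nat.pow_le_pow_right (show 0 < 2 by norm_num) (show 5 ≤ j by omega)
    omega
  rcases hq with rfl | rfl <;> interval_cases j <;> simp [Nat.ModEq] at hmod hj0

private theorem k_small : ∀ d ∈ (720 : ℕ).divisors, ¬ 2 ∣ d → ¬ 3 ∣ d → d = 1 ∨ d = 5 := by
  decide +kernel

private theorem k_list : ∀ d ∈ (720 : ℕ).divisors, d % 11 = 1 → d ∈ [1, 12, 45, 144] := by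
  decide +kernel

/-- Simplicity from the counts. -/
theorem isM11_of_counts (hcard : Nat.card G = 7920)
    (h : ∀ n, n ≠ 1 → 0 < Nat.card {g : G // orderOf g = n} →
      Nat.card {g : G // orderOf g = n} = 1 ∨ 720 ≤ Nat.card {g : G // orderOf g = n} ∨
        55 ∣ Nat.card {g : G // orderOf g = n}) : Cfsg.IsM11 G := by
  classical
  have : Fact (Nat.Prime 5) := ⟨by norm_num⟩
  have : Fact (Nat.Prime 11) := ⟨by norm_num⟩
  have hP11 : ∀ P : Sylow 11 G, Nat.card ↥(P : Subgroup G) = 11 := fun P => by
    simpa using card_sylow_eq (p := 11) (a := 1) (m := 720) (by rw [hcard]; norm_num)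
      (by norm_num) P
  obtain ⟨hdvd, hmod⟩ := card_sylow_mem (p := 11) (a := 1) (m := 720) (G := G)
    (by rw [hcard]; norm_num) (by norm_num)
  have hn11 : Nat.card (Sylow 11 G) = 144 := by
    have hl := k_list _ (Nat.mem_divisors.mpr ⟨hdvd, by norm_num⟩) hmod
    have hc := h 11 (by norm_num)
    rw [card_orderOf_eq hP11] at hc
    simp only [List.mem_cons, List.not_mem_nil, or_false] at hl
    rcases hl with e | e | e | e <;> rw [e] at hc <;> norm_num at hc <;> omega
  have hN55 : ∀ P : Sylow 11 G, Nat.card ↥(normalizer ((P : Subgroup G) : Set G)) = 55 :=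
    fun P => normalizer_conj_eq_card P hn11 (by rw [hcard])
  have hcomm : ∀ {x k : G}, orderOf x = 11 → Commute x k → orderOf k ∣ 55 := by
    intro x k hx hk
    obtain ⟨P, hP⟩ := exists_mem_sylow hx
    have hz := zpowers_eq_of_card_prime (hP11 P) hP
      (fun e => by rw [e, orderOf_one] at hx; norm_num at hx)
    rw [← hN55 P]
    refine Subgroup.orderOf_dvd_natCard _ ?_
    refine centralizer_le_normalizer _ ?_
    rw [← hz, mem_centralizer_iff]
    rintro w ⟨m, rfl⟩
    exact (hk.zpow_left m).eq
  have : Nontrivial G := Finite.one_lt_card_iff_nontrivial.mp (by rw [hcard]; norm_num)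
  refine ⟨⟨fun N hN => ?_⟩, hcard⟩
  by_cases h11 : 11 ∣ Nat.card N
  · right
    obtain ⟨x, hx⟩ := exists_prime_orderOf_dvd_card' 11 h11
    have hxG : orderOf (x : G) = 11 := by rw [orderOf_coe, hx]
    obtain ⟨P, hP⟩ := exists_mem_sylow hxG
    have hz := zpowers_eq_of_card_prime (hP11 P) hP
      (fun e => by rw [e, orderOf_one] at hxG; norm_num at hxG)
    have hPN : (P : Subgroup G) ≤ N := hz ▸ zpowers_le.mpr x.2
    let P' : Sylow 11 N := P.subtype hPN
    have htop := Sylow.normalizer_sup_eq_top P'
    set NP := normalizer ((P : Subgroup G) : Set G) with hNP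
    have hmap : (P' : Subgroup N).map N.subtype = P := by
      rw [Sylow.coe_subtype, subgroupOf_map_subtype, inf_eq_left.mpr hPN]
    rw [hmap] at htop
    have hidx : N.index = N.relIndex NP := by
      rw [← relIndex_top_right, ← htop, relIndex_sup_right]
    have hmul : Nat.card ↥(N ⊓ NP : Subgroup G) * N.relIndex NP = 55 := by
      rw [← hN55 P, ← inf_relIndex_right N NP, ← relIndex_bot_left, ← relIndex_bot_left,
        relIndex_mul_relIndex _ _ _ bot_le inf_le_right]
    have hd11 : 11 ∣ Nat.card ↥(N ⊓ NP : Subgroup G) :=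
      hP11 P ▸ card_dvd_of_le (le_inf hPN le_normalizer)
    have hNmul := card_mul_index N
    rw [hidx, hcard] at hNmul
    obtain ⟨e, he⟩ := hd11
    rw [he] at hmul
    have h5 : e * N.relIndex NP = 5 := by nlinarith
    rcases (Nat.dvd_prime (by norm_num : Nat.Prime 5)).mp ⟨e, by rw [mul_comm]; exact h5.symm⟩
      with hr | hr
    · rw [hr, mul_one] at hNmul
      exact (card_eq_iff_eq_top N).mp (hNmul.trans hcard.symm)
    exfalso
    have he1 : e = 1 := by rw [hr] at h5; omega
    rw [he1, mul_one] at he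
    have hN1584 : Nat.card N = 1584 := by rw [hr] at hNmul; omega
    have hinf : N ⊓ NP = (P : Subgroup G) :=
      (eq_of_le_of_card_ge (le_inf hPN le_normalizer) (by rw [he, hP11 P])).symm
    have hc : normalizer ((P' : Subgroup N) : Set N) ≤ centralizer ((P' : Subgroup N) : Set N) := by
      intro y hy
      have hyP : (y : G) ∈ (P : Subgroup G) := by
        rw [← hinf]
        refine ⟨y.2, ?_⟩
        rw [hNP, ← hmap]
        refine le_normalizer_map (N.subtype) ?_
        exact ⟨y, hy, rfl⟩
      rw [mem_centralizer_iff]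
      intro z hz'
      have hzP : (z : G) ∈ (P : Subgroup G) := by rw [← hmap]; exact ⟨z, hz', rfl⟩
      rw [← hz] at hyP hzP
      obtain ⟨a, ha⟩ := hyP
      obtain ⟨b, hb⟩ := hzP
      apply Subtype.ext
      simp only [Subgroup.coe_mul, ← ha, ← hb, ← zpow_add, add_comm]
    have hcompl := MonoidHom.ker_transferSylow_isComplement' P' hc
    have hk := hcompl.card_mul
    rw [hN1584, ← card_map_of_injective (f := N.subtype) N.subtype_injective (K := (P' : Subgroup N)), hmap,
      hP11 P] at hk
    set K0 := (MonoidHom.transferSylow P' hc).ker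
    have hK : Nat.card (K0.map N.subtype) = 144 := by
      rw [card_map_of_injective N.subtype_injective]
      omega
    have hxK : (x : G) ∈ normalizer ((K0.map N.subtype : Subgroup G) : Set G) := by
      refine le_normalizer_map (N.subtype) ⟨x, ?_, rfl⟩
      rw [normalizer_eq_top]
      exact mem_top _
    exact not_dvd_of_invariant hcard hxG hxK (by rw [hK]; norm_num)
      (fun k _ hk => hcomm hxG hk) (Or.inl rfl) (by rw [hK]; norm_num)
  · left
    have hd720 : Nat.card N ∣ 720 :=
      ((Nat.Prime.coprime_iff_not_dvd (by norm_num)).mpr h11).symm.dvd_of_dvd_mul_right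
        (show Nat.card N ∣ 720 * 11 by norm_num; exact hcard ▸ card_subgroup_dvd_card N)
    obtain ⟨P⟩ := (inferInstance : Nonempty (Sylow 11 G))
    obtain ⟨x, hx⟩ := exists_prime_orderOf_dvd_card' (G := (P : Subgroup G)) 11 (by rw [hP11 P])
    have hxG : orderOf (x : G) = 11 := by rw [orderOf_coe, hx]
    have hxK : (x : G) ∈ normalizer (N : Set G) := by rw [normalizer_eq_top]; exact mem_top _
    have hnd := fun q hq => not_dvd_of_invariant hcard hxG hxK h11
      (fun k _ hk => hcomm hxG hk) (q := q) hq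
    rcases k_small _ (Nat.mem_divisors.mpr ⟨hd720, by norm_num⟩) (hnd 2 (Or.inl rfl))
      (hnd 3 (Or.inr rfl)) with e | e
    · exact eq_bot_of_card_eq N e
    · exfalso
      have hiff : ∀ g : G, orderOf g = 5 ↔ g ∈ N ∧ g ≠ 1 := by
        intro g
        refine ⟨fun hg => ⟨?_, fun e' => by rw [e', orderOf_one] at hg; norm_num at hg⟩,
          fun hg => orderOf_of_card_prime e hg.1 hg.2⟩
        by_contra hgN
        have h2 : orderOf (QuotientGroup.mk' N g) ∣ 5 := hg ▸ orderOf_map_dvd _ g
        rcases (Nat.dvd_prime (by norm_num : Nat.Prime 5)).mp h2 with h3 | h3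
        · exact hgN ((QuotientGroup.eq_one_iff g).mp (orderOf_eq_one_iff.mp h3))
        · have h4 := orderOf_dvd_natCard (QuotientGroup.mk' N g)
          have h5 := card_eq_card_quotient_mul_card_subgroup N
          rw [hcard, e] at h5
          rw [h3, show Nat.card (G ⧸ N) = 1584 by omega] at h4
          norm_num at h4
      have hc := h 5 (by norm_num)
      have h4 : Nat.card {g : G // orderOf g = 5} = 4 := by
        rw [Nat.card_congr (Equiv.subtypeEquivRight hiff),
          Nat.card_congr (Equiv.subtypeSubtypeEquivSubtypeInter (· ∈ N) (· ≠ 1)).symm]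
        have := Fintype.ofFinite N
        have h5 : Fintype.card N = 5 := by rw [← Nat.card_eq_fintype_card]; exact e
        rw [Nat.card_congr (Equiv.subtypeEquivRight (q := fun y : N => ¬ y = 1)
          fun y => by simp), Nat.card_eq_fintype_card, Fintype.card_subtype_compl, h5,
          Fintype.card_subtype_eq]
      rw [h4] at hc
      norm_num at hc

end Cfsg.Agent.Steiner.M11
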