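import Cfsg.Prelude.Def_Sporadic
import Cfsg.Agent.Lib.SmallGroups.Orbits
import Cfsg.Agent.Lib.SmallGroups.Counting
import Cfsg.Agent.Classification.SimpleOrderTools

/-!
# A simple group of order 7920: the Sylow subgroups of order 11
-/

set_option autoImplicit false

namespace Cfsg.Agent.Steiner.M11

open Subgroup Cfsg.Agent.SmallGroups

variable {G : Type*} [Group G] [Finite G]

theorem card_eq (hG : Cfsg.IsM11 G) : Nat.card G = 7920 := hG.2

theorem not_comm (hG : Cfsg.IsM11 G) : ¬ IsMulCommutative G := by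
  have := hG.1
  refine not_comm_of_not_prime ?_
  rw [card_eq hG]
  norm_num

theorem card_sylow11 (hG : Cfsg.IsM11 G) [Fact (Nat.Prime 11)] (P : Sylow 11 G) :
    Nat.card ↥(P : Subgroup G) = 11 := by
  simpa using card_sylow_eq (p := 11) (a := 1) (m := 720) (by rw [card_eq hG]; norm_num)
    (by norm_num) P

/-- `|C(H)| * |N(H) : C(H)| = |N(H)|`. -/
theorem card_centralizer_mul_relIndex' (H : Subgroup G) :
    Nat.card ↥(centralizer (H : Set G)) *
        (centralizer (H : Set G)).relIndex (normalizer (H : Set G)) =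
      Nat.card ↥(normalizer (H : Set G)) := by
  rw [← ((centralizer (H : Set G)).subgroupOf (normalizer (H : Set G))).card_mul_index,
    Nat.card_congr (subgroupOfEquivOfLe (centralizer_le_normalizer _)).toEquiv]
  rfl

private theorem dvd_list720 : ∀ d ∈ (720 : ℕ).divisors, d % 11 = 1 → d ∈ [1, 12, 45, 144] := by
  decide +kernel

/-- There are 144 Sylow 11-subgroups, self-centralising with normaliser of order 55. -/
theorem eleven (hG : Cfsg.IsM11 G) [Fact (Nat.Prime 11)] (P : Sylow 11 G) :
    Nat.card (Sylow 11 G) = 144 ∧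
      Nat.card ↥(normalizer ((P : Subgroup G) : Set G)) = 55 ∧
      centralizer ((P : Subgroup G) : Set G) = (P : Subgroup G) := by
  have := hG.1
  have hnc := not_comm hG
  have hP := card_sylow11 hG P
  obtain ⟨hd, hm⟩ := card_sylow_mem (p := 11) (a := 1) (m := 720) (G := G)
    (by rw [card_eq hG]; norm_num) (by norm_num)
  have hne := card_sylow_ne_one hnc (p := 11) (by rw [card_eq hG]; norm_num)
  have hlist := dvd_list720 _ (Nat.mem_divisors.mpr ⟨hd, by norm_num⟩) hm
  have hN := card_normalizer_mul P
  have hrel := relIndex_centralizer_dvd_of_prime (P : Subgroup G) hP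
  have hmul := card_centralizer_mul_relIndex' (P : Subgroup G)
  have hBurn : (centralizer ((P : Subgroup G) : Set G)).relIndex
      (normalizer ((P : Subgroup G) : Set G)) ≠ 1 := fun h =>
    not_normalizer_le_centralizer hnc (by rw [card_eq hG]; norm_num) P (relIndex_eq_one.mp h)
  rw [card_eq hG] at hN
  have hrel' := (Nat.mem_divisors.mpr ⟨hrel, by norm_num⟩ : _ ∈ (10 : ℕ).divisors)
  rw [show (10 : ℕ).divisors = {1, 2, 5, 10} by decide] at hrel'
  simp only [Finset.mem_insert, Finset.mem_singleton] at hrel'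
  have hCle : (P : Subgroup G) ≤ centralizer ((P : Subgroup G) : Set G) := by
    have : IsCyclic ↥(P : Subgroup G) := isCyclic_of_prime_card hP
    exact le_centralizer _
  simp only [List.mem_cons, List.not_mem_nil, or_false] at hlist
  rcases hlist with h | h | h | h
  · exact absurd h hne
  · exfalso
    have hdvd := card_centralizer_dvd hnc P hP (by norm_num) (n := 1) (by rw [h])
    rw [show Nat.card (alternatingGroup (Fin 1)) = 1 by
      rw [Nat.card_eq_fintype_card]; decide +kernel, mul_one] at hdvd
    have hCb := Nat.le_of_dvd (by norm_num) hdvd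
    rw [h] at hN
    rcases hrel' with r | r | r | r <;> rw [r] at hmul <;> omega
  · exfalso
    have hdvd := card_centralizer_dvd hnc P hP (by norm_num) (n := 4) (by rw [h])
    rw [show Nat.card (alternatingGroup (Fin 4)) = 12 by
      rw [Nat.card_eq_fintype_card]; decide +kernel] at hdvd
    rw [h] at hN
    rcases hrel' with r | r | r | r <;> rw [r] at hmul <;> try omega
    have hC : Nat.card ↥(centralizer ((P : Subgroup G) : Set G)) = 88 := by omega
    rw [hC] at hdvd
    norm_num at hdvd
  · rw [h] at hN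
    have hN' : Nat.card ↥(normalizer ((P : Subgroup G) : Set G)) = 55 := by omega
    refine ⟨h, hN', ?_⟩
    rcases hrel' with r | r | r | r <;> rw [r] at hmul <;> try omega
    refine (eq_of_le_of_card_ge hCle ?_).symm
    omega

/-- An element commuting with an element of order 11 has 11th power 1. -/
theorem pow_eleven_of_commute (hG : Cfsg.IsM11 G) {z y : G} (hz : orderOf z = 11)
    (hzy : Commute z y) : y ^ 11 = 1 := by
  have : Fact (Nat.Prime 11) := ⟨by norm_num⟩
  obtain ⟨P, hP⟩ := exists_mem_sylow hz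
  obtain ⟨-, -, hC⟩ := eleven hG P
  have hz1 : z ≠ 1 := fun h => by rw [h, orderOf_one] at hz; norm_num at hz
  have hzp := zpowers_eq_of_card_prime (card_sylow11 hG P) hP hz1
  have hy : y ∈ (P : Subgroup G) := by
    rw [← hC, ← hzp, mem_centralizer_iff]
    rintro w ⟨k, rfl⟩
    exact (hzy.zpow_left k).eq
  rw [← orderOf_dvd_iff_pow_eq_one]
  exact card_sylow11 hG P ▸ orderOf_dvd_natCard _ hy

/-- An element of order 5 or 11 normalising a subgroup of order 9 centralises it. -/
theorem commute_of_normalizes {S : Subgroup G} (hS : Nat.card S = 9) {q : ℕ} [Fact q.Prime]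
    (hq : q = 5 ∨ q = 11) {g : G} (hg : g ^ q = 1) (hn : g ∈ normalizer (S : Set G)) :
    ∀ y ∈ S, Commute g y := by
  let φ := S.normalizerMonoidHom
  let σ : Equiv.Perm S := (φ ⟨g, hn⟩ : MulAut S).toEquiv
  have hσ : σ ^ q = 1 := by
    have h1 : ((⟨g, hn⟩ : normalizer (S : Set G))) ^ q = 1 := Subtype.ext hg
    have h2 : MulAut.toPerm _ (φ ⟨g, hn⟩) ^ q = 1 := by rw [← map_pow, ← map_pow, h1]; simp
    exact h2
  have hfix : {b : S // σ b = b} ≃ ↥(S ⊓ centralizer ({g} : Set G)) :=
    { toFun := fun b => ⟨b.1.1, b.1.2, by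
        have h := congrArg Subtype.val b.2
        show b.1.1 ∈ centralizer ({g} : Set G)
        rw [mem_centralizer_singleton_iff]
        exact (mul_inv_eq_iff_eq_mul.mp h).symm⟩
      invFun := fun b => ⟨⟨b.1, b.2.1⟩, Subtype.ext (mul_inv_eq_iff_eq_mul.mpr
        (mem_centralizer_singleton_iff.mp b.2.2).symm)⟩
      left_inv := fun _ => rfl
      right_inv := fun _ => rfl }
  have hmod := Classification.card_modEq_fixed hσ
  rw [hS, Nat.card_congr hfix] at hmod
  have hd : Nat.card ↥(S ⊓ centralizer ({g} : Set G)) ∣ 3 ^ 2 := by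
    norm_num
    exact hS ▸ card_dvd_of_le inf_le_left
  obtain ⟨j, hj, hcard⟩ := (Nat.dvd_prime_pow (by norm_num)).mp hd
  rw [hcard] at hmod
  have h9 : j = 2 := by
    rcases hq with rfl | rfl <;> interval_cases j <;> norm_num [Nat.ModEq] at hmod <;> rfl
  rw [h9] at hcard
  have heq := eq_of_le_of_card_ge (inf_le_left : S ⊓ centralizer ({g} : Set G) ≤ S)
    (by rw [hS, hcard]; norm_num)
  intro y hy
  rw [← heq] at hy
  exact (mem_centralizer_singleton_iff.mp hy.2).symm

end Cfsg.Agent.Steiner.M11
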