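import Cfsg.Agent.Lib.Steiner.M11.Five
import Cfsg.Agent.Lib.Involution.IndexTwo

/-!
# A simple group of order 7920: the Sylow 3-subgroups and the involution centralisers
-/

set_option autoImplicit false

namespace Cfsg.Agent.Steiner.M11

open Subgroup Cfsg.Agent.SmallGroups
open Cfsg.Agent.SmallGroups.SelfCent.Setup (deg deg_spec triv deg_triv)

variable {G : Type*} [Group G] [Fintype G]

theorem card_sylow3 (hG : Cfsg.IsM11 G) [Fact (Nat.Prime 3)] (P : Sylow 3 G) :
    Nat.card ↥(P : Subgroup G) = 9 := by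
  simpa using card_sylow_eq (p := 3) (a := 2) (m := 880) (by rw [card_eq hG]; norm_num)
    (by norm_num) P

theorem comm_of_card_nine {S : Subgroup G} (hS : Nat.card S = 9) {a b : G} (ha : a ∈ S)
    (hb : b ∈ S) : Commute a b := by
  have : Fact (Nat.Prime 3) := ⟨by norm_num⟩
  exact congrArg Subtype.val (IsPGroup.commutative_of_card_eq_prime_sq
    (show Nat.card S = 3 ^ 2 by rw [hS]; norm_num) (⟨a, ha⟩ : S) ⟨b, hb⟩)

/-- No element of order 5 or 11 commutes with an element of order 3. -/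
theorem not_commute_three (hG : Cfsg.IsM11 G) {q : ℕ} (hq : q = 5 ∨ q = 11) {g y : G}
    (hg : orderOf g = q) (hy : orderOf y = 3) : ¬ Commute g y := by
  intro h
  rcases hq with rfl | rfl
  · have := orderOf_dvd_of_pow_eq_one (pow_five_of_commute hG hg h)
    rw [hy] at this
    norm_num at this
  · have := orderOf_dvd_of_pow_eq_one (pow_eleven_of_commute hG hg h)
    rw [hy] at this
    norm_num at this

/-- An involution does not centralise a subgroup of order 9. -/
theorem not_centralizes_nine (hG : Cfsg.IsM11 G) {S : Subgroup G} (hS : Nat.card S = 9) {u : G}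
    (hu : orderOf u = 2) : ¬ ∀ y ∈ S, Commute u y := by
  intro hc
  classical
  have : Fact (Nat.Prime 3) := ⟨by norm_num⟩
  obtain ⟨γ, hd, hval, -⟩ := caseC hG
  have hu1 : u ≠ 1 := fun h => by rw [h, orderOf_one] at hu; norm_num at hu
  let f : S × zpowers u →* G :=
    S.subtype.noncommCoprod (zpowers u).subtype (fun a b => by
      obtain ⟨n, hn⟩ := mem_zpowers_iff.mp b.2
      show Commute (a : G) (b : G)
      rw [← hn]
      exact (hc a a.2).symm.zpow_right n)
  have hf : ∀ x, f x = (x.1 : G) * (x.2 : G) := fun x => rfl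
  have hinj : Function.Injective f := by
    rw [← MonoidHom.ker_eq_bot_iff, eq_bot_iff]
    rintro ⟨a, b⟩ hab
    rw [MonoidHom.mem_ker, hf] at hab
    have hab' : (a : G) = (b : G)⁻¹ := eq_inv_of_mul_eq_one_left hab
    have h9 : orderOf (a : G) ∣ 9 := hS ▸ Subgroup.orderOf_dvd_natCard S a.2
    have h2 : orderOf (a : G) ∣ 2 := by
      rw [hab', orderOf_inv]
      have := Subgroup.orderOf_dvd_natCard (zpowers u) b.2
      rwa [Nat.card_zpowers, hu] at this
    have ha1 : (a : G) = 1 := orderOf_eq_one_iff.mp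
      (Nat.eq_one_of_dvd_coprimes (by norm_num : Nat.Coprime 9 2) h9 h2)
    rw [ha1, one_mul] at hab
    exact mem_bot.mpr (Prod.ext (Subtype.ext ha1) (Subtype.ext hab))
  have hcard : Nat.card f.range = 18 := by
    rw [← Nat.card_congr (MonoidHom.ofInjective hinj).toEquiv, Nat.card_prod, hS,
      Nat.card_zpowers, hu]
  have h := card_dvd_of_vanish γ f.range (u := u)
    ⟨(1, ⟨u, mem_zpowers u⟩), by rw [hf]; simp⟩ hu1 ?_ (hval u hu)
  · rw [hcard, hd] at h
    norm_num at h
  rintro _ ⟨⟨a, b⟩, rfl⟩ h1 hu'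
  rw [hf] at h1 hu' ⊢
  refine CharInd.char_eq_zero_of_defect_zero γ.2 3 2 5 (r := 880)
    (by rw [card_eq hG]; norm_num) (by norm_num)
    (by rw [(deg_spec γ).2.2, hd]; norm_num) _ ?_
  have hb : (b : G) = 1 ∨ (b : G) = u := by
    obtain ⟨n, hn⟩ := ((isOfFinOrder_of_finite u).mem_powers_iff_mem_zpowers).mpr b.2
    simp only at hn
    rw [← hn, ← pow_mod_orderOf, hu]
    rcases Nat.mod_two_eq_zero_or_one n with h | h <;> rw [h] <;> simp
  have ha1 : (a : G) ≠ 1 := by
    intro ha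
    rw [ha, one_mul] at h1 hu'
    exact hb.elim h1 hu'
  have hb2 : (b : G) ^ 2 = 1 := by
    rcases hb with h | h <;> rw [h]
    · simp
    · rw [← hu, pow_orderOf_eq_one]
  have hcomm : Commute (a : G) (b : G) := by
    rcases hb with h | h <;> rw [h]
    · exact Commute.one_right _
    · exact (hc a a.2).symm
  have h9 : orderOf ((a : G) ^ 2) ∣ 3 ^ 2 := by
    norm_num
    exact hS ▸ Subgroup.orderOf_dvd_natCard S (pow_mem a.2 2)
  have hne : orderOf ((a : G) ^ 2) ≠ 1 := by
    rw [Ne, orderOf_eq_one_iff]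
    intro h2
    apply ha1
    exact orderOf_eq_one_iff.mp (Nat.eq_one_of_dvd_coprimes (by norm_num : Nat.Coprime 9 2)
      (hS ▸ Subgroup.orderOf_dvd_natCard S a.2) (orderOf_dvd_of_pow_eq_one h2))
  obtain ⟨j, -, hj⟩ := (Nat.dvd_prime_pow (by norm_num)).mp h9
  have hj0 : j ≠ 0 := fun h => hne (by rw [hj, h, pow_zero])
  have heq : ((a : G) * (b : G)) ^ 2 = (a : G) ^ 2 := by rw [hcomm.mul_pow, hb2, mul_one]
  exact ((hj ▸ dvd_pow_self 3 hj0 : 3 ∣ orderOf ((a : G) ^ 2))).trans
    (heq ▸ orderOf_pow_dvd 2)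

theorem centralizer_eq (hG : Cfsg.IsM11 G) [Fact (Nat.Prime 3)] (P : Sylow 3 G) :
    centralizer ((P : Subgroup G) : Set G) = (P : Subgroup G) := by
  have hP := card_sylow3 hG P
  set S := (P : Subgroup G) with hSdef
  have hle : S ≤ centralizer (S : Set G) := fun a ha =>
    mem_centralizer_iff.mpr fun b hb => (comm_of_card_nine hP hb ha).eq
  refine (eq_of_le_of_card_ge hle ?_).symm
  obtain ⟨k, hk⟩ : 9 ∣ Nat.card ↥(centralizer (S : Set G)) := hP ▸ card_dvd_of_le hle
  have hdvd : k ∣ 880 := by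
    have h := card_subgroup_dvd_card (centralizer (S : Set G))
    rw [hk, card_eq hG, show (7920 : ℕ) = 9 * 880 by norm_num] at h
    exact Nat.dvd_of_mul_dvd_mul_left (by norm_num) h
  obtain ⟨⟨y, hy⟩, hyo⟩ := exists_prime_orderOf_dvd_card' (G := S) 3 (by rw [hP]; norm_num)
  rw [orderOf_mk] at hyo
  have hq : ∀ q, q.Prime → q ∣ k → False := by
    intro q hqp hqk
    have h880 : q ∣ 880 := hqk.trans hdvd
    have hq' : q = 2 ∨ q = 5 ∨ q = 11 := by
      have hm : q ∈ (880 : ℕ).divisors := Nat.mem_divisors.mpr ⟨h880, by norm_num⟩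
      have key : ∀ d ∈ (880 : ℕ).divisors, d.Prime → d = 2 ∨ d = 5 ∨ d = 11 := by
        decide +kernel
      exact key q hm hqp
    have : Fact q.Prime := ⟨hqp⟩
    obtain ⟨⟨g, hg⟩, hgo⟩ := exists_prime_orderOf_dvd_card' (G := ↥(centralizer (S : Set G))) q
      (hk ▸ hqk.mul_left 9)
    rw [orderOf_mk] at hgo
    have hcomm : ∀ b ∈ S, Commute g b := fun b hb => (mem_centralizer_iff.mp hg b hb).symm
    rcases hq' with h | h | h
    · exact not_centralizes_nine hG hP (hgo.trans h) hcomm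
    · exact not_commute_three hG (Or.inl h) hgo hyo (hcomm y hy)
    · exact not_commute_three hG (Or.inr h) hgo hyo (hcomm y hy)
  have hk1 : k = 1 := by
    by_contra hk1
    exact hq _ (Nat.minFac_prime hk1) (Nat.minFac_dvd k)
  rw [hP, hk, hk1]

private theorem dvd_list880 : ∀ d ∈ (880 : ℕ).divisors, d % 3 = 1 →
    d ∈ [1, 4, 10, 16, 22, 40, 55, 88, 220, 880] := by
  decide +kernel

theorem card_normalizer_cases (hG : Cfsg.IsM11 G) [Fact (Nat.Prime 3)] (P : Sylow 3 G) :
    Nat.card ↥(normalizer ((P : Subgroup G) : Set G)) = 144 ∧ Nat.card (Sylow 3 G) = 55 ∨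
      Nat.card ↥(normalizer ((P : Subgroup G) : Set G)) = 36 ∧ Nat.card (Sylow 3 G) = 220 := by
  have := hG.1
  have hnc := not_comm hG
  have hP := card_sylow3 hG P
  have hG3 : Nat.card G = 3 ^ 2 * 880 := by rw [card_eq hG]; norm_num
  obtain ⟨hd, hm⟩ := card_sylow_mem hG3 (by norm_num)
  have hlist := dvd_list880 _ (Nat.mem_divisors.mpr ⟨hd, by norm_num⟩) hm
  have hN := card_normalizer_mul P
  rw [card_eq hG] at hN
  have hsyl := two_mul_card_dvd_sylow hnc (p := 3) (by rw [card_eq hG]; norm_num)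
  rw [card_eq hG] at hsyl
  obtain ⟨⟨y, hy⟩, hyo⟩ := exists_prime_orderOf_dvd_card' (G := ↥(P : Subgroup G)) 3
    (by rw [hP]; norm_num)
  rw [orderOf_mk] at hyo
  have hno : ∀ q, q = 5 ∨ q = 11 → ¬ q ∣ Nat.card ↥(normalizer ((P : Subgroup G) : Set G)) := by
    intro q hq hdvd
    have : Fact q.Prime := ⟨by rcases hq with rfl | rfl <;> norm_num⟩
    obtain ⟨⟨g, hg⟩, hgo⟩ := exists_prime_orderOf_dvd_card'
      (G := ↥(normalizer ((P : Subgroup G) : Set G))) q hdvd
    rw [orderOf_mk] at hgo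
    exact not_commute_three hG hq hgo hyo
      (commute_of_normalizes hP hq (hgo ▸ pow_orderOf_eq_one g) hg y hy)
  have h9 : Nat.card ↥(normalizer ((P : Subgroup G) : Set G)) ≠ 9 := by
    intro h
    refine not_normalizer_le_centralizer hnc (by rw [card_eq hG]; norm_num) P ?_
    rw [centralizer_eq hG P]
    exact (eq_of_le_of_card_ge le_normalizer (by rw [h, hP])).ge
  simp only [List.mem_cons, List.not_mem_nil, or_false] at hlist
  rcases hlist with h | h | h | h | h | h | h | h | h | h <;> rw [h] at hN hsyl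
  · exact absurd h (card_sylow_ne_one hnc (by rw [card_eq hG]; norm_num))
  · norm_num [Nat.factorial] at hsyl
  · norm_num [Nat.factorial] at hsyl
  · exact absurd ⟨45, by omega⟩ (hno 11 (Or.inr rfl))
  · exact absurd ⟨72, by omega⟩ (hno 5 (Or.inl rfl))
  · exact absurd ⟨18, by omega⟩ (hno 11 (Or.inr rfl))
  · exact Or.inl ⟨by omega, h⟩
  · exact absurd ⟨18, by omega⟩ (hno 5 (Or.inl rfl))
  · exact Or.inr ⟨by omega, h⟩
  · exact absurd (by omega) h9

/-- Some element of the normaliser inverts a Sylow 3-subgroup. -/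
theorem exists_inverter (hG : Cfsg.IsM11 G) [Fact (Nat.Prime 3)] (P : Sylow 3 G) :
    ∃ g ∈ normalizer ((P : Subgroup G) : Set G),
      ∀ y ∈ (P : Subgroup G), g * y * g⁻¹ = y⁻¹ := by
  classical
  have : Fact (Nat.Prime 2) := ⟨Nat.prime_two⟩
  have hP := card_sylow3 hG P
  have hCS := centralizer_eq hG P
  set S := (P : Subgroup G) with hSdef
  set N := normalizer (S : Set G) with hNdef
  have h4 : 2 ^ 2 ∣ Nat.card N := by
    rcases card_normalizer_cases hG P with ⟨h, -⟩ | ⟨h, -⟩ <;> rw [hNdef, h] <;> norm_num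
  obtain ⟨T, hT⟩ := Sylow.exists_subgroup_card_pow_prime 2 h4
  have hconjS : ∀ t ∈ T, ∀ y ∈ S, (t : G) * y * (t : G)⁻¹ ∈ S := fun t _ y hy =>
    (mem_normalizer_iff.mp t.2 y).mp hy
  obtain ⟨⟨⟨z, hzN⟩, hzT⟩, hzo⟩ := exists_prime_orderOf_dvd_card' (G := T) 2
    (by rw [hT]; norm_num)
  rw [orderOf_mk, orderOf_mk] at hzo
  have hTcomm : ∀ t ∈ T, Commute z (t : G) := fun t ht =>
    congrArg (fun x : T => ((x : N) : G))
      (IsPGroup.commutative_of_card_eq_prime_sq hT (⟨⟨z, hzN⟩, hzT⟩ : T) ⟨t, ht⟩)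
  have hz2 : z * z = 1 := by rw [← sq, ← hzo, pow_orderOf_eq_one]
  have hzi : z⁻¹ = z := inv_eq_of_mul_eq_one_right hz2
  have hzS : ∀ y ∈ S, z * y * z⁻¹ ∈ S := fun y hy => (mem_normalizer_iff.mp hzN y).mp hy
  set F := S ⊓ centralizer ({z} : Set G) with hF
  have hFd : Nat.card F ∣ 3 ^ 2 := by
    rw [show (3 : ℕ) ^ 2 = 9 by norm_num]; exact hP ▸ card_dvd_of_le inf_le_left
  obtain ⟨j, hj, hFc⟩ := (Nat.dvd_prime_pow (by norm_num)).mp hFd
  have hfix : ∀ y ∈ S, y * (z * y * z⁻¹) ∈ F := fun y hy => by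
    refine ⟨mul_mem hy (hzS y hy), mem_centralizer_singleton_iff.mpr ?_⟩
    have hc := comm_of_card_nine hP hy (hzS y hy)
    calc y * (z * y * z⁻¹) * z = z * y * z⁻¹ * y * z := by rw [hc.eq]
      _ = z * (y * (z * y * z⁻¹)) := by rw [hzi]; group
  interval_cases j
  · -- `z` inverts `S`
    refine ⟨z, hzN, fun y hy => eq_inv_of_mul_eq_one_right ?_⟩
    have hF1 : F = ⊥ := eq_bot_of_card_eq F (by rw [hFc, pow_zero])
    exact mem_bot.mp (hF1 ▸ hfix y hy)
  · -- `z` is a reflection; some element of `T` inverts both axes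
    obtain ⟨⟨f, hf⟩, hfo⟩ := exists_prime_orderOf_dvd_card' (G := F) 3 (by rw [hFc]; norm_num)
    rw [orderOf_mk] at hfo
    obtain ⟨y, hy, hyF⟩ : ∃ y ∈ S, y ∉ F := by
      by_contra h
      push_neg at h
      have := card_dvd_of_le (H := S) (K := F) h
      rw [hP, hFc] at this
      norm_num at this
    let E : Subgroup G :=
      { carrier := {h | h ∈ S ∧ z * h * z⁻¹ = h⁻¹}
        one_mem' := ⟨one_mem _, by simp⟩
        mul_mem' := fun {a b} ha hb => ⟨mul_mem ha.1 hb.1, by
          rw [mul_inv_rev, (comm_of_card_nine hP (inv_mem hb.1) (inv_mem ha.1)).eq, ← ha.2,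
            ← hb.2]
          group⟩
        inv_mem' := fun {a} ha => ⟨inv_mem ha.1, by rw [← conj_inv, ha.2]⟩ }
    have hEle : E ≤ S := fun h hh => hh.1
    have heE : y * (z * y⁻¹ * z⁻¹) ∈ E := by
      refine ⟨mul_mem hy (hzS _ (inv_mem hy)), ?_⟩
      rw [show z * (y * (z * y⁻¹ * z⁻¹)) * z⁻¹ = (z * y * z⁻¹) * ((z * z) * y⁻¹ * (z * z)⁻¹) by
        group, hz2]
      group
    set e := y * (z * y⁻¹ * z⁻¹) with he
    have he1 : e ≠ 1 := by
      intro h
      apply hyF
      refine ⟨hy, mem_centralizer_singleton_iff.mpr ?_⟩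
      have h1 : y = z * y * z⁻¹ := by
        calc y = y * (z * y⁻¹ * z⁻¹) * (z * y * z⁻¹) := by group
          _ = _ := by rw [← he, h, one_mul]
      calc y * z = z * y * z⁻¹ * z := by rw [← h1]
        _ = z * y := by group
    have hE3 : Nat.card E = 3 := by
      have hd : Nat.card E ∣ 3 ^ 2 := by rw [show (3 : ℕ) ^ 2 = 9 by norm_num]; exact hP ▸ card_dvd_of_le hEle
      obtain ⟨i, hi, hEc⟩ := (Nat.dvd_prime_pow (by norm_num)).mp hd
      interval_cases i
      · exact absurd (mem_bot.mp (eq_bot_of_card_eq E (by rw [hEc, pow_zero]) ▸ heE)) he1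
      · simpa using hEc
      · have hES : E = S := eq_of_le_of_card_ge hEle (by rw [hP, hEc]; norm_num)
        have h1 : z * f * z⁻¹ = f⁻¹ := (hES ▸ hf.1 : f ∈ E).2
        rw [show z * f * z⁻¹ = f by
          rw [← (mem_centralizer_singleton_iff.mp hf.2)]; group] at h1
        have := orderOf_dvd_of_pow_eq_one (show f ^ 2 = 1 by
          rw [sq]; nth_rewrite 1 [h1]; exact inv_mul_cancel f)
        rw [hfo] at this
        norm_num at this
    have hzpf : zpowers f = F := eq_of_le_of_card_ge (zpowers_le.mpr hf)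
      (by rw [Nat.card_zpowers, hfo, hFc]; norm_num)
    have hzpe : zpowers e = E := zpowers_eq_of_card_prime hE3 heE he1
    have hthree : ∀ {g w : G}, orderOf g = 3 → w ∈ zpowers g → w ≠ 1 → w = g ∨ w = g⁻¹ := by
      intro g w hg hw h1
      obtain ⟨n, rfl⟩ := mem_zpowers_iff.mp hw
      rw [← zpow_mod_orderOf, hg] at h1 ⊢
      have h3 : n % (3 : ℕ) = 0 ∨ n % (3 : ℕ) = 1 ∨ n % (3 : ℕ) = 2 := by omega
      rcases h3 with h | h | h <;> rw [h] at h1 ⊢
      · exact absurd (zpow_zero g) h1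
      · exact Or.inl (zpow_one g)
      · refine Or.inr (eq_inv_of_mul_eq_one_left ?_)
        have h3 := pow_orderOf_eq_one g
        rw [hg] at h3
        rw [← h3]; group
    have heo : orderOf e = 3 := orderOf_of_card_prime hE3 heE he1
    have htf : ∀ t ∈ T, (t : G) * f * (t : G)⁻¹ = f ∨ (t : G) * f * (t : G)⁻¹ = f⁻¹ := by
      intro t ht
      refine hthree hfo ?_ (fun h => ?_)
      · rw [hzpf]
        refine ⟨hconjS t ht f hf.1, mem_centralizer_singleton_iff.mpr ?_⟩
        have h1 : Commute z f := (mem_centralizer_singleton_iff.mp hf.2).symm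
        exact (((hTcomm t ht).mul_right h1).mul_right (hTcomm t ht).inv_right).eq.symm
      · rw [conj_eq_one_iff] at h
        rw [h, orderOf_one] at hfo
        norm_num at hfo
    have hte : ∀ t ∈ T, (t : G) * e * (t : G)⁻¹ = e ∨ (t : G) * e * (t : G)⁻¹ = e⁻¹ := by
      intro t ht
      refine hthree heo ?_ (fun h => he1 (conj_eq_one_iff.mp h))
      rw [hzpe]
      refine ⟨hconjS t ht e heE.1, ?_⟩
      have hc := hTcomm t ht
      calc z * ((t : G) * e * (t : G)⁻¹) * z⁻¹
          = (z * t) * e * (z * t)⁻¹ := by group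
        _ = ((t : G) * z) * e * ((t : G) * z)⁻¹ := by rw [hc.eq]
        _ = (t : G) * (z * e * z⁻¹) * (t : G)⁻¹ := by group
        _ = ((t : G) * e * (t : G)⁻¹)⁻¹ := by rw [heE.2]; group
    let Inv : ∀ w : G, Subgroup G := fun w =>
      { carrier := {h | h ∈ S ∧ w * h * w⁻¹ = h}
        one_mem' := ⟨one_mem _, by simp⟩
        mul_mem' := fun {a b} ha hb => ⟨mul_mem ha.1 hb.1, by
          conv_rhs => rw [← ha.2, ← hb.2]
          group⟩
        inv_mem' := fun {a} ha => ⟨inv_mem ha.1, by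
          conv_rhs => rw [← ha.2]
          group⟩ }
    have hgen : ∀ H : Subgroup G, H ≤ S → f ∈ H → e ∈ H → H = S := by
      intro H hHS hfH heH
      have hd : Nat.card H ∣ 3 ^ 2 := by rw [show (3 : ℕ) ^ 2 = 9 by norm_num]; exact hP ▸ card_dvd_of_le hHS
      obtain ⟨i, hi, hHc⟩ := (Nat.dvd_prime_pow (by norm_num)).mp hd
      interval_cases i
      · exact absurd (mem_bot.mp (eq_bot_of_card_eq H (by rw [hHc, pow_zero]) ▸ heH)) he1
      · exfalso
        have h1 : F = H := hzpf ▸ eq_of_le_of_card_ge (zpowers_le.mpr hfH)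
          (by rw [Nat.card_zpowers, hfo, hHc]; norm_num)
        have h2 : z * e * z⁻¹ = e := by
          rw [← (mem_centralizer_singleton_iff.mp (h1 ▸ heH : e ∈ F).2)]; group
        rw [heE.2] at h2
        have := orderOf_dvd_of_pow_eq_one (show e ^ 2 = 1 by
          rw [sq]; nth_rewrite 1 [← h2]; exact inv_mul_cancel e)
        rw [heo] at this
        norm_num at this
      · exact eq_of_le_of_card_ge hHS (by rw [hP, hHc]; norm_num)
    let φ : T → Bool × Bool := fun t =>
      (decide (((t : N) : G) * f * ((t : N) : G)⁻¹ = f), decide (((t : N) : G) * e * ((t : N) : G)⁻¹ = e))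
    have hφ : Function.Injective φ := by
      rintro ⟨t, ht⟩ ⟨t', ht'⟩ h
      have h1 := decide_eq_decide.mp (congrArg Prod.fst h)
      have h2 := decide_eq_decide.mp (congrArg Prod.snd h)
      simp only at h1 h2
      have key : ∀ g : G, (((t : G) * g * (t : G)⁻¹ = g) ↔ ((t' : G) * g * (t' : G)⁻¹ = g)) →
          ((t : G) * g * (t : G)⁻¹ = g ∨ (t : G) * g * (t : G)⁻¹ = g⁻¹) →
          ((t' : G) * g * (t' : G)⁻¹ = g ∨ (t' : G) * g * (t' : G)⁻¹ = g⁻¹) →
          ((t' : G)⁻¹ * t) * g * ((t' : G)⁻¹ * t)⁻¹ = g := by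
        intro g hiff ha hb
        have heq : (t : G) * g * (t : G)⁻¹ = (t' : G) * g * (t' : G)⁻¹ := by
          by_cases hh : (t : G) * g * (t : G)⁻¹ = g
          · rw [hh, hiff.mp hh]
          · rw [ha.resolve_left hh, hb.resolve_left (fun h' => hh (hiff.mpr h'))]
        calc ((t' : G)⁻¹ * t) * g * ((t' : G)⁻¹ * t)⁻¹
            = (t' : G)⁻¹ * ((t : G) * g * (t : G)⁻¹) * t' := by group
          _ = g := by rw [heq]; group
      set w := (t' : G)⁻¹ * t with hw
      have hall : Inv w = S := hgen _ (fun h hh => hh.1)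
        ⟨hf.1, key f h1 (htf t ht) (htf t' ht')⟩ ⟨heE.1, key e h2 (hte t ht) (hte t' ht')⟩
      have hwS : w ∈ S := by
        rw [← hCS, mem_centralizer_iff]
        intro b hb
        have hb' : b ∈ Inv w := hall.symm ▸ hb
        have := hb'.2
        calc b * w = w * b * w⁻¹ * w := by rw [this]
          _ = w * b := by group
      have h4 : orderOf w ∣ 4 := by
        have h := Subgroup.orderOf_dvd_natCard T (mul_mem (inv_mem ht') ht)
        rw [hT, ← Subgroup.orderOf_coe] at h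
        simpa using h
      have hw1 : w = 1 := orderOf_eq_one_iff.mp (Nat.eq_one_of_dvd_coprimes
        (by norm_num : Nat.Coprime 4 9) h4 (hP ▸ Subgroup.orderOf_dvd_natCard S hwS))
      exact Subtype.ext (Subtype.ext (inv_mul_eq_one.mp hw1).symm)
    have := Fintype.ofFinite T
    have hbij : Function.Bijective φ := (Fintype.bijective_iff_injective_and_card φ).mpr
      ⟨hφ, by rw [← Nat.card_eq_fintype_card, hT]; rfl⟩
    obtain ⟨⟨t, ht⟩, htt⟩ := hbij.2 (false, false)
    simp only [φ, Prod.mk.injEq, decide_eq_false_iff_not] at htt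
    let Inv' : Subgroup G :=
      { carrier := {h | h ∈ S ∧ (t : G) * h * (t : G)⁻¹ = h⁻¹}
        one_mem' := ⟨one_mem _, by simp⟩
        mul_mem' := fun {a b} ha hb => ⟨mul_mem ha.1 hb.1, by
          rw [mul_inv_rev, (comm_of_card_nine hP (inv_mem hb.1) (inv_mem ha.1)).eq, ← ha.2,
            ← hb.2]
          group⟩
        inv_mem' := fun {a} ha => ⟨inv_mem ha.1, by rw [← conj_inv, ha.2]⟩ }
    have hall : Inv' = S := hgen _ (fun h hh => hh.1)
      ⟨hf.1, (htf t ht).resolve_left htt.1⟩ ⟨heE.1, (hte t ht).resolve_left htt.2⟩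
    exact ⟨(t : G), t.2, fun b hb => (hall.symm ▸ hb : b ∈ Inv').2⟩
  · -- `z` cannot centralise `S`
    exfalso
    have hFS : F = S := eq_of_le_of_card_ge inf_le_left (by rw [hP, hFc]; norm_num)
    exact not_centralizes_nine hG hP hzo fun b hb =>
      (mem_centralizer_singleton_iff.mp (hFS.symm ▸ hb : b ∈ F).2).symm

theorem exponent_three (hG : Cfsg.IsM11 G) [Fact (Nat.Prime 3)] (P : Sylow 3 G) {y : G}
    (hy : y ∈ (P : Subgroup G)) : y ^ 3 = 1 := by
  have hP := card_sylow3 hG P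
  set S := (P : Subgroup G) with hSdef
  by_contra h
  have h9 : orderOf (⟨y, hy⟩ : S) = 9 := by
    have hd : orderOf (⟨y, hy⟩ : S) ∣ 3 ^ 2 := by rw [show (3 : ℕ) ^ 2 = 9 by norm_num]; exact hP ▸ orderOf_dvd_natCard _
    obtain ⟨i, hi, hc⟩ := (Nat.dvd_prime_pow (by norm_num)).mp hd
    interval_cases i
    · exfalso; apply h
      rw [pow_zero, orderOf_eq_one_iff] at hc
      rw [show y = 1 from congrArg Subtype.val hc, one_pow]
    · exfalso; apply h
      have := pow_orderOf_eq_one (⟨y, hy⟩ : S)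
      rw [hc, pow_one] at this
      exact congrArg Subtype.val this
    · simpa using hc
  have : IsCyclic S := isCyclic_of_orderOf_eq_card _ (h9.trans hP.symm)
  have key := card_dvd_of_injective _ (QuotientGroup.kerLift_injective S.normalizerMonoidHom)
  rw [normalizerMonoidHom_ker, ← index, ← relIndex, IsCyclic.card_mulAut, hP,
    show (9 : ℕ).totient = 6 by decide] at key
  have hmul := card_centralizer_mul_relIndex' S
  rw [hSdef, centralizer_eq hG P, card_sylow3 hG P] at hmul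
  rw [hSdef, centralizer_eq hG P] at key
  rcases card_normalizer_cases hG P with ⟨hh, -⟩ | ⟨hh, -⟩ <;> rw [hh] at hmul
  · have := Nat.le_of_dvd (by norm_num) key
    omega
  · rw [Nat.eq_of_mul_eq_mul_left (by norm_num : 0 < 9) (hmul.trans (by norm_num : 36 = 9 * 4))]
      at key
    norm_num at key

end Cfsg.Agent.Steiner.M11
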